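/-
A matrix algebra stable under conjugation by the elementary matrices of each tensor slot, and containing a
non-scalar, contains all the matrices of some slot; if the slots are permuted, it contains everything.
-/
import Mathlib

set_option autoImplicit false
set_option linter.unusedSimpArgs false
set_option linter.unusedVariables false

namespace CfsgLib.Classical22.TWMax

open Matrix

variable {F : Type*} [Field F] {t m : ℕ}

/-- The matrix `X` acting on the `i`-th tensor slot. -/
def emb (i : Fin t) (X : Matrix (Fin m) (Fin m) F) : Matrix (Fin t → Fin m) (Fin t → Fin m) F :=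
  fun x y => if Function.update x i (y i) = y then X (x i) (y i) else 0

lemma update_self_eq {x y : Fin t → Fin m} {i : Fin t} :
    Function.update x i (y i) = y ↔ ∀ j, j ≠ i → x j = y j := by
  constructor
  · intro h j hj
    have := congrFun h j
    rwa [Function.update_of_ne hj] at this
  · intro h
    funext j
    by_cases hj : j = i
    · subst hj; simp
    · rw [Function.update_of_ne hj, h j hj]

lemma emb_mul_apply (i : Fin t) (X : Matrix (Fin m) (Fin m) F) (Y : Matrix (Fin t → Fin m) (Fin t → Fin m) F)
    (x y : Fin t → Fin m) : (emb i X * Y) x y = ∑ k, X (x i) k * Y (Function.update x i k) y := by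
  classical
  rw [Matrix.mul_apply]
  symm
  rw [← Finset.sum_image (s := Finset.univ) (g := Function.update x i)
    (f := fun z => X (x i) (z i) * Y z y) (fun k _ l _ h => Function.update_injective x i h) |>.trans
    (Finset.sum_congr rfl fun k _ => by simp)]
  refine Finset.sum_subset_zero_on_sdiff (Finset.subset_univ _) (fun z hz => ?_) (fun z hz => ?_)
  · have : Function.update x i (z i) ≠ z := fun h => by
      simp at hz
      exact hz (z i) h
    simp [emb, this]
  · simp only [Finset.mem_image, Finset.mem_univ, true_and] at hz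
    obtain ⟨k, rfl⟩ := hz
    simp [emb]

lemma mul_emb_apply (i : Fin t) (X : Matrix (Fin m) (Fin m) F) (Y : Matrix (Fin t → Fin m) (Fin t → Fin m) F)
    (x y : Fin t → Fin m) : (Y * emb i X) x y = ∑ k, Y x (Function.update y i k) * X k (y i) := by
  classical
  rw [Matrix.mul_apply]
  symm
  rw [← Finset.sum_image (s := Finset.univ) (g := Function.update y i)
    (f := fun z => Y x z * X (z i) (y i)) (fun k _ l _ h => Function.update_injective y i h) |>.trans
    (Finset.sum_congr rfl fun k _ => by simp)]
  refine Finset.sum_subset_zero_on_sdiff (Finset.subset_univ _) (fun z hz => ?_) (fun z hz => ?_)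
  · have : Function.update z i (y i) ≠ y := fun h => by
      simp at hz
      refine hz (z i) ?_
      rw [← h]
      simp
    simp [emb, this]
  · simp only [Finset.mem_image, Finset.mem_univ, true_and] at hz
    obtain ⟨k, rfl⟩ := hz
    simp [emb]

lemma emb_mul (i : Fin t) (X Y : Matrix (Fin m) (Fin m) F) : emb i (X * Y) = emb i X * emb i Y := by
  ext x y
  rw [emb_mul_apply, emb]
  by_cases h : Function.update x i (y i) = y
  · simp [h, emb, Matrix.mul_apply, Function.update_idem]
  · simp [h, emb, Function.update_idem]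

lemma emb_one (i : Fin t) : emb i (1 : Matrix (Fin m) (Fin m) F) = 1 := by
  ext x y
  by_cases hxy : x = y
  · subst hxy; simp [emb]
  · rw [Matrix.one_apply_ne hxy, emb]
    split_ifs with h
    · refine Matrix.one_apply_ne fun e => hxy ?_
      rw [← h, ← e, Function.update_eq_self]
    · rfl

lemma emb_add (i : Fin t) (X Y : Matrix (Fin m) (Fin m) F) : emb i (X + Y) = emb i X + emb i Y := by
  ext x y; simp [emb]; split_ifs <;> simp

lemma emb_smul (i : Fin t) (c : F) (X : Matrix (Fin m) (Fin m) F) : emb i (c • X) = c • emb i X := by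
  ext x y; simp [emb]

/-- `emb` as a linear map. -/
def embL (i : Fin t) : Matrix (Fin m) (Fin m) F →ₗ[F] Matrix (Fin t → Fin m) (Fin t → Fin m) F where
  toFun := emb i
  map_add' := emb_add i
  map_smul' := emb_smul i

lemma emb_comm {i j : Fin t} (hij : i ≠ j) (X Y : Matrix (Fin m) (Fin m) F) :
    emb i X * emb j Y = emb j Y * emb i X := by
  ext x y
  rw [emb_mul_apply, emb_mul_apply, Finset.sum_eq_single (y i), Finset.sum_eq_single (y j)]
  · by_cases h : ∀ l, l ≠ i → l ≠ j → x l = y l
    · have h1 : Function.update (Function.update x i (y i)) j (y j) = y := funext fun l => by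
        by_cases hlj : l = j
        · subst hlj; simp
        · by_cases hli : l = i
          · subst hli; simp [hlj]
          · simp [hlj, hli, h l hli hlj]
      have h2 : Function.update (Function.update x j (y j)) i (y i) = y := by
        rw [Function.update_comm hij.symm]; exact h1
      simp [emb, h1, h2, hij, hij.symm, mul_comm]
    · have h1 : Function.update (Function.update x i (y i)) j (y j) ≠ y := fun e => h fun l hli hlj => by
        simpa [hli, hlj] using congrFun e l
      have h2 : Function.update (Function.update x j (y j)) i (y i) ≠ y := fun e => h fun l hli hlj => by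
        simpa [hli, hlj] using congrFun e l
      simp [emb, h1, h2]
  · intro k _ hk
    have : Function.update (Function.update x j k) i (y i) ≠ y := fun e => hk (by
      simpa [hij.symm] using congrFun e j)
    simp [emb, this]
  · simp
  · intro k _ hk
    have : Function.update (Function.update x i k) j (y j) ≠ y := fun e => hk (by
      simpa [hij] using congrFun e i)
    simp [emb, this]
  · simp

/-- The matrix units of a slot. -/
abbrev su (i : Fin t) (k l : Fin m) : Matrix (Fin t → Fin m) (Fin t → Fin m) F := emb i (single k l 1)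

lemma su_mul (i : Fin t) (k l r : Fin m) : su (F := F) i k l * su i l r = su i k r := by
  rw [su, su, ← emb_mul, single_mul_single_same, one_mul]

lemma su_mul_ne (i : Fin t) {k l l' r : Fin m} (h : l ≠ l') : su (F := F) i k l * su i l' r = 0 := by
  rw [su, su, ← emb_mul, single_mul_single_of_ne (h := h)]
  exact (embL i).map_zero

lemma sum_su (i : Fin t) : ∑ k : Fin m, su (F := F) i k k = 1 := by
  have : ∑ k, single k k (1 : F) = (1 : Matrix (Fin m) (Fin m) F) := by
    ext a b
    rw [Matrix.sum_apply, Finset.sum_eq_single a (fun k _ hk => by simp [hk]) (by simp)]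
    by_cases hab : a = b
    · subst hab; simp
    · simp [hab]
  rw [← emb_one (F := F) i, ← this]
  exact (map_sum (embL i) _ _).symm

lemma su_apply (i : Fin t) (k l : Fin m) (x y : Fin t → Fin m) :
    su (F := F) i k l x y = if x i = k ∧ y = Function.update x i l then 1 else 0 := by
  by_cases h : x i = k ∧ y = Function.update x i l
  · obtain ⟨rfl, rfl⟩ := h
    simp [emb]
  · rw [if_neg h]
    simp only [su, emb]
    split_ifs with h'
    · rw [single_apply, if_neg]
      rintro ⟨rfl, rfl⟩
      exact h ⟨rfl, h'.symm⟩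
    · rfl

/-- Entries of a matrix commuting with the slot. -/
lemma entry_of_commute {i : Fin t} {X : Matrix (Fin t → Fin m) (Fin t → Fin m) F}
    (h : ∀ k l : Fin m, su i k l * X = X * su i k l) :
    (∀ x y, x i ≠ y i → X x y = 0) ∧
      ∀ x y, x i = y i → ∀ k, X (Function.update x i k) (Function.update y i k) = X x y := by
  have key : ∀ (k l : Fin m) x y, (if x i = k then X (Function.update x i l) y else 0) =
      (if y i = l then X x (Function.update y i k) else 0) := fun k l x y => by
    have e := congrFun (congrFun (h k l) x) y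
    rw [emb_mul_apply, mul_emb_apply] at e
    simpa [single_apply, ite_and, eq_comm] using e
  refine ⟨fun x y hxy => ?_, fun x y hxy k => ?_⟩
  · have := key (x i) (x i) x y
    simpa [hxy.symm] using this
  · have := key k (x i) (Function.update x i k) y
    simpa [hxy.symm] using this.symm

variable {Z : Submodule F (Matrix (Fin t → Fin m) (Fin t → Fin m) F)}

/-- Stability under the elementary conjugations of every slot. -/
def SlotStable (Z : Submodule F (Matrix (Fin t → Fin m) (Fin t → Fin m) F)) : Prop :=
  ∀ X ∈ Z, ∀ (i : Fin t) (k l : Fin m), k ≠ l → (1 + su i k l) * X * (1 - su i k l) ∈ Z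

lemma diff_mem (hZ : SlotStable Z) {X : Matrix (Fin t → Fin m) (Fin t → Fin m) F} (hX : X ∈ Z) (i : Fin t)
    {k l : Fin m} (h : k ≠ l) : su i k l * X - X * su i k l - su i k l * X * su i k l ∈ Z := by
  have := Z.sub_mem (hZ X hX i k l h) hX
  convert this using 1
  noncomm_ring

lemma left_mem (hZ : SlotStable Z) {Y : Matrix (Fin t → Fin m) (Fin t → Fin m) F} (hY : Y ∈ Z) (i : Fin t)
    {k l r : Fin m} (hk : su i k k * Y = Y) (hl : Y * su i l l = Y) (hrk : r ≠ k) (hrl : r ≠ l) :
    su i r k * Y ∈ Z := by
  have := diff_mem hZ hY i hrk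
  have e : Y * su i r k = 0 := by rw [← hl, mul_assoc, su_mul_ne i hrl.symm, mul_zero]
  rwa [mul_assoc (su i r k) Y, e, mul_zero, sub_zero, sub_zero] at this

lemma right_mem (hZ : SlotStable Z) {Y : Matrix (Fin t → Fin m) (Fin t → Fin m) F} (hY : Y ∈ Z) (i : Fin t)
    {k l r : Fin m} (hk : su i k k * Y = Y) (hl : Y * su i l l = Y) (hrk : r ≠ k) (hrl : r ≠ l) :
    Y * su i l r ∈ Z := by
  have := diff_mem hZ hY i hrl.symm
  have e : su i l r * Y = 0 := by rw [← hk, ← mul_assoc, su_mul_ne i hrk, zero_mul]
  rw [e, zero_mul, sub_zero, zero_sub] at this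
  simpa using Z.neg_mem this

lemma exists_third (hm : 3 ≤ m) (k l : Fin m) : ∃ r, r ≠ k ∧ r ≠ l := by
  obtain ⟨r, -, hr⟩ := Finset.exists_mem_notMem_of_card_lt_card (s := ({k, l} : Finset (Fin m))) (t := Finset.univ)
    (Finset.card_le_two.trans_lt (by simp; omega))
  simp at hr
  exact ⟨r, hr.1, hr.2⟩

/-- A stable space with an element not commuting with slot `i` has a non-zero corner in that slot. -/
theorem exists_corner (hm : 3 ≤ m) (hZ : SlotStable Z) {X : Matrix (Fin t → Fin m) (Fin t → Fin m) F} (hX : X ∈ Z)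
    {i : Fin t} (hne : ¬ ∀ k l : Fin m, su i k l * X = X * su i k l)
    (P : Matrix (Fin t → Fin m) (Fin t → Fin m) F → Prop) (hP : P X)
    (hPl : ∀ Y, P Y → ∀ k l, P (su i k l * Y)) (hPr : ∀ Y, P Y → ∀ k l, P (Y * su i k l))
    (hPs : ∀ Y Y', P Y → P Y' → P (Y - Y')) :
    ∃ Y ∈ Z, Y ≠ 0 ∧ P Y ∧ ∃ k l, k ≠ l ∧ su i k k * Y = Y ∧ Y * su i l l = Y := by
  by_cases hdiag : ∀ k r : Fin m, k ≠ r → su i r r * X * su i k k = 0
  · have hXk : ∀ k, su i k k * X = X * su i k k := fun k => by
      have e1 : su i k k * X = su i k k * X * su i k k := by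
        conv_lhs => rw [← mul_one (su i k k * X), ← sum_su i, Finset.mul_sum]
        exact Finset.sum_eq_single k (fun r _ hr => hdiag r k hr) (by simp)
      have e2 : X * su i k k = su i k k * X * su i k k := by
        conv_lhs => rw [← one_mul (X * su i k k), ← sum_su i, Finset.sum_mul]
        refine (Finset.sum_eq_single k (fun r _ hr => ?_) (by simp)).trans (mul_assoc _ _ _).symm
        rw [← mul_assoc, hdiag k r hr.symm]
      rw [e1, e2]
    obtain ⟨k, l, hkl, hne'⟩ : ∃ k l, k ≠ l ∧ su i k l * X ≠ X * su i k l := by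
      by_contra h
      push Not at h
      exact hne fun k l => if e : k = l then e ▸ hXk k else h k l e
    have hzero : su i k l * X * su i k l = 0 := by
      have : su i k l * X * su i k l = su i k l * (su i l l * X * su i k k) * su i k l :=
        calc su i k l * X * su i k l = (su i k l * su i l l) * X * (su i k k * su i k l) := by rw [su_mul, su_mul]
          _ = _ := by simp only [mul_assoc]
      rw [this, hdiag k l hkl, mul_zero, zero_mul]
    refine ⟨su i k l * X - X * su i k l, ?_, sub_ne_zero.mpr hne', hPs _ _ (hPl _ hP _ _) (hPr _ hP _ _),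
      k, l, hkl, ?_, ?_⟩
    · have := diff_mem hZ hX i hkl
      rwa [hzero, sub_zero] at this
    · rw [mul_sub, ← mul_assoc, su_mul, ← mul_assoc, hXk, mul_assoc, su_mul]
    · rw [sub_mul, mul_assoc, ← hXk, ← mul_assoc, su_mul, mul_assoc, su_mul]
  push Not at hdiag
  obtain ⟨k, r, hkr, hne'⟩ := hdiag
  obtain ⟨l, hlk, hlr⟩ := exists_third hm k r
  obtain ⟨D1, hD1⟩ : ∃ D, D = su i k l * X - X * su i k l - su i k l * X * su i k l := ⟨_, rfl⟩
  obtain ⟨D2, hD2⟩ : ∃ D, D = su i k r * D1 - D1 * su i k r - su i k r * D1 * su i k r := ⟨_, rfl⟩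
  have h2 : D2 ∈ Z := hD2 ▸ diff_mem hZ (hD1 ▸ diff_mem hZ hX i hlk.symm) i hkr
  have h3 := diff_mem hZ h2 i hlr
  have z1 : su (F := F) i k r * su i k l = 0 := su_mul_ne i hkr.symm
  have z2 : su (F := F) i k l * su i k r = 0 := su_mul_ne i hlk
  have z3 : su (F := F) i l r * su i k r = 0 := su_mul_ne i hkr.symm
  have z4 : su (F := F) i l r * su i k l = 0 := su_mul_ne i hkr.symm
  have z5 : su (F := F) i k r * su i l r = 0 := su_mul_ne i hlr.symm
  have e2 : D2 = -(su i k r * X * su i k l) - su i k l * X * su i k r := by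
    rw [hD2, hD1]
    have z1' : ∀ W : Matrix (Fin t → Fin m) (Fin t → Fin m) F, su i k r * (su i k l * W) = 0 := fun W => by
      rw [← mul_assoc, z1, zero_mul]
    have z2' : ∀ W : Matrix (Fin t → Fin m) (Fin t → Fin m) F, su i k l * (su i k r * W) = 0 := fun W => by
      rw [← mul_assoc, z2, zero_mul]
    simp only [mul_sub, sub_mul, neg_mul, mul_assoc, z1', z2, mul_zero, neg_zero, sub_zero, zero_sub]
  have e3 : su i l r * D2 - D2 * su i l r - su i l r * D2 * su i l r = su i k r * X * su i k r := by
    have hl : su i l r * D2 = 0 := by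
      rw [e2, mul_sub, mul_neg, ← mul_assoc, ← mul_assoc, z3, zero_mul, zero_mul, ← mul_assoc, ← mul_assoc, z4]
      simp
    rw [hl, zero_mul, e2, sub_mul, neg_mul]
    rw [mul_assoc _ (su i k l) (su i l r), su_mul, mul_assoc _ (su i k r) (su i l r), z5, mul_zero]
    simp
  rw [e3] at h3
  refine ⟨_, h3, fun h0 => hne' ?_, hPr _ (hPl _ hP _ _) _ _, k, r, hkr, ?_, ?_⟩
  · have := congrArg (fun W => su i r k * W * su i r k) h0
    simp only [mul_zero, zero_mul] at this
    rw [← this]
    simp only [← mul_assoc, su_mul]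
    simp only [mul_assoc, su_mul]
  · rw [← mul_assoc, ← mul_assoc, su_mul]
  · rw [mul_assoc _ (su i k r) (su i r r), su_mul]

/-- The product of slot units over `S`. -/
def unitsOn (S : Finset (Fin t)) (f g : Fin t → Fin m) : Matrix (Fin t → Fin m) (Fin t → Fin m) F :=
  fun x y => if (∀ j ∈ S, x j = f j ∧ y j = g j) ∧ ∀ j ∉ S, x j = y j then 1 else 0

lemma su_mul_unitsOn {S : Finset (Fin t)} {i : Fin t} (hi : i ∈ S) (f g : Fin t → Fin m) (r : Fin m) :
    su (F := F) i r (f i) * unitsOn S f g = unitsOn S (Function.update f i r) g := by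
  ext x y
  rw [emb_mul_apply, Finset.sum_eq_single (f i)]
  · simp only [single_apply, unitsOn]
    by_cases hx : x i = r
    · simp only [hx, eq_self_iff_true, and_self, if_true, one_mul]
      congr 1
      refine propext (and_congr ⟨fun h j hj => ?_, fun h j hj => ?_⟩ ⟨fun h j hj => ?_, fun h j hj => ?_⟩)
      · by_cases hji : j = i
        · subst hji; exact ⟨by simp [hx], (h j hj).2⟩
        · simpa [hji] using h j hj
      · by_cases hji : j = i
        · subst hji; exact ⟨by simp, (h j hj).2⟩
        · simpa [hji] using h j hj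
      · have hji : j ≠ i := fun e => hj (e ▸ hi)
        simpa [hji] using h j hj
      · have hji : j ≠ i := fun e => hj (e ▸ hi)
        simpa [hji] using h j hj
    · rw [if_neg (fun h => hx h.1.symm), zero_mul, if_neg]
      exact fun h => hx (by simpa using (h.1 i hi).1)
  · intro k _ hk
    have : ¬ ((∀ j ∈ S, Function.update x i k j = f j ∧ y j = g j) ∧ ∀ j ∉ S, Function.update x i k j = y j) :=
      fun h => hk (by simpa using (h.1 i hi).1)
    simp [unitsOn, this]
  · simp

lemma unitsOn_mul_su {S : Finset (Fin t)} {i : Fin t} (hi : i ∈ S) (f g : Fin t → Fin m) (r : Fin m) :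
    unitsOn (F := F) S f g * su i (g i) r = unitsOn S f (Function.update g i r) := by
  ext x y
  rw [mul_emb_apply, Finset.sum_eq_single (g i)]
  · simp only [single_apply, unitsOn]
    by_cases hy : y i = r
    · simp only [hy, eq_self_iff_true, and_self, if_true, mul_one]
      congr 1
      refine propext (and_congr ⟨fun h j hj => ?_, fun h j hj => ?_⟩ ⟨fun h j hj => ?_, fun h j hj => ?_⟩)
      · by_cases hji : j = i
        · subst hji; exact ⟨(h j hj).1, by simp [hy]⟩
        · simpa [hji] using h j hj
      · by_cases hji : j = i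
        · subst hji; exact ⟨(h j hj).1, by simp⟩
        · simpa [hji] using h j hj
      · have hji : j ≠ i := fun e => hj (e ▸ hi)
        simpa [hji] using h j hj
      · have hji : j ≠ i := fun e => hj (e ▸ hi)
        simpa [hji] using h j hj
    · simp only [Ne.symm hy, and_false, if_false, mul_zero]
      rw [if_neg]
      exact fun h => hy (by simpa using (h.1 i hi).2)
  · intro k _ hk
    have : ¬ ((∀ j ∈ S, x j = f j ∧ Function.update y i k j = g j) ∧ ∀ j ∉ S, x j = Function.update y i k j) :=
      fun h => hk (by simpa using (h.1 i hi).2)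
    simp [unitsOn, this]
  · simp

lemma unitsOn_mul (S : Finset (Fin t)) (f g h : Fin t → Fin m) :
    unitsOn (F := F) S f g * unitsOn S g h = unitsOn S f h := by
  classical
  ext x y
  rw [Matrix.mul_apply, Finset.sum_eq_single (fun j => if j ∈ S then g j else x j)]
  · simp only [unitsOn]
    by_cases hx : ∀ j ∈ S, x j = f j
    · rw [if_pos ⟨fun j hj => ⟨hx j hj, by simp [hj]⟩, fun j hj => by simp [hj]⟩, one_mul]
      congr 1
      refine propext (and_congr ⟨fun h' j hj => ⟨hx j hj, (h' j hj).2⟩, fun h' j hj => ⟨by simp [hj], (h' j hj).2⟩⟩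
        ⟨fun h' j hj => by simpa [hj] using h' j hj, fun h' j hj => by simpa [hj] using h' j hj⟩)
    · rw [if_neg (fun h' => hx fun j hj => (h'.1 j hj).1), zero_mul, if_neg]
      exact fun h' => hx fun j hj => (h'.1 j hj).1
  · intro z _ hz
    by_cases h' : (∀ j ∈ S, x j = f j ∧ z j = g j) ∧ ∀ j ∉ S, x j = z j
    · exact absurd (funext fun j => by by_cases hj : j ∈ S <;> simp [hj, (h'.1 j), (h'.2 j)]) hz
    · simp [unitsOn, h']
  · simp

lemma sum_unitsOn_update {S : Finset (Fin t)} {j : Fin t} (hj : j ∈ S) (f g : Fin t → Fin m) :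
    ∑ k, unitsOn (F := F) S (Function.update f j k) (Function.update g j k) = unitsOn (S.erase j) f g := by
  classical
  ext x y
  rw [Matrix.sum_apply, Finset.sum_eq_single (x j)]
  · simp only [unitsOn]
    congr 1
    refine propext ⟨fun h => ⟨fun l hl => ?_, fun l hl => ?_⟩, fun h => ⟨fun l hl => ?_, fun l hl => ?_⟩⟩
    · rw [Finset.mem_erase] at hl
      simpa [hl.1] using h.1 l hl.2
    · by_cases hlj : l = j
      · subst hlj; exact (by simpa using (h.1 l hj).2 : y l = x l).symm
      · exact h.2 l fun hS => hl (Finset.mem_erase.mpr ⟨hlj, hS⟩)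
    · by_cases hlj : l = j
      · subst hlj; exact ⟨by simp, by simpa using (h.2 l (Finset.notMem_erase l S)).symm⟩
      · simpa [hlj] using h.1 l (Finset.mem_erase.mpr ⟨hlj, hl⟩)
    · exact h.2 l fun hS => hl (Finset.mem_of_mem_erase hS)
  · intro k _ hk
    have : ¬ ((∀ l ∈ S, x l = Function.update f j k l ∧ y l = Function.update g j k l) ∧ ∀ l ∉ S, x l = y l) :=
      fun h => hk (by simpa using (h.1 j hj).1.symm)
    simp [unitsOn, this]
  · simp

lemma unitsOn_singleton (i : Fin t) (f g : Fin t → Fin m) : unitsOn (F := F) {i} f g = su i (f i) (g i) := by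
  ext x y
  rw [su_apply]
  simp only [unitsOn]
  congr 1
  refine propext ⟨fun h => ⟨(h.1 i (by simp)).1, funext fun j => ?_⟩, fun h => ⟨fun j hj => ?_, fun j hj => ?_⟩⟩
  · by_cases hj : j = i
    · subst hj; simpa using (h.1 j (by simp)).2
    · simpa [hj] using (h.2 j (by simp [hj])).symm
  · rw [Finset.mem_singleton] at hj
    subst hj
    exact ⟨h.1, by rw [h.2]; simp⟩
  · rw [Finset.mem_singleton] at hj
    rw [h.2]; simp [hj]

/-- A corner in every slot of `S`, commuting with the others, is a multiple of the product of units. -/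
lemma eq_smul_unitsOn {S : Finset (Fin t)} {Y : Matrix (Fin t → Fin m) (Fin t → Fin m) F} {f g : Fin t → Fin m}
    (hS : ∀ i ∈ S, su i (f i) (f i) * Y = Y ∧ Y * su i (g i) (g i) = Y)
    (hc : ∀ i ∉ S, ∀ k l, su i k l * Y = Y * su i k l) : ∃ c : F, Y = c • unitsOn S f g := by
  classical
  have hmain : ∀ x y, Y x y ≠ 0 → (∀ j ∈ S, x j = f j ∧ y j = g j) ∧ ∀ j ∉ S, x j = y j := by
    intro x y hne
    refine ⟨fun j hj => ⟨?_, ?_⟩, fun j hj => ?_⟩
    · by_contra h
      refine hne ?_
      rw [← (hS j hj).1, emb_mul_apply]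
      simp [Ne.symm h]
    · by_contra h
      refine hne ?_
      rw [← (hS j hj).2, mul_emb_apply]
      simp [Ne.symm h]
    · by_contra h
      exact hne ((entry_of_commute (hc j hj)).1 x y h)
  by_cases h0 : Y = 0
  · exact ⟨0, by rw [h0, zero_smul]⟩
  obtain ⟨x₀, y₀, h00⟩ : ∃ x y, Y x y ≠ 0 := by
    by_contra h
    push Not at h
    exact h0 (Matrix.ext h)
  obtain ⟨hS0, hN0⟩ := hmain x₀ y₀ h00
  refine ⟨Y x₀ y₀, Matrix.ext fun x y => ?_⟩
  simp only [Matrix.smul_apply, unitsOn, smul_eq_mul]
  split_ifs with h
  · have key : ∀ U : Finset (Fin t), Disjoint U S →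
        Y (fun j => if j ∈ U then x j else x₀ j) (fun j => if j ∈ U then y j else y₀ j) = Y x₀ y₀ := by
      intro U hU
      induction U using Finset.induction_on with
      | empty => simp
      | insert j U hjU ih =>
        rw [Finset.disjoint_insert_left] at hU
        rw [← ih hU.2, ← (entry_of_commute (hc j hU.1)).2 (fun l => if l ∈ U then x l else x₀ l)
          (fun l => if l ∈ U then y l else y₀ l) (by simp [hjU, hN0 j hU.1]) (x j)]
        congr 1 <;> funext l <;> by_cases hl : l = j
        · subst hl; simp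
        · simp [hl]
        · subst hl; simp [h.2 l hU.1]
        · simp [hl]
    rw [mul_one, ← key Sᶜ disjoint_compl_left]
    congr 1 <;> funext l <;> by_cases hl : l ∈ S
    · simp [hl, (h.1 l hl).1, (hS0 l hl).1]
    · simp [hl]
    · simp [hl, (h.1 l hl).2, (hS0 l hl).2]
    · simp [hl]
  · rw [mul_zero]
    by_contra hne
    exact h (hmain x y hne)

/-- The algebra contains all matrices of some slot. -/
theorem exists_slot (hm : 3 ≤ m) (hmul : ∀ X ∈ Z, ∀ Y ∈ Z, X * Y ∈ Z)
    (hZ : SlotStable Z) {X : Matrix (Fin t → Fin m) (Fin t → Fin m) F} (hX : X ∈ Z)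
    (hns : ¬ ∃ c : F, X = c • 1) : ∃ i : Fin t, ∀ W, emb i W ∈ Z := by
  classical
  -- corners
  have h1 : ∀ U : Finset (Fin t), ∃ S ⊆ U, ∃ f g : Fin t → Fin m, ∃ Y ∈ Z,
      (S = ∅ → Y = X) ∧ (S.Nonempty → Y ≠ 0) ∧
      (∀ i ∈ S, f i ≠ g i ∧ su i (f i) (f i) * Y = Y ∧ Y * su i (g i) (g i) = Y) ∧
      (∀ i ∈ U, i ∉ S → ∀ k l, su i k l * Y = Y * su i k l) := by
    intro U
    induction U using Finset.induction_on with
    | empty =>
      exact ⟨∅, subset_rfl, fun _ => ⟨0, by omega⟩, fun _ => ⟨0, by omega⟩, X, hX, fun _ => rfl,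
        fun h => absurd h Finset.not_nonempty_empty, fun i hi => absurd hi (by simp), fun i hi => absurd hi (by simp)⟩
    | insert j U hjU ih =>
      obtain ⟨S, hSU, f, g, Y, hY, hS0, hSn, hS, hc⟩ := ih
      by_cases hj : ∀ k l, su j k l * Y = Y * su j k l
      · exact ⟨S, hSU.trans (Finset.subset_insert _ _), f, g, Y, hY, hS0, hSn, hS,
          fun i hi hiS => (Finset.mem_insert.mp hi).elim (fun e => e ▸ hj) fun h => hc i h hiS⟩
      obtain ⟨Y', hY', hne', ⟨hP1, hP2⟩, k, l, hkl, hk, hl⟩ := exists_corner hm hZ hY hj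
        (fun W => (∀ i ∈ S, su i (f i) (f i) * W = W ∧ W * su i (g i) (g i) = W) ∧
          ∀ i ∈ U, i ∉ S → ∀ k l, su i k l * W = W * su i k l)
        ⟨fun i hi => (hS i hi).2, hc⟩
        (fun W hW k l => ⟨fun i hi => by
            have hij : i ≠ j := fun e => hjU (e ▸ hSU hi)
            refine ⟨?_, by rw [mul_assoc, (hW.1 i hi).2]⟩
            rw [← mul_assoc, emb_comm hij, mul_assoc, (hW.1 i hi).1],
          fun i hi hiS k' l' => by
            have hij : i ≠ j := fun e => hjU (e ▸ hi)
            rw [← mul_assoc, emb_comm hij, mul_assoc, hW.2 i hi hiS, ← mul_assoc]⟩)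
        (fun W hW k l => ⟨fun i hi => by
            have hij : i ≠ j := fun e => hjU (e ▸ hSU hi)
            refine ⟨by rw [← mul_assoc, (hW.1 i hi).1], ?_⟩
            rw [mul_assoc, emb_comm hij.symm, ← mul_assoc, (hW.1 i hi).2],
          fun i hi hiS k' l' => by
            have hij : i ≠ j := fun e => hjU (e ▸ hi)
            rw [← mul_assoc, hW.2 i hi hiS, mul_assoc, emb_comm hij, ← mul_assoc]⟩)
        (fun W W' hW hW' => ⟨fun i hi => ⟨by rw [mul_sub, (hW.1 i hi).1, (hW'.1 i hi).1],
            by rw [sub_mul, (hW.1 i hi).2, (hW'.1 i hi).2]⟩,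
          fun i hi hiS k' l' => by rw [mul_sub, sub_mul, hW.2 i hi hiS, hW'.2 i hi hiS]⟩)
      refine ⟨insert j S, Finset.insert_subset_insert _ hSU, Function.update f j k, Function.update g j l, Y', hY',
        fun h => absurd h (Finset.insert_ne_empty _ _), fun _ => hne', fun i hi => ?_, fun i hi hiS => ?_⟩
      · rcases Finset.mem_insert.mp hi with rfl | hi
        · simp [hkl, hk, hl]
        · have hij : i ≠ j := fun e => hjU (e ▸ hSU hi)
          simpa [hij, (hS i hi).1] using hP1 i hi
      · rw [Finset.mem_insert, not_or] at hiS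
        exact hP2 i ((Finset.mem_insert.mp hi).resolve_left hiS.1) hiS.2
  obtain ⟨S, -, f, g, Y, hY, hS0, hSn, hS, hc⟩ := h1 Finset.univ
  obtain ⟨c, hYc⟩ := eq_smul_unitsOn (fun i hi => (hS i hi).2) (fun i hi => hc i (Finset.mem_univ i) hi)
  have hne : S.Nonempty := by
    rw [Finset.nonempty_iff_ne_empty]
    intro h
    subst h
    refine hns ⟨c, ?_⟩
    rw [← hS0 rfl, hYc]
    congr 1
    ext x y
    simp [unitsOn, Matrix.one_apply, funext_iff]
  have hc0 : c ≠ 0 := fun h => hSn hne (by rw [hYc, h, zero_smul])
  have hmem : unitsOn S f g ∈ Z := by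
    have := Z.smul_mem c⁻¹ hY
    rwa [hYc, inv_smul_smul₀ hc0] at this
  -- all choices of off-diagonal units
  have hspread : ∀ T : Finset (Fin t), ∀ f g : Fin t → Fin m, (∀ i ∈ T, f i ≠ g i) → unitsOn T f g ∈ Z →
      ∀ f' g' : Fin t → Fin m, (∀ i ∈ T, f' i ≠ g' i) → unitsOn T f' g' ∈ Z := by
    intro T
    have hl : ∀ f g : Fin t → Fin m, unitsOn T f g ∈ Z → ∀ i ∈ T, ∀ r, r ≠ f i → r ≠ g i →
        unitsOn T (Function.update f i r) g ∈ Z ∧ unitsOn T f (Function.update g i r) ∈ Z := by
      intro f g hfg i hi r h1 h2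
      have e1 : su i (f i) (f i) * unitsOn (F := F) T f g = unitsOn T f g := by
        rw [su_mul_unitsOn hi, Function.update_eq_self]
      have e2 : unitsOn (F := F) T f g * su i (g i) (g i) = unitsOn T f g := by
        rw [unitsOn_mul_su hi, Function.update_eq_self]
      refine ⟨?_, ?_⟩
      · rw [← su_mul_unitsOn hi]; exact left_mem hZ hfg i e1 e2 h1 h2
      · rw [← unitsOn_mul_su hi]; exact right_mem hZ hfg i e1 e2 h1 h2
    intro f g hd hfg f' g' hd'
    have : ∀ U ⊆ T, ∃ F' G' : Fin t → Fin m, unitsOn T F' G' ∈ Z ∧ (∀ i ∈ T, F' i ≠ G' i) ∧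
        ∀ i ∈ U, F' i = f' i ∧ G' i = g' i := by
      intro U
      induction U using Finset.induction_on with
      | empty => exact fun _ => ⟨f, g, hfg, hd, by simp⟩
      | insert i U hiU ih =>
        intro hU
        rw [Finset.insert_subset_iff] at hU
        obtain ⟨F', G', hm', hd'', he⟩ := ih hU.2
        have goal : ∀ A B, unitsOn T (Function.update F' i A) (Function.update G' i B) ∈ Z → A = f' i → B = g' i →
            ∃ F' G' : Fin t → Fin m, unitsOn T F' G' ∈ Z ∧ (∀ i ∈ T, F' i ≠ G' i) ∧
              ∀ j ∈ insert i U, F' j = f' j ∧ G' j = g' j := by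
          rintro A B h rfl rfl
          refine ⟨_, _, h, fun j hj => ?_, fun j hj => ?_⟩
          · by_cases hji : j = i
            · subst hji; simpa using hd' j hj
            · simpa [hji] using hd'' j hj
          · rcases Finset.mem_insert.mp hj with rfl | hj
            · simp
            · have hji : j ≠ i := fun e => hiU (e ▸ hj)
              simpa [hji] using he j hj
        have hupd : ∀ A B, unitsOn T (Function.update F' i A) (Function.update G' i B) ∈ Z →
            ∀ r, r ≠ A → r ≠ B → unitsOn T (Function.update F' i r) (Function.update G' i B) ∈ Z ∧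
              unitsOn T (Function.update F' i A) (Function.update G' i r) ∈ Z := by
          intro A B h r h1 h2
          have := hl _ _ h i hU.1 r (by simpa using h1) (by simpa using h2)
          simpa [Function.update_idem] using this
        have h0 : unitsOn T (Function.update F' i (F' i)) (Function.update G' i (G' i)) ∈ Z := by simpa using hm'
        obtain ⟨a, ha⟩ : ∃ a, a = F' i := ⟨_, rfl⟩
        obtain ⟨b, hb⟩ : ∃ b, b = G' i := ⟨_, rfl⟩
        rw [← ha, ← hb] at h0
        have hab : a ≠ b := ha ▸ hb ▸ hd'' i hU.1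
        have hk : f' i ≠ g' i := hd' i hU.1
        -- change the first index
        obtain ⟨b', hb', hfb⟩ : ∃ b', f' i ≠ b' ∧
            unitsOn T (Function.update F' i (f' i)) (Function.update G' i b') ∈ Z := by
          by_cases e : f' i = b
          · obtain ⟨r, hra, hrb⟩ := exists_third hm a b
            by_cases ea : f' i = a
            · exact ⟨b, fun _ => hab (ea.symm.trans e), ea ▸ h0⟩
            refine ⟨r, e ▸ hrb.symm, ?_⟩
            exact (hupd a r (hupd a b h0 r hra hrb).2 (f' i) ea (e ▸ hrb.symm)).1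
          · refine ⟨b, e, ?_⟩
            by_cases ea : f' i = a
            · exact ea ▸ h0
            · exact (hupd a b h0 (f' i) ea e).1
        by_cases eb : g' i = b'
        · exact goal _ _ hfb rfl eb.symm
        · exact goal _ _ (hupd (f' i) b' hfb (g' i) hk.symm eb).2 rfl rfl
    obtain ⟨F', G', hm', -, he⟩ := this T subset_rfl
    convert hm' using 1
    ext x y
    simp only [unitsOn]
    congr 1
    exact propext (and_congr ⟨fun h j hj => by rw [(he j hj).1, (he j hj).2]; exact h j hj,
      fun h j hj => by rw [← (he j hj).1, ← (he j hj).2]; exact h j hj⟩ Iff.rfl)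
  -- shrink
  have hshrink : ∀ n, ∀ T : Finset (Fin t), T.card = n → T.Nonempty →
      (∀ f g : Fin t → Fin m, (∀ i ∈ T, f i ≠ g i) → unitsOn T f g ∈ Z) →
      ∃ i, ∀ k l, k ≠ l → su i k l ∈ Z := by
    intro n
    induction n using Nat.strong_induction_on with
    | _ n ih =>
      intro T hT hne hall
      obtain ⟨i, rfl⟩ | hnt := em (∃ i, T = {i})
      · refine ⟨i, fun k l hkl => ?_⟩
        have := hall (fun _ => k) (fun _ => l) (fun _ _ => hkl)
        rwa [unitsOn_singleton] at this
      obtain ⟨j, hj⟩ := hne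
      refine ih (T.erase j).card (by rw [← hT]; exact Finset.card_lt_card (Finset.erase_ssubset hj)) _ rfl ?_
        fun f g hfg => ?_
      · rw [Finset.nonempty_iff_ne_empty]
        intro h
        exact hnt ⟨j, (Finset.erase_eq_empty_iff T j).mp h |>.resolve_left (Finset.ne_empty_of_mem hj)⟩
      · rw [← sum_unitsOn_update hj]
        refine Z.sum_mem fun k _ => ?_
        obtain ⟨mid, hmid⟩ : ∃ mid : Fin t → Fin m, ∀ i, mid i ≠ Function.update f j k i ∧
            mid i ≠ Function.update g j k i := by
          choose mid h1 h2 using fun i => exists_third hm (Function.update f j k i) (Function.update g j k i)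
          exact ⟨mid, fun i => ⟨h1 i, h2 i⟩⟩
        rw [← unitsOn_mul T _ mid]
        exact hmul _ (hall _ _ fun i _ => (hmid i).1.symm) _ (hall _ _ fun i _ => (hmid i).2)
  obtain ⟨i, hi⟩ := hshrink _ S rfl hne fun f' g' h => hspread S f g (fun i hi => (hS i hi).1) hmem f' g' h
  refine ⟨i, fun W => ?_⟩
  have hall : ∀ k l, su i k l ∈ Z := fun k l => by
    by_cases h : k = l
    · subst h
      obtain ⟨r, hr, -⟩ := exists_third hm k k
      rw [← su_mul i k r k]
      exact hmul _ (hi k r hr.symm) _ (hi r k hr)
    · exact hi k l h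
  change embL i W ∈ Z
  rw [Matrix.matrix_eq_sum_single W, map_sum]
  refine Z.sum_mem fun k _ => ?_
  rw [map_sum]
  refine Z.sum_mem fun l _ => ?_
  rw [show single k l (W k l) = W k l • single k l (1 : F) by simp [smul_single], map_smul]
  exact Z.smul_mem _ (hall k l)

/-- With every slot reached, the algebra is everything. -/
theorem eq_top_of_slots (hmul : ∀ X ∈ Z, ∀ Y ∈ Z, X * Y ∈ Z) (hone : (1 : Matrix _ _ F) ∈ Z)
    (h : ∀ i, ∀ W, emb i W ∈ Z) : Z = ⊤ := by
  classical
  refine eq_top_iff.mpr fun X _ => ?_
  have hprod : ∀ x y : Fin t → Fin m, ∀ U : Finset (Fin t), unitsOn U x y ∈ Z := by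
    intro x y U
    induction U using Finset.induction_on with
    | empty =>
      convert hone using 1
      ext a b
      simp [unitsOn, Matrix.one_apply, funext_iff]
    | insert i U hi ih =>
      have : unitsOn (F := F) (insert i U) x y = su i (x i) (y i) * unitsOn U x y := by
        ext a b
        rw [emb_mul_apply, Finset.sum_eq_single (y i)]
        · simp only [single_apply, unitsOn]
          by_cases ha : a i = x i
          · simp only [ha, eq_self_iff_true, and_self, if_true, one_mul]
            congr 1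
            refine propext ⟨fun h => ⟨fun j hj => ?_, fun j hj => ?_⟩, fun h => ⟨fun j hj => ?_, fun j hj => ?_⟩⟩
            · have hji : j ≠ i := fun e => hi (e ▸ hj)
              simpa [hji] using h.1 j (Finset.mem_insert_of_mem hj)
            · by_cases hji : j = i
              · subst hji; simpa using (h.1 j (Finset.mem_insert_self _ _)).2.symm
              · simpa [hji] using h.2 j (by simp [hji, hj])
            · rcases Finset.mem_insert.mp hj with rfl | hj'
              · exact ⟨ha, (by simpa using h.2 j hi : y j = b j).symm⟩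
              · have hji : j ≠ i := fun e => hi (e ▸ hj')
                simpa [hji] using h.1 j hj'
            · rw [Finset.mem_insert, not_or] at hj
              simpa [hj.1] using h.2 j hj.2
          · rw [if_neg (fun h => ha (h.1 i (Finset.mem_insert_self _ _)).1)]
            simp [Ne.symm ha]
        · intro k _ hk
          simp [Ne.symm hk]
        · simp
      rw [this]
      exact hmul _ (h i _) _ ih
  rw [Matrix.matrix_eq_sum_single X]
  refine Z.sum_mem fun x _ => Z.sum_mem fun y _ => ?_
  rw [show single x y (X x y) = X x y • single x y (1 : F) by simp [smul_single]]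
  refine Z.smul_mem _ ?_
  convert hprod x y Finset.univ using 1
  ext a b
  simp [unitsOn, single_apply, funext_iff, forall_and, eq_comm]

end CfsgLib.Classical22.TWMax
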