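/-
An element fixing a pure subspace that is not a tensor product produces the special linear group.
-/
import Cfsg.Agent.Lib.Classical22.TensorMaxLinear
import Cfsg.Agent.Lib.Classical22.SpOrthTensor.Base

set_option autoImplicit false
set_option linter.unusedSectionVars false
set_option maxHeartbeats 800000

namespace CfsgLib.Classical22.TWMax

open Matrix Kronecker CfsgLib.Transvec CfsgLib.Classical22.TensorMax
open CfsgLib.Classical22.TensorMax.SpO (kr kr_apply isKron_kr)
open scoped MatrixGroups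

variable {F : Type*} [Field F] {a b : ℕ} {M : Subgroup (GL (Fin a × Fin b) F)}

/-- The element `1 + Z ⊗ w ψ`. -/
noncomputable def tensT (Z : Matrix (Fin a) (Fin a) F) (w ψ : Fin b → F) (h : ψ ⬝ᵥ w = 0) :
    GL (Fin a × Fin b) F where
  val := 1 + Z ⊗ₖ vecMulVec w ψ
  inv := 1 - Z ⊗ₖ vecMulVec w ψ
  val_inv := by
    rw [mul_sub, mul_one, add_mul, one_mul, ← Matrix.mul_kronecker_mul, vecMulVec_mul_vecMulVec, h, zero_smul]
    simp
  inv_val := by
    rw [mul_add, mul_one, sub_mul, one_mul, ← Matrix.mul_kronecker_mul, vecMulVec_mul_vecMulVec, h, zero_smul]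
    simp

lemma tensT_mul {Z Z' : Matrix (Fin a) (Fin a) F} {w w' ψ ψ' : Fin b → F} (h : ψ ⬝ᵥ w = 0) (h' : ψ' ⬝ᵥ w' = 0) :
    (tensT Z w ψ h * tensT Z' w' ψ' h').val =
      1 + Z ⊗ₖ vecMulVec w ψ + Z' ⊗ₖ vecMulVec w' ψ' + (ψ ⬝ᵥ w') • ((Z * Z') ⊗ₖ vecMulVec w ψ') := by
  change (1 + Z ⊗ₖ vecMulVec w ψ) * (1 + Z' ⊗ₖ vecMulVec w' ψ') = _
  rw [mul_add, mul_one, add_mul, one_mul, ← Matrix.mul_kronecker_mul, vecMulVec_mul_vecMulVec, vecMulVec_smul,
    kronecker_smul]
  abel

lemma tensT_pt {Z : Matrix (Fin a) (Fin a) F} {w ψ : Fin b → F} (h : ψ ⬝ᵥ w = 0) (x : Fin a → F) (u : Fin b → F) :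
    (tensT Z w ψ h).val *ᵥ pt x u = pt x u + (ψ ⬝ᵥ u) • pt (Z *ᵥ x) w := by
  change (1 + Z ⊗ₖ vecMulVec w ψ) *ᵥ pt x u = _
  rw [add_mulVec, one_mulVec, show (Z ⊗ₖ vecMulVec w ψ) *ᵥ pt x u = pt (Z *ᵥ x) (vecMulVec w ψ *ᵥ u) from
    TensorRefine.kronecker_mulVec _ _ x u, vecMulVec_mulVec, op_smul_eq_smul, pt_smul_right]

lemma kr_inv_apply (A : GL (Fin a) F) (B : GL (Fin b) F) (x : Fin a → F) (u : Fin b → F) :
    (kr A B)⁻¹.val *ᵥ pt x u = pt (A⁻¹.val *ᵥ x) (B⁻¹.val *ᵥ u) :=
  TensorRefine.kronecker_mulVec _ _ x u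

lemma tensT_conj {Z : Matrix (Fin a) (Fin a) F} {w ψ : Fin b → F} (h : ψ ⬝ᵥ w = 0) (A : GL (Fin a) F)
    (B : GL (Fin b) F) (h' : (ψ ᵥ* B⁻¹.val) ⬝ᵥ (B.val *ᵥ w) = 0) :
    kr A B * tensT Z w ψ h * (kr A B)⁻¹ = tensT (A.val * Z * A⁻¹.val) (B.val *ᵥ w) (ψ ᵥ* B⁻¹.val) h' :=
  ext_pt fun x j => by
    rw [Transvec.mul_mulVec, Transvec.mul_mulVec, kr_inv_apply, tensT_pt, tensT_pt, mulVec_add, mulVec_smul,
      kr_apply, kr_apply]
    simp only [mulVec_mulVec, Units.mul_inv, one_mulVec, ← dotProduct_mulVec, mul_assoc]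

lemma dot_conj {w ψ : Fin b → F} (h : ψ ⬝ᵥ w = 0) (B : GL (Fin b) F) : (ψ ᵥ* B⁻¹.val) ⬝ᵥ (B.val *ᵥ w) = 0 := by
  rw [← dotProduct_mulVec, mulVec_mulVec, Units.inv_mul, one_mulVec, h]

lemma exists_rootB_kr {u φ : Fin b → F} (h : φ ⬝ᵥ u = 0) :
    ∃ B : GL (Fin b) F, rootB a u φ h = kr 1 B ∧ ∀ x, B.val *ᵥ x = x + (φ ⬝ᵥ x) • u := by
  refine ⟨transv u φ, Units.ext ?_, fun x => transv_mulVec h x⟩
  change (1 : Matrix (Fin a) (Fin a) F) ⊗ₖ (1 + vecMulVec u φ) = (1 : GL (Fin a) F).val ⊗ₖ (transv u φ).val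
  congr 1
  exact (Matrix.ext_iff_mulVec.2 fun x => by
    rw [transv_mulVec h, add_mulVec, one_mulVec, vecMulVec_mulVec, op_smul_eq_smul])

/-- All the elements `1 + Z ⊗ w ψ` lie in `M`. -/
def InT (M : Subgroup (GL (Fin a × Fin b) F)) (Z : Matrix (Fin a) (Fin a) F) : Prop :=
  ∀ w ψ : Fin b → F, ∀ h : ψ ⬝ᵥ w = 0, tensT Z w ψ h ∈ M

/-- An element of `M` fixing the pure subspace at `e` without being a tensor product gives SL. -/
theorem le_of_fixes (ha : 2 ≤ a) (hb : 3 ≤ b)
    (hroot : ∀ (u φ : Fin b → F) (h : φ ⬝ᵥ u = 0), rootB a u φ h ∈ M)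
    (hfull : ∀ Z : Submodule F (Matrix (Fin a) (Fin a) F), (1 : Matrix (Fin a) (Fin a) F) ∈ Z →
      (∀ X ∈ Z, ∀ Y ∈ Z, X * Y ∈ Z) →
      (∀ (A : GL (Fin a) F) (B : GL (Fin b) F), kr A B ∈ M → ∀ X ∈ Z, A.val * X * A⁻¹.val ∈ Z) →
      (∃ X ∈ Z, ¬ ∃ c : F, X = c • 1) → ∀ i j : Fin a, i ≠ j → single i j (1 : F) ∈ Z)
    {e : Fin b} {y : GL (Fin a × Fin b) F} (hy : y ∈ M)
    (hW : ∀ x, ∃ x', y.val *ᵥ pt x (sv e) = pt x' (sv e)) (hk : ¬ IsKron y) :
    Cfsg.Geo.specialLinear (Fin a × Fin b) F ≤ M := by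
  classical
  have havoid : ∀ s : Finset (Fin b), s.card ≤ 2 → ∃ p, p ∉ s := fun s hs => by
    by_contra h
    push Not at h
    have := Finset.card_le_card (fun x _ => h x : Finset.univ ⊆ s)
    rw [Finset.card_univ, Fintype.card_fin] at this
    omega
  obtain ⟨p₀, hp₀⟩ := havoid {e} (by simp)
  obtain ⟨q₀, hq₀⟩ := havoid {e, p₀} Finset.card_le_two
  simp only [Finset.mem_insert, Finset.mem_singleton, not_or] at hp₀ hq₀
  obtain ⟨N, hN0, hNM, l, hl⟩ := exists_nonscalar (by omega) ⟨p₀, q₀, hp₀, hq₀.1, fun h => hq₀.2 h.symm⟩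
    hroot hy hW hk
  have hle : l ≠ e := fun h => hl ⟨0, by rw [h, hN0, zero_smul]⟩
  have hshift : ∀ (N : Fin b → Matrix (Fin a) (Fin a) F) (h : N e = 0), elG e N h ∈ M → ∀ p q : Fin b,
      p ≠ e → ∀ hq : q ≠ e, p ≠ q → ∀ c : F,
      elG e (Pi.single q (c • N p)) (by simp [Pi.single_eq_of_ne (Ne.symm hq)]) ∈ M := by
    intro N h hm p q hp hq hpq c
    have hd : Pi.single q c ⬝ᵥ (sv p : Fin b → F) = 0 := by simp [sv, Pi.single_eq_of_ne hpq]
    have hR := hroot _ _ hd
    have h2 := M.mul_mem (M.inv_mem hm) (M.mul_mem (M.mul_mem (M.inv_mem hR) hm) hR)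
    rwa [elG_shift h hp hq hd, inv_mul_cancel_left] at h2
  have hel : ∀ (Z : Matrix (Fin a) (Fin a) F) (k : Fin b) (hk : k ≠ e) (c : F),
      ∃ h, elG e (Pi.single k (c • Z)) (by simp [Pi.single_eq_of_ne (Ne.symm hk)]) =
        tensT Z (sv e) (c • sv k) h := fun Z k hk c => by
    refine ⟨by simp [sv, hk, Ne.symm hk], ext_pt fun x j => ?_⟩
    rw [elG_pt, tensT_pt]
    congr 1
    by_cases hjk : j = k
    · subst hjk; simp [sv, Pi.single_apply, smul_mulVec, pt_smul_left]
    · simp [sv, Pi.single_apply, Ne.symm hjk, hjk, pt_zero_left]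
  have hNl : InT M (N l) := by
    have h0 : ∀ k, k ≠ e → ∀ c : F, ∃ h, tensT (N l) (sv e) (c • sv k) h ∈ M := by
      intro k hk c
      obtain ⟨h, he⟩ := hel (N l) k hk c
      refine ⟨h, he ▸ ?_⟩
      by_cases hkl : k = l
      · subst hkl
        obtain ⟨p, hp⟩ := havoid {e, k} Finset.card_le_two
        simp only [Finset.mem_insert, Finset.mem_singleton, not_or] at hp
        have h1 := hshift _ _ (hshift N hN0 hNM k p hk hp.1 (Ne.symm hp.2) 1) p k hp.1 hk hp.2 c
        simpa using h1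
      · exact hshift N hN0 hNM l k hle hk (Ne.symm hkl) c
    have h1 : ∀ ψ : Fin b → F, ψ e = 0 → ∀ h, tensT (N l) (sv e) ψ h ∈ M := by
      intro ψ hψ
      have key : ∀ U : Finset (Fin b), ∀ h, tensT (N l) (sv e) (∑ k ∈ U, ψ k • sv k) h ∈ M := by
        intro U
        induction U using Finset.induction_on with
        | empty =>
          intro h
          convert M.one_mem using 1
          exact ext_pt fun x j => by simp [tensT_pt]
        | insert k U hkU ih =>
          intro h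
          have hU : (∑ k ∈ U, ψ k • sv k) ⬝ᵥ (sv e : Fin b → F) = 0 := by
            rw [sum_dotProduct]
            refine Finset.sum_eq_zero fun j _ => ?_
            by_cases hje : j = e
            · subst hje; simp [hψ]
            · simp [sv, hje, Ne.symm hje]
          by_cases hke : k = e
          · subst hke
            convert ih hU using 2
            simp [Finset.sum_insert hkU, hψ]
          obtain ⟨hk', hm'⟩ := h0 k hke (ψ k)
          convert M.mul_mem hm' (ih hU) using 1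
          refine Units.ext ?_
          rw [tensT_mul, show (ψ k • sv k) ⬝ᵥ (sv e : Fin b → F) = 0 from hk', zero_smul, add_zero]
          change 1 + _ = _
          rw [add_assoc, ← kronecker_add, ← vecMulVec_add, Finset.sum_insert hkU]
      intro h
      convert key Finset.univ (by convert h using 2; exact (pi_eq_sum_univ' ψ).symm) using 2
      exact pi_eq_sum_univ' ψ
    intro w ψ h
    by_cases hw : w ∈ Submodule.span F ({sv e} : Set (Fin b → F))
    · obtain ⟨c, rfl⟩ := Submodule.mem_span_singleton.mp hw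
      have : tensT (N l) (c • sv e) ψ h = tensT (N l) (sv e) (c • ψ) (by
          rw [smul_dotProduct, ← dotProduct_smul, h]) := Units.ext (by
        change 1 + _ = 1 + _
        rw [vecMulVec_smul, smul_vecMulVec])
      rw [this]
      refine h1 _ ?_ _
      have h' := h
      rw [dotProduct_smul, dotProduct_single, mul_one] at h'
      simpa [Pi.smul_apply] using h'
    obtain ⟨φ, hφ, hφe⟩ := exists_functional (E := Submodule.span F ({w - sv e} : Set (Fin b → F))) (u := sv e)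
      (fun hm => hw (by
        obtain ⟨c, hc⟩ := Submodule.mem_span_singleton.mp hm
        have hc0 : c ≠ 0 := fun h0 => by rw [h0, zero_smul] at hc; simpa [sv] using congrFun hc.symm e
        refine Submodule.mem_span_singleton.mpr ⟨c⁻¹ + 1, ?_⟩
        rw [add_smul, one_smul]
        conv_lhs => arg 1; rw [← hc, inv_smul_smul₀ hc0]
        abel))
    have hd : φ ⬝ᵥ (w - sv e) = 0 := hφ _ (Submodule.mem_span_singleton_self _)
    obtain ⟨B, hB, hBx⟩ := exists_rootB_kr (a := a) hd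
    have hBe : B.val *ᵥ sv e = w := by rw [hBx, hφe, one_smul, add_sub_cancel]
    have hψB : (ψ ᵥ* B.val) e = 0 := by
      have : (ψ ᵥ* B.val) ⬝ᵥ (sv e : Fin b → F) = 0 := by rw [← dotProduct_mulVec, hBe, h]
      simpa [sv] using this
    have hm1 : kr (1 : GL (Fin a) F) B ∈ M := hB ▸ hroot _ _ hd
    have hd2 : (ψ ᵥ* B.val) ⬝ᵥ (sv e : Fin b → F) = 0 := by rw [← dotProduct_mulVec, hBe, h]
    have := M.mul_mem (M.mul_mem hm1 (h1 _ hψB hd2)) (M.inv_mem hm1)
    rw [tensT_conj hd2 1 B (dot_conj hd2 B)] at this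
    convert this using 2
    · simp
    · exact hBe.symm
    · rw [vecMul_vecMul, Units.mul_inv, vecMul_one]
  -- the algebra
  let Zs : Submodule F (Matrix (Fin a) (Fin a) F) :=
    { carrier := {Z | InT M Z}
      zero_mem' := fun w ψ h => by
        convert M.one_mem using 1
        exact ext_pt fun x j => by simp [tensT_pt, pt_zero_left]
      add_mem' := fun {Z Z'} h h' w ψ hd => by
        convert M.mul_mem (h w ψ hd) (h' w ψ hd) using 1
        refine Units.ext ?_
        rw [tensT_mul, hd, zero_smul, add_zero]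
        change 1 + _ = _
        rw [add_assoc, ← add_kronecker]
      smul_mem' := fun c Z h w ψ hd => by
        convert h w (c • ψ) (by rw [smul_dotProduct, hd, smul_zero]) using 1
        refine Units.ext ?_
        change 1 + _ = 1 + _
        rw [smul_kronecker, vecMulVec_smul, kronecker_smul] }
  have hZmem : ∀ Z, Z ∈ Zs ↔ InT M Z := fun Z => Iff.rfl
  have hmul : ∀ X ∈ Zs, ∀ Y ∈ Zs, X * Y ∈ Zs := by
    intro X hX Y hY w ψ hd
    by_cases hw : w = 0
    · convert M.one_mem using 1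
      exact ext_pt fun x j => by simp [tensT_pt, hw, pt_zero_right]
    obtain ⟨w', hw', hψw'⟩ : ∃ w', w' ∉ Submodule.span F ({w} : Set (Fin b → F)) ∧ ψ ⬝ᵥ w' = 0 := by
      by_contra hc
      push Not at hc
      obtain ⟨L, hL⟩ : ∃ L : (Fin b → F) →ₗ[F] F, ∀ v, L v = ψ ⬝ᵥ v :=
        ⟨{ toFun := fun v => ψ ⬝ᵥ v, map_add' := dotProduct_add ψ, map_smul' := fun c v => dotProduct_smul c ψ v },
          fun v => rfl⟩
      have hker : LinearMap.ker L ≤ Submodule.span F ({w} : Set (Fin b → F)) := fun v hv => by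
        by_contra hv'
        exact hc v hv' (hL v ▸ LinearMap.mem_ker.mp hv)
      have e1 := (Submodule.finrank_mono hker).trans (finrank_span_singleton hw).le
      have e2 := LinearMap.finrank_range_add_finrank_ker L
      have e3 := Submodule.finrank_le (LinearMap.range L)
      rw [Module.finrank_self] at e3
      rw [Module.finrank_fin_fun] at e2
      omega
    obtain ⟨χ, hχ, hχw'⟩ := exists_functional hw'
    have hd1 : χ ⬝ᵥ w = 0 := hχ _ (Submodule.mem_span_singleton_self w)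
    have hA := hX w χ hd1
    have hB := hY w' ψ hψw'
    convert M.mul_mem (M.mul_mem hA hB) (M.inv_mem (M.mul_mem hB hA)) using 1
    rw [eq_mul_inv_iff_mul_eq]
    refine Units.ext ?_
    rw [Units.val_mul, tensT_mul, tensT_mul, hχw', hd, zero_smul, add_zero, one_smul]
    change (1 + (X * Y) ⊗ₖ vecMulVec w ψ) * _ = _
    simp only [mul_add, add_mul, one_mul, mul_one, ← Matrix.mul_kronecker_mul, vecMulVec_mul_vecMulVec, hd, hψw',
      zero_smul, vecMulVec_zero, kronecker_zero, add_zero]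
    abel
  have hstab : ∀ (A : GL (Fin a) F) (B : GL (Fin b) F), kr A B ∈ M → ∀ X ∈ Zs, A.val * X * A⁻¹.val ∈ Zs := by
    intro A B hAB X hX w ψ hd
    have hd2 : (ψ ᵥ* B.val) ⬝ᵥ (B⁻¹.val *ᵥ w) = 0 := by
      rw [← dotProduct_mulVec, mulVec_mulVec, Units.mul_inv, one_mulVec, hd]
    have := M.mul_mem (M.mul_mem hAB (hX _ _ hd2)) (M.inv_mem hAB)
    rw [tensT_conj hd2 A B (dot_conj hd2 B)] at this
    convert this using 2
    · rw [mulVec_mulVec, Units.mul_inv, one_mulVec]
    · rw [vecMul_vecMul, Units.mul_inv, vecMul_one]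
  have hone : (1 : Matrix (Fin a) (Fin a) F) ∈ Zs := fun w ψ hd => by
    convert hroot w ψ hd using 1
    refine Units.ext ?_
    change 1 + _ = (1 : Matrix (Fin a) (Fin a) F) ⊗ₖ (1 + vecMulVec w ψ)
    rw [kronecker_add, one_kronecker_one]
  have hunit := hfull Zs hone hmul hstab ⟨N l, hNl, hl⟩
  -- elementary transvections
  let El : Fin a × Fin b → Fin a × Fin b → Prop := fun p q => FullPair M (Pi.single p 1) (Pi.single q 1)
  have hdot : ∀ p q : Fin a × Fin b, p ≠ q → (Pi.single q 1 : Fin a × Fin b → F) ⬝ᵥ Pi.single p 1 = 0 :=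
    fun p q h => by simp [h]
  have hcomp : ∀ p q r, p ≠ q → q ≠ r → p ≠ r → El p q → El q r → El p r := fun p q r h1 h2 h3 e1 e2 =>
    fullPair_comm (hdot p q h1) (hdot q r h2) (hdot p r h3) (by simp) e1 e2
  have hij_all : ∀ i j : Fin a, i ≠ j → ∀ m k : Fin b, m ≠ k → El (i, m) (j, k) := by
    intro i j hij m k hmk c
    have := (hZmem _).mp (hunit i j hij) (sv m) (c • sv k) (by simp [sv, hmk, Ne.symm hmk])
    convert this using 1
    refine ext_pt fun x l => ?_
    rw [tensT_pt, transv_mulVec (by simp [hij])]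
    congr 1
    funext p
    obtain ⟨i', m'⟩ := p
    by_cases h1 : i' = i <;> by_cases h2 : m' = m <;>
      simp [pt, sv, h1, h2, single_mulVec, smul_mulVec, dotProduct, Fintype.sum_prod_type, Pi.single_apply,
        Prod.ext_iff, ite_and, mul_comm, mul_left_comm]
  have hsame : ∀ i : Fin a, ∀ k m : Fin b, m ≠ k → El (i, m) (i, k) := by
    intro i k m hmk
    obtain ⟨j, hj⟩ : ∃ j : Fin a, j ≠ i := by
      by_contra h
      push Not at h
      have := Finset.card_le_card (fun x _ => Finset.mem_singleton.mpr (h x) : Finset.univ ⊆ {i})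
      rw [Finset.card_univ, Fintype.card_fin, Finset.card_singleton] at this
      omega
    obtain ⟨o, ho⟩ := havoid {m, k} Finset.card_le_two
    simp only [Finset.mem_insert, Finset.mem_singleton, not_or] at ho
    exact hcomp (i, m) (j, o) (i, k) (by simp [Ne.symm ho.1]) (by simp [ho.2]) (by simp [hmk])
      (hij_all i j (Ne.symm hj) m o (Ne.symm ho.1)) (hij_all j i hj o k ho.2)
  have hall : ∀ p q : Fin a × Fin b, p ≠ q → El p q := by
    rintro ⟨i, m⟩ ⟨j, k⟩ hne
    by_cases hij : i = j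
    · subst hij; exact hsame i k m (fun h => hne (by rw [h]))
    by_cases hmk : m = k
    · subst hmk
      obtain ⟨o, ho⟩ := havoid {m} (by simp)
      rw [Finset.mem_singleton] at ho
      exact hcomp (i, m) (i, o) (j, m) (by simp [Ne.symm ho]) (by simp [hij]) hne (hsame i o m (Ne.symm ho))
        (hij_all i j hij o m ho)
    · exact hij_all i j hij m k hmk
  intro g hg
  rw [mem_specialLinear_iff] at hg
  have key := CfsgLib.Classical.SL_le_of_transvections (M.comap Matrix.SpecialLinearGroup.toGL) fun p q hpq c => by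
    rw [Subgroup.mem_comap, toGL_transvection hpq c]
    have := hall p q hpq c
    rwa [← Pi.single_smul, smul_eq_mul, mul_one] at this
  have h1 : (⟨g.val, hg⟩ : Matrix.SpecialLinearGroup (Fin a × Fin b) F) ∈
      M.comap Matrix.SpecialLinearGroup.toGL := by rw [key]; trivial
  have e1 : Matrix.SpecialLinearGroup.toGL ⟨g.val, hg⟩ = g := Units.ext rfl
  exact e1 ▸ Subgroup.mem_comap.mp h1

end CfsgLib.Classical22.TWMax
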