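/-
Pure vectors of a tensor power, the elements of the tensor wreath group, and the coordinates attached to a slot.
-/
import Cfsg.Agent.Lib.Classical22.TensorWreathMax.Alg
import Cfsg.Agent.Lib.Classical22.TensorWreathMax.Fixer

set_option autoImplicit false
set_option linter.unusedSectionVars false
set_option linter.unusedSimpArgs false

namespace CfsgLib.Classical22.TWMax

open Matrix Kronecker CfsgLib.Transvec CfsgLib.Classical22.TensorMax
open CfsgLib.Classical22.TensorMax.SpO (kr kr_apply isKron_kr)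
open scoped MatrixGroups

variable {F : Type*} [Field F] {t m : ℕ}

/-- The tensor power of coordinate spaces. -/
abbrev Idx (t m : ℕ) := Fin t → Fin m

/-- The pure vector with factors `xs`. -/
def pv (xs : Fin t → Fin m → F) : Idx t m → F := fun a => ∏ i, xs i (a i)

lemma single_eq_pv (x : Idx t m) : (Pi.single x 1 : Idx t m → F) = pv fun i => Pi.single (x i) 1 := by
  funext a
  by_cases h : a = x
  · subst h; simp [pv]
  · obtain ⟨i, hi⟩ := Function.ne_iff.mp h
    rw [Pi.single_eq_of_ne h, pv, Finset.prod_eq_zero (Finset.mem_univ i) (by simp [hi])]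

lemma ext_pv {g h : GL (Idx t m) F} (H : ∀ xs, g.val *ᵥ pv xs = h.val *ᵥ pv xs) : g = h :=
  Units.ext (Matrix.ext_of_mulVec_single fun x => by rw [single_eq_pv]; exact H _)

/-- The product of slot matrices. -/
def tmat (gs : Fin t → Matrix (Fin m) (Fin m) F) : Matrix (Idx t m) (Idx t m) F :=
  fun x y => ∏ i, gs i (x i) (y i)

lemma tmat_mulVec (gs : Fin t → Matrix (Fin m) (Fin m) F) (xs : Fin t → Fin m → F) :
    tmat gs *ᵥ pv xs = pv fun i => gs i *ᵥ xs i := by
  funext x
  simp only [mulVec, dotProduct, tmat, pv, ← Finset.prod_mul_distrib]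
  exact (Fintype.prod_sum fun i k => gs i (x i) k * xs i k).symm

lemma mat_ext_pv {A B : Matrix (Idx t m) (Idx t m) F} (H : ∀ xs, A *ᵥ pv xs = B *ᵥ pv xs) : A = B :=
  Matrix.ext_of_mulVec_single fun x => by rw [single_eq_pv]; exact H _

lemma tmat_mul (gs hs : Fin t → Matrix (Fin m) (Fin m) F) : tmat gs * tmat hs = tmat fun i => gs i * hs i :=
  mat_ext_pv fun xs => by simp [← mulVec_mulVec, tmat_mulVec]

lemma tmat_one : tmat (fun _ : Fin t => (1 : Matrix (Fin m) (Fin m) F)) = 1 :=
  mat_ext_pv fun xs => by simp [tmat_mulVec]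

/-- The element acting on each slot by `gs`. -/
def tGL (gs : Fin t → GL (Fin m) F) : GL (Idx t m) F where
  val := tmat fun i => (gs i).val
  inv := tmat fun i => ((gs i)⁻¹).val
  val_inv := by rw [tmat_mul]; simp [tmat_one]
  inv_val := by rw [tmat_mul]; simp [tmat_one]

lemma tGL_apply (gs : Fin t → GL (Fin m) F) (xs : Fin t → Fin m → F) :
    (tGL gs).val *ᵥ pv xs = pv fun i => (gs i).val *ᵥ xs i := tmat_mulVec _ _

/-- The matrix of a permutation of slots. -/
def permMat (σ : Equiv.Perm (Fin t)) : Matrix (Idx t m) (Idx t m) F := fun x y => if y = x ∘ σ then 1 else 0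

lemma permMat_mulVec (σ : Equiv.Perm (Fin t)) (xs : Fin t → Fin m → F) :
    permMat (F := F) σ *ᵥ pv xs = pv fun i => xs (σ.symm i) := by
  funext x
  simp only [mulVec, dotProduct, permMat, ite_mul, one_mul, zero_mul, Finset.sum_ite_eq', Finset.mem_univ, if_true]
  simp only [pv, Function.comp_apply]
  exact Fintype.prod_equiv σ _ _ fun i => by simp

/-- The element permuting the slots. -/
def permGL (σ : Equiv.Perm (Fin t)) : GL (Idx t m) F where
  val := permMat σ
  inv := permMat σ.symm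
  val_inv := mat_ext_pv fun xs => by simp [← mulVec_mulVec, permMat_mulVec]
  inv_val := mat_ext_pv fun xs => by simp [← mulVec_mulVec, permMat_mulVec]

lemma permGL_apply (σ : Equiv.Perm (Fin t)) (xs : Fin t → Fin m → F) :
    (permGL σ).val *ᵥ pv xs = pv fun i => xs (σ.symm i) := permMat_mulVec _ _

/-- `g` acts on pure vectors through `σ` and `gs`. -/
def TWData (g : GL (Idx t m) F) (σ : Equiv.Perm (Fin t)) (gs : Fin t → GL (Fin m) F) : Prop :=
  ∀ xs, g.val *ᵥ pv xs = pv fun i => (gs i).val *ᵥ xs (σ i)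

/-- The members of the tensor wreath group. -/
def IsTW (g : GL (Idx t m) F) : Prop := ∃ σ gs, TWData g σ gs

lemma TWData.mul {g h : GL (Idx t m) F} {σ τ : Equiv.Perm (Fin t)} {gs hs : Fin t → GL (Fin m) F}
    (hg : TWData g σ gs) (hh : TWData h τ hs) : TWData (g * h) (τ * σ) fun i => gs i * hs (σ i) := fun xs => by
  rw [Transvec.mul_mulVec, hh, hg]
  simp [mulVec_mulVec]

lemma TWData.inv {g : GL (Idx t m) F} {σ : Equiv.Perm (Fin t)} {gs : Fin t → GL (Fin m) F} (hg : TWData g σ gs) :
    TWData g⁻¹ σ⁻¹ fun i => (gs (σ⁻¹ i))⁻¹ := fun xs => by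
  refine Transvec.mulVec_injective g ?_
  simp only
  rw [Transvec.mulVec_inv_cancel, hg]
  simp [mulVec_mulVec]

lemma twData_one : TWData (1 : GL (Idx t m) F) 1 fun _ => 1 := fun xs => by simp

lemma twData_tGL (gs : Fin t → GL (Fin m) F) : TWData (tGL gs) 1 gs := fun xs => by
  simp [tGL_apply]

lemma mem_standard_iff (g : GL (Idx t m) F) : g ∈ Cfsg.Geo.tensorWreathStandard m t F ↔ IsTW g := by
  constructor
  · intro hg
    induction hg using Subgroup.closure_induction with
    | mem x hx =>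
      rcases hx with ⟨gs, hgs⟩ | ⟨σ, hσ⟩
      · refine ⟨1, gs, fun xs => ?_⟩
        rw [show x.val = tmat fun i => (gs i).val from Matrix.ext hgs, tmat_mulVec]
        simp
      · refine ⟨σ.symm, fun _ => 1, fun xs => ?_⟩
        rw [show x.val = permMat σ from Matrix.ext hσ, permMat_mulVec]
        simp
    | one => exact ⟨1, _, twData_one⟩
    | mul x y _ _ hx hy =>
      obtain ⟨σ, gs, hx⟩ := hx
      obtain ⟨τ, hs, hy⟩ := hy
      exact ⟨_, _, hx.mul hy⟩
    | inv x _ hx =>
      obtain ⟨σ, gs, hx⟩ := hx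
      exact ⟨_, _, hx.inv⟩
  · rintro ⟨σ, gs, hg⟩
    have : g = tGL gs * permGL σ.symm := ext_pv fun xs => by
      rw [hg, Transvec.mul_mulVec, permGL_apply, tGL_apply]
      simp
    rw [this]
    exact mul_mem (Subgroup.subset_closure (Or.inl ⟨gs, fun x y => rfl⟩))
      (Subgroup.subset_closure (Or.inr ⟨σ.symm, fun x y => rfl⟩))

lemma emb_mulVec_pv (i : Fin t) (X : Matrix (Fin m) (Fin m) F) (xs : Fin t → Fin m → F) :
    emb i X *ᵥ pv xs = pv (Function.update xs i (X *ᵥ xs i)) := by
  have : emb i X = tmat (Function.update (fun _ => (1 : Matrix (Fin m) (Fin m) F)) i X) := by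
    ext x y
    simp only [emb, tmat]
    rw [Finset.prod_eq_mul_prod_sdiff_singleton_of_mem (Finset.mem_univ i), Function.update_self]
    split_ifs with h
    · rw [update_self_eq] at h
      rw [Finset.prod_eq_one, mul_one]
      intro j hj
      simp at hj
      simp [hj, h j hj]
    · rw [update_self_eq] at h
      push Not at h
      obtain ⟨j, hji, hxy⟩ := h
      rw [Finset.prod_eq_zero (i := j) (by simp [hji]) (by simp [hji, hxy]), mul_zero]
  rw [this, tmat_mulVec]
  congr 1
  funext j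
  by_cases hj : j = i
  · subst hj; simp
  · simp [hj]

/-- Conjugation moves a slot matrix to another slot. -/
lemma TWData.conj_emb {g : GL (Idx t m) F} {σ : Equiv.Perm (Fin t)} {gs : Fin t → GL (Fin m) F}
    (hg : TWData g σ gs) (i : Fin t) (X : Matrix (Fin m) (Fin m) F) :
    g.val * emb (σ i) X * g⁻¹.val = emb i ((gs i).val * X * ((gs i)⁻¹).val) := by
  refine mat_ext_pv fun xs => ?_
  rw [← mulVec_mulVec, ← mulVec_mulVec, hg.inv xs, emb_mulVec_pv, hg, emb_mulVec_pv]
  congr 1
  funext j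
  by_cases hj : j = i
  · subst hj; simp [mulVec_mulVec, mul_assoc]
  · simp [hj, mulVec_mulVec]

/-! ### Slot coordinates -/

/-- The numbering of the coordinates other than a given one. -/
abbrev flatE (t m : ℕ) : Idx t m ≃ Fin (m ^ t) := finFunctionFinEquiv

/-- The coordinates attached to slot `s`. -/
def slotE (s : Fin (t + 1)) : Idx (t + 1) m ≃ Fin (m ^ t) × Fin m :=
  ((Fin.insertNthEquiv (fun _ => Fin m) s).symm.trans (Equiv.prodComm _ _)).trans
    (Equiv.prodCongr (flatE t m) (Equiv.refl _))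

lemma slotE_apply (s : Fin (t + 1)) (x : Idx (t + 1) m) :
    slotE s x = (flatE t m (fun j => x (s.succAbove j)), x s) := rfl

/-- The group isomorphism to slot coordinates. -/
noncomputable def slotG (s : Fin (t + 1)) : GL (Idx (t + 1) m) F ≃* GL (Fin (m ^ t) × Fin m) F :=
  Cfsg.Geo.glReindex (slotE s)

/-- The group isomorphism to flat coordinates. -/
noncomputable def flatG (t m : ℕ) : GL (Idx t m) F ≃* GL (Fin (m ^ t)) F := Cfsg.Geo.glReindex (flatE t m)

/-- The flattened pure vector. -/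
def fv (xs : Fin t → Fin m → F) : Fin (m ^ t) → F := pv xs ∘ (flatE t m).symm

lemma glReindex_mulVec {ι κ : Type} [Fintype ι] [DecidableEq ι] [Fintype κ] [DecidableEq κ] (e : ι ≃ κ)
    (g : GL ι F) (v : ι → F) : (Cfsg.Geo.glReindex e g).val *ᵥ (v ∘ e.symm) = (g.val *ᵥ v) ∘ e.symm := by
  rw [show (Cfsg.Geo.glReindex e g).val = Matrix.reindexAlgEquiv F F e g.val from rfl, Matrix.reindexAlgEquiv_apply,
    Matrix.reindex_apply, Matrix.submatrix_mulVec_equiv]
  simp [Function.comp_assoc]

lemma flatG_apply (g : GL (Idx t m) F) (xs : Fin t → Fin m → F) :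
    (flatG t m g).val *ᵥ fv xs = (g.val *ᵥ pv xs) ∘ (flatE t m).symm := glReindex_mulVec _ g _

lemma slot_vec (s : Fin (t + 1)) (xs : Fin (t + 1) → Fin m → F) :
    pv xs ∘ (slotE s).symm = pt (fv fun j => xs (s.succAbove j)) (xs s) := by
  funext p
  obtain ⟨x, rfl⟩ := (slotE s).surjective p
  rw [Function.comp_apply, Equiv.symm_apply_apply, slotE_apply]
  simp only [pv, pt, fv, Function.comp_apply, Equiv.symm_apply_apply]
  rw [Fin.prod_univ_succAbove _ s, mul_comm]

lemma ext_fv {A B : GL (Fin (m ^ t)) F} (H : ∀ xs, A.val *ᵥ fv xs = B.val *ᵥ fv xs) : A = B := by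
  obtain ⟨A, rfl⟩ := (flatG t m).surjective A
  obtain ⟨B, rfl⟩ := (flatG t m).surjective B
  congr 1
  refine ext_pv fun xs => ?_
  have := H xs
  rw [flatG_apply, flatG_apply] at this
  exact (flatE t m).symm.surjective.injective_comp_right this

lemma slot_ext {g h : GL (Fin (m ^ t) × Fin m) F}
    (H : ∀ (xs : Fin t → Fin m → F) u, g.val *ᵥ pt (fv xs) u = h.val *ᵥ pt (fv xs) u) : g = h := by
  obtain ⟨g, rfl⟩ := (slotG (0 : Fin (t + 1))).surjective g
  obtain ⟨h, rfl⟩ := (slotG (0 : Fin (t + 1))).surjective h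
  congr 1
  refine ext_pv fun xs => (slotE (0 : Fin (t + 1))).symm.surjective.injective_comp_right ?_
  simp only
  rw [← glReindex_mulVec, ← glReindex_mulVec, slot_vec]
  exact H _ _

/-- A slot element from data on the other slots. -/
theorem twData_of_kr (s : Fin (t + 1)) {A : GL (Idx t m) F} {π : Equiv.Perm (Fin t)} {as : Fin t → GL (Fin m) F}
    (hA : TWData A π as) (B : GL (Fin m) F) {g : GL (Idx (t + 1) m) F} (hg : slotG s g = kr (flatG t m A) B) :
    IsTW g := by
  obtain ⟨σ, hσs, hσ⟩ : ∃ σ : Equiv.Perm (Fin (t + 1)), σ s = s ∧ ∀ j, σ (s.succAbove j) = s.succAbove (π j) := by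
    refine ⟨(finSuccEquiv' s).trans ((Equiv.optionCongr π).trans (finSuccEquiv' s).symm), ?_, fun j => ?_⟩
    · simp
    · simp
  refine ⟨σ, Fin.insertNth s B as, fun xs => (slotE s).symm.surjective.injective_comp_right ?_⟩
  simp only
  rw [← glReindex_mulVec, ← slotG, hg, slot_vec, slot_vec, kr_apply, flatG_apply, hA]
  simp [hσs, hσ, fv]

/-- An element fixing slot `s` is a slot element. -/
theorem TWData.slot {g : GL (Idx (t + 1) m) F} {σ : Equiv.Perm (Fin (t + 1))} {gs : Fin (t + 1) → GL (Fin m) F}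
    (hg : TWData g σ gs) {s : Fin (t + 1)} (hs : σ s = s) :
    ∃ (A : GL (Idx t m) F) (π : Equiv.Perm (Fin t)), TWData A π (fun j => gs (s.succAbove j)) ∧
      (∀ j, σ (s.succAbove j) = s.succAbove (π j)) ∧ slotG s g = kr (flatG t m A) (gs s) := by
  have hne : ∀ j, σ (s.succAbove j) ≠ s := fun j h => Fin.succAbove_ne s j (σ.injective (h.trans hs.symm))
  choose π hπ using fun j => Fin.exists_succAbove_eq (hne j)
  have hinj : Function.Injective π := fun i j h =>
    Fin.succAbove_right_injective (σ.injective (by rw [← hπ, ← hπ, h]))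
  obtain ⟨P, hP⟩ : ∃ P : Equiv.Perm (Fin t), ∀ j, P j = π j :=
    ⟨Equiv.ofBijective π (Finite.injective_iff_bijective.mp hinj), fun j => rfl⟩
  refine ⟨tGL (fun j => gs (s.succAbove j)) * permGL P.symm, P, fun xs => ?_, fun j => by rw [hP, hπ], ?_⟩
  · rw [Transvec.mul_mulVec, permGL_apply, tGL_apply]; simp
  refine slot_ext fun xs u => ?_
  rw [kr_apply, flatG_apply, Transvec.mul_mulVec, permGL_apply, tGL_apply]
  obtain ⟨X, hX, hXs⟩ : ∃ X : Fin (t + 1) → Fin m → F, (∀ j, X (s.succAbove j) = xs j) ∧ X s = u :=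
    ⟨Fin.insertNth s u xs, fun j => by simp, by simp⟩
  have e : pt (fv xs) u = pv X ∘ (slotE s).symm := by rw [slot_vec, hXs]; simp [hX]
  rw [e, slotG, glReindex_mulVec, hg, slot_vec]
  simp [hs, hXs, fv, hP, ← hπ, hX]

/-! ### Pure subspaces of the slots -/

/-- The subspace of vectors with `u` in slot `s`. -/
def slotW (s : Fin (t + 1)) (u : Fin m → F) : Submodule F (Idx (t + 1) m → F) :=
  (pureW (m ^ t) u).map (LinearMap.funLeft F F (slotE s))

lemma mem_slotW {s : Fin (t + 1)} {u : Fin m → F} {v : Idx (t + 1) m → F} :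
    v ∈ slotW s u ↔ v ∘ (slotE s).symm ∈ pureW (m ^ t) u := by
  constructor
  · rintro ⟨w, hw, rfl⟩
    rw [show LinearMap.funLeft F F (slotE s) w ∘ (slotE s).symm = w from funext fun p => by simp [LinearMap.funLeft]]
    exact hw
  · intro h
    exact ⟨_, h, funext fun x => by simp [LinearMap.funLeft]⟩

lemma pv_mem_slotW (s : Fin (t + 1)) (xs : Fin (t + 1) → Fin m → F) : pv xs ∈ slotW s (xs s) := by
  rw [mem_slotW, slot_vec]
  exact pt_mem_pureW _ _

lemma slotW_le {s : Fin (t + 1)} {u : Fin m → F} {T : Submodule F (Idx (t + 1) m → F)}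
    (h : ∀ xs : Fin (t + 1) → Fin m → F, xs s = u → pv xs ∈ T) : slotW s u ≤ T := by
  rintro _ ⟨_, ⟨x, rfl⟩, rfl⟩
  have hx : x = ∑ a : Idx t m, x (flatE t m a) • fv (fun j => Pi.single (a j) 1) := by
    funext p
    obtain ⟨b, rfl⟩ := (flatE t m).surjective p
    rw [Finset.sum_apply, Finset.sum_eq_single b]
    · simp [fv, ← single_eq_pv]
    · intro a _ hab
      simp [fv, ← single_eq_pv, Ne.symm hab]
    · simp
  rw [hx, ptL_apply, show pt (∑ a : Idx t m, x (flatE t m a) • fv (fun j => Pi.single (a j) 1)) u =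
    ptL u (∑ a : Idx t m, x (flatE t m a) • fv (fun j => Pi.single (a j) 1)) from rfl, map_sum, map_sum]
  refine T.sum_mem fun a _ => ?_
  rw [map_smul, map_smul]
  refine T.smul_mem _ ?_
  have e := h (Fin.insertNth s u fun j => Pi.single (a j) 1) (by simp)
  convert e using 1
  funext z
  have := congrFun (slot_vec s (Fin.insertNth s u fun j => Pi.single (a j) 1 : Fin (t + 1) → Fin m → F)) (slotE s z)
  simp at this
  simp [LinearMap.funLeft, ptL_apply, this]

end CfsgLib.Classical22.TWMax
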