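/-
Elements of the tensor wreath group with a small moved space.
-/
import Cfsg.Agent.Lib.Classical22.TensorWreathMax.Base

set_option autoImplicit false
set_option linter.unusedSectionVars false
set_option linter.unusedSimpArgs false

namespace CfsgLib.Classical22.TWMax

open Matrix Kronecker CfsgLib.Transvec CfsgLib.Classical22.TensorMax
open CfsgLib.Classical22.TensorMax.SpO (kr kr_apply isKron_kr)
open scoped MatrixGroups

variable {F : Type*} [Field F]

/-- The image of `g - 1`. -/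
def mv {ι : Type} [Fintype ι] [DecidableEq ι] (g : GL ι F) : Submodule F (ι → F) :=
  LinearMap.range (Matrix.mulVecLin g.val - 1)

lemma mem_mv {ι : Type} [Fintype ι] [DecidableEq ι] {g : GL ι F} {v : ι → F} :
    v ∈ mv g ↔ ∃ w, g.val *ᵥ w - w = v := Iff.rfl

lemma sub_mem_mv {ι : Type} [Fintype ι] [DecidableEq ι] (g : GL ι F) (w : ι → F) : g.val *ᵥ w - w ∈ mv g :=
  ⟨w, rfl⟩

lemma mv_eq_move {a b : ℕ} (g : GL (Fin a × Fin b) F) : mv g = move g := rfl

lemma finrank_mv_glReindex {ι κ : Type} [Fintype ι] [DecidableEq ι] [Fintype κ] [DecidableEq κ] (e : ι ≃ κ)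
    (g : GL ι F) : Module.finrank F (mv (Cfsg.Geo.glReindex e g)) = Module.finrank F (mv g) := by
  have : mv (Cfsg.Geo.glReindex e g) = (mv g).map (LinearEquiv.funCongrLeft F F e.symm).toLinearMap := by
    refine le_antisymm ?_ ?_
    · rintro _ ⟨w, rfl⟩
      refine ⟨_, sub_mem_mv g (w ∘ e), ?_⟩
      have h := glReindex_mulVec e g (w ∘ e)
      rw [Function.comp_assoc, Equiv.self_comp_symm, Function.comp_id] at h
      funext k
      simp [LinearEquiv.funCongrLeft, LinearMap.funLeft, h]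
    · rintro _ ⟨_, ⟨w, rfl⟩, rfl⟩
      refine ⟨w ∘ e.symm, ?_⟩
      funext k
      simp [LinearEquiv.funCongrLeft, LinearMap.funLeft, glReindex_mulVec]
  rw [this, LinearEquiv.finrank_map_eq]

/-- A matrix with every vector an eigenvector is scalar. -/
theorem exists_scalar_of_eig {m : ℕ} (hm : 0 < m) {A : Matrix (Fin m) (Fin m) F}
    (h : ∀ x : Fin m → F, ∃ l : F, A *ᵥ x = l • x) : ∃ c : F, ∀ x, A *ᵥ x = c • x := by
  choose l hl using h
  refine ⟨l (Pi.single ⟨0, hm⟩ 1), fun x => ?_⟩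
  have key : ∀ i, l (Pi.single i 1) = l (Pi.single ⟨0, hm⟩ 1) := by
    intro i
    by_cases hi : i = ⟨0, hm⟩
    · rw [hi]
    have h := hl (Pi.single i 1 + Pi.single ⟨0, hm⟩ 1)
    rw [mulVec_add, hl, hl] at h
    have h1 := congrFun h i
    have h2 := congrFun h ⟨0, hm⟩
    simp [hi] at h1
    simp [Ne.symm hi] at h2
    rw [h1, h2]
  rw [pi_eq_sum_univ' x, mulVec_sum, Finset.smul_sum]
  refine Finset.sum_congr rfl fun i _ => ?_
  rw [mulVec_smul, hl, key, smul_comm]

lemma exists_notMem_span {m k : ℕ} (hk : k < m) (v : Fin k → Fin m → F) :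
    ∃ y : Fin m → F, y ∉ Submodule.span F (Set.range v) := by
  by_contra h
  push Not at h
  have e := (Submodule.finrank_mono (fun x _ => h x : ⊤ ≤ Submodule.span F (Set.range v))).trans
    (finrank_range_le_card v)
  rw [finrank_top, Module.finrank_fin_fun, Fintype.card_fin] at e
  omega

section Kron

variable {a b : ℕ}

/-- A tensor product with second factor not scalar moves at least the first dimension. -/
theorem le_finrank_mv_kr (A : GL (Fin a) F) {B : GL (Fin b) F} {v : Fin b → F}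
    (hv : ∀ l : F, B.val *ᵥ v ≠ l • v) : a ≤ Module.finrank F (mv (kr A B)) := by
  obtain ⟨S, hS⟩ : ∃ S : (Fin a → F) →ₗ[F] (Fin a × Fin b → F), ∀ x, S x = (kr A B).val *ᵥ pt x v - pt x v :=
    ⟨((Matrix.mulVecLin (kr A B).val) - 1).comp (ptL v), fun x => rfl⟩
  have hinj : Function.Injective S := (injective_iff_map_eq_zero S).mpr fun x hx => by
    rw [hS, kr_apply, sub_eq_zero] at hx
    by_contra hne
    obtain ⟨i, hi⟩ := Function.ne_iff.mp (mulVec_ne_zero A hne)
    refine hv (x i / (A.val *ᵥ x) i) (funext fun j => ?_)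
    have := congrFun hx (i, j)
    simp only [pt] at this
    rw [Pi.smul_apply, smul_eq_mul, div_mul_eq_mul_div, eq_div_iff hi, ← this, mul_comm]
  have h1 := Submodule.finrank_mono (show LinearMap.range S ≤ mv (kr A B) from by
    rintro _ ⟨x, rfl⟩; rw [hS]; exact sub_mem_mv _ _)
  rwa [LinearMap.finrank_range_of_inj hinj, Module.finrank_fin_fun] at h1

/-- Two non-scalar factors move more than the first dimension. -/
theorem lt_finrank_mv_kr (hb : 3 ≤ b) {A : GL (Fin a) F} {B : GL (Fin b) F} {α : Fin a → F}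
    (hα : ∀ l : F, A.val *ᵥ α ≠ l • α) {v : Fin b → F} (hv : ∀ l : F, B.val *ᵥ v ≠ l • v) :
    a < Module.finrank F (mv (kr A B)) := by
  obtain ⟨S, hS⟩ : ∃ S : (Fin a → F) →ₗ[F] (Fin a × Fin b → F), ∀ x, S x = (kr A B).val *ᵥ pt x v - pt x v :=
    ⟨((Matrix.mulVecLin (kr A B).val) - 1).comp (ptL v), fun x => rfl⟩
  have hinj : Function.Injective S := (injective_iff_map_eq_zero S).mpr fun x hx => by
    rw [hS, kr_apply, sub_eq_zero] at hx
    by_contra hne
    obtain ⟨i, hi⟩ := Function.ne_iff.mp (mulVec_ne_zero A hne)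
    refine hv (x i / (A.val *ᵥ x) i) (funext fun j => ?_)
    have := congrFun hx (i, j)
    simp only [pt] at this
    rw [Pi.smul_apply, smul_eq_mul, div_mul_eq_mul_div, eq_div_iff hi, ← this, mul_comm]
  have hle : LinearMap.range S ≤ mv (kr A B) := by
    rintro _ ⟨x, rfl⟩; rw [hS]; exact sub_mem_mv _ _
  obtain ⟨y, hy⟩ := exists_notMem_span (show 2 < b by omega) ![v, B.val *ᵥ v]
  obtain ⟨φ, hφ, hφy⟩ := exists_functional hy
  have hφv : φ ⬝ᵥ v = 0 := hφ _ (Submodule.subset_span ⟨0, rfl⟩)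
  have hφBv : φ ⬝ᵥ (B.val *ᵥ v) = 0 := hφ _ (Submodule.subset_span ⟨1, rfl⟩)
  have hnot : (kr A B).val *ᵥ pt α y - pt α y ∉ LinearMap.range S := by
    rintro ⟨x, hx⟩
    have h := congrArg (sl φ) hx
    rw [hS, map_sub, map_sub, kr_apply, kr_apply, sl_pt, sl_pt, sl_pt, sl_pt, hφv, hφBv, zero_smul, zero_smul,
      sub_zero, hφy, one_smul, eq_comm, sub_eq_zero] at h
    by_cases hc : φ ⬝ᵥ (B.val *ᵥ y) = 0
    · rw [hc, zero_smul] at h
      exact hα 0 (by rw [← h, mulVec_zero, smul_zero])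
    · exact hα (φ ⬝ᵥ (B.val *ᵥ y))⁻¹ (by conv_rhs => rw [← h, inv_smul_smul₀ hc])
  have := Submodule.finrank_lt_finrank_of_lt (lt_of_le_of_ne hle fun h => hnot (by rw [h]; exact sub_mem_mv _ _))
  rwa [LinearMap.finrank_range_of_inj hinj, Module.finrank_fin_fun] at this

/-- A first factor that is scalar gives a pure moved space. -/
theorem mv_kr_scalar {A : GL (Fin a) F} {c : F} (hc : ∀ x, A.val *ᵥ x = c • x) (B : GL (Fin b) F)
    (hne : kr A B ≠ 1) (hd : Module.finrank F (mv (kr A B)) ≤ a) :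
    ∃ u : Fin b → F, u ≠ 0 ∧ mv (kr A B) = pureW a u := by
  have hg : ∀ x y, (kr A B).val *ᵥ pt x y - pt x y = pt x (c • (B.val *ᵥ y) - y) := fun x y => by
    rw [kr_apply, hc, pt_smul_left, ← pt_smul_right, pt_sub_right]
  obtain ⟨y, hy⟩ : ∃ y, c • (B.val *ᵥ y) - y ≠ 0 := by
    by_contra h
    push Not at h
    exact hne (ext_pt fun x j => by
      rw [Units.val_one, one_mulVec]
      have := hg x (Pi.single j 1)
      rwa [h, pt_zero_right, sub_eq_zero] at this)
  refine ⟨_, hy, (Submodule.eq_of_le_of_finrank_le ?_ (by rw [finrank_pureW hy]; exact hd)).symm⟩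
  rintro _ ⟨x, rfl⟩
  exact ⟨pt x y, hg x y⟩

end Kron

variable {t m : ℕ}

lemma pv_ne_zero {xs : Fin t → Fin m → F} (h : ∀ i, xs i ≠ 0) : pv xs ≠ 0 := by
  choose k hk using fun i => Function.ne_iff.mp (h i)
  intro h0
  exact (Finset.prod_ne_zero_iff.mpr fun i _ => hk i) (congrFun h0 k)

/-- Proportional pure vectors have proportional factors. -/
theorem mem_span_of_pv_eq {xs ys : Fin t → Fin m → F} (hx : ∀ i, xs i ≠ 0) (hy : ∀ i, ys i ≠ 0) {l : F}
    (h : pv ys = l • pv xs) (i : Fin t) : ys i ∈ Submodule.span F ({xs i} : Set (Fin m → F)) := by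
  classical
  choose k hk using fun i => Function.ne_iff.mp (hy i)
  have hP : (∏ j ∈ Finset.univ.erase i, ys j (k j)) ≠ 0 := Finset.prod_ne_zero_iff.mpr fun j _ => hk j
  refine Submodule.mem_span_singleton.mpr
    ⟨l * (∏ j ∈ Finset.univ.erase i, xs j (k j)) / ∏ j ∈ Finset.univ.erase i, ys j (k j), funext fun z => ?_⟩
  have e := congrFun h (Function.update k i z)
  simp only [pv, Pi.smul_apply, smul_eq_mul] at e
  rw [← Finset.mul_prod_erase _ _ (Finset.mem_univ i), ← Finset.mul_prod_erase _ _ (Finset.mem_univ i)] at e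
  simp only [Function.update_self] at e
  have hu : ∀ zs : Fin t → Fin m → F, ∏ j ∈ Finset.univ.erase i, zs j (Function.update k i z j) =
      ∏ j ∈ Finset.univ.erase i, zs j (k j) := fun zs => Finset.prod_congr rfl fun j hj => by
    rw [Function.update_of_ne (Finset.ne_of_mem_erase hj)]
  rw [hu, hu] at e
  rw [Pi.smul_apply, smul_eq_mul, div_mul_eq_mul_div, div_eq_iff hP, e]
  ring

/-- The data of the identity. -/
theorem twData_one_unique (hm : 2 ≤ m) {σ : Equiv.Perm (Fin t)} {gs : Fin t → GL (Fin m) F}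
    (h : TWData (1 : GL (Idx t m) F) σ gs) : σ = 1 ∧ ∀ i, ∃ c : F, ∀ x, (gs i).val *ᵥ x = c • x := by
  classical
  have key : ∀ xs : Fin t → Fin m → F, (∀ i, xs i ≠ 0) → ∀ i,
      (gs i).val *ᵥ xs (σ i) ∈ Submodule.span F ({xs i} : Set (Fin m → F)) := fun xs hx i => by
    have e := h xs
    rw [Units.val_one, one_mulVec] at e
    exact mem_span_of_pv_eq (ys := fun j => (gs j).val *ᵥ xs (σ j)) hx (fun j => mulVec_ne_zero _ (hx _))
      (l := 1) (by rw [one_smul]; exact e.symm) i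
  have hσ : σ = 1 := by
    ext1 i
    by_contra hi
    rw [Equiv.Perm.one_apply] at hi
    obtain ⟨e, he⟩ : ∃ e : Fin m → F, e ≠ 0 := ⟨Pi.single ⟨0, by omega⟩ 1, by simp⟩
    obtain ⟨y, hy⟩ := exists_notMem_span (show 1 < m by omega) ![(gs i).val *ᵥ e]
    have hy0 : y ≠ 0 := fun h0 => hy (h0 ▸ Submodule.zero_mem _)
    have := key (Function.update (fun _ => e) i y) (fun j => by
      by_cases hj : j = i
      · subst hj; simpa using hy0
      · simpa [hj] using he) i
    rw [Function.update_of_ne hi, Function.update_self] at this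
    obtain ⟨l, hl⟩ := Submodule.mem_span_singleton.mp this
    have hl0 : l ≠ 0 := fun h0 => mulVec_ne_zero (gs i) he (by rw [← hl, h0, zero_smul])
    exact hy (Submodule.mem_span_range_iff_exists_fun F |>.mpr ⟨fun _ => l⁻¹, by
      rw [← hl]; simp [smul_smul, hl0]⟩)
  refine ⟨hσ, fun i => exists_scalar_of_eig (by omega) fun x => ?_⟩
  by_cases hx : x = 0
  · exact ⟨0, by rw [hx, mulVec_zero, smul_zero]⟩
  have := key (fun _ => x) (fun _ => hx) i
  obtain ⟨l, hl⟩ := Submodule.mem_span_singleton.mp this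
  exact ⟨l, hl.symm⟩

lemma mv_slotW {g : GL (Idx (t + 1) m) F} {s : Fin (t + 1)} {u : Fin m → F}
    (h : mv (slotG s g) = pureW (m ^ t) u) : mv g = slotW s u := by
  ext v
  rw [mem_slotW, ← h]
  constructor
  · rintro ⟨w, rfl⟩
    exact ⟨w ∘ (slotE s).symm, by
      simp only [LinearMap.sub_apply, Matrix.mulVecLin_apply, Module.End.one_apply, slotG, glReindex_mulVec]
      rfl⟩
  · rintro ⟨w, hw⟩
    refine ⟨w ∘ slotE s, (slotE s).symm.surjective.injective_comp_right ?_⟩
    have e := glReindex_mulVec (slotE s) g (w ∘ slotE s)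
    rw [Function.comp_assoc, Equiv.self_comp_symm, Function.comp_id] at e
    simp only [LinearMap.sub_apply, Matrix.mulVecLin_apply, Module.End.one_apply, slotG, e] at hw ⊢
    rw [← hw]
    funext p
    simp

/-- An element without slot permutation moves a pure subspace, if little. -/
theorem pure_of_base (hm : 3 ≤ m) {g : GL (Idx (t + 1) m) F} {gs : Fin (t + 1) → GL (Fin m) F}
    (hg : TWData g 1 gs) (hne : g ≠ 1) (hd : Module.finrank F (mv g) ≤ m ^ t) :
    ∃ s u, u ≠ 0 ∧ mv g = slotW s u := by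
  classical
  by_cases hall : ∀ s, ∃ c : F, ∀ x, (gs s).val *ᵥ x = c • x
  · exfalso
    choose c hc using hall
    have hsc : ∀ xs, g.val *ᵥ pv xs = (∏ s, c s) • pv xs := fun xs => by
      rw [hg]
      funext a
      simp [pv, hc, Finset.prod_mul_distrib]
    have hP : (∏ s, c s) ≠ 1 := fun h => hne (ext_pv fun xs => by rw [hsc, h, one_smul, Units.val_one, one_mulVec])
    have htop : mv g = ⊤ := by
      rw [eq_top_iff]
      intro v _
      have hv : ∀ w : Idx (t + 1) m → F, g.val *ᵥ w = (∏ s, c s) • w := fun w => by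
        conv_lhs => rw [pi_eq_sum_univ' w]
        conv_rhs => rw [pi_eq_sum_univ' w]
        rw [mulVec_sum, Finset.smul_sum]
        exact Finset.sum_congr rfl fun x _ => by rw [mulVec_smul, single_eq_pv, hsc, smul_comm]
      exact ⟨((∏ s, c s) - 1)⁻¹ • v, by
        simp only [LinearMap.sub_apply, Matrix.mulVecLin_apply, Module.End.one_apply]
        rw [hv, show ∀ (r : F) (w : Idx (t + 1) m → F), r • w - w = (r - 1) • w from fun r w => by
          rw [sub_smul, one_smul], smul_smul, mul_inv_cancel₀ (sub_ne_zero.mpr hP), one_smul]⟩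
    rw [htop, finrank_top, Module.finrank_pi] at hd
    rw [Fintype.card_fun, Fintype.card_fin, Fintype.card_fin, pow_succ] at hd
    have := Nat.pow_pos (n := t) (show 0 < m by omega)
    nlinarith
  push Not at hall
  obtain ⟨s, hs⟩ := hall
  obtain ⟨A, π, -, -, hA⟩ := hg.slot (s := s) rfl
  have hd' : Module.finrank F (mv (kr (flatG t m A) (gs s))) ≤ m ^ t := by
    rw [← hA, slotG, finrank_mv_glReindex]; exact hd
  obtain ⟨v, hv⟩ : ∃ v, ∀ l : F, (gs s).val *ᵥ v ≠ l • v := by
    by_contra h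
    push Not at h
    obtain ⟨c, hc⟩ := exists_scalar_of_eig (by omega) h
    obtain ⟨x, hx⟩ := hs c
    exact hx (hc x)
  obtain ⟨c, hc⟩ : ∃ c : F, ∀ x, (flatG t m A).val *ᵥ x = c • x := by
    refine exists_scalar_of_eig (Nat.pow_pos (by omega)) fun x => ?_
    by_contra hx
    push Not at hx
    have := lt_finrank_mv_kr hm hx hv
    omega
  obtain ⟨u, hu, he⟩ := mv_kr_scalar hc (gs s) (fun h => hne ((slotG s).injective (by rw [hA, h, map_one]))) hd'
  exact ⟨s, u, hu, mv_slotW (by rw [hA, he])⟩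

/-- The index vectors map below. -/
lemma finrank_ge_card {ι : Type} [Fintype ι] [DecidableEq ι] (g : GL ι F) (X : Finset ι)
    (h : ∀ x ∈ X, ∀ y ∈ X, (g.val *ᵥ Pi.single x 1) y = 0) : X.card ≤ Module.finrank F (mv g) := by
  classical
  obtain ⟨S, hS⟩ : ∃ S : (X → F) →ₗ[F] (X → F), ∀ c, S c = c := ⟨LinearMap.id, fun c => rfl⟩
  obtain ⟨R, hR⟩ : ∃ R : (ι → F) →ₗ[F] (X → F), ∀ v y, R v y = v y.1 :=
    ⟨LinearMap.funLeft F F Subtype.val, fun v y => rfl⟩
  have hsur : LinearMap.range (R.comp (mv g).subtype) = ⊤ := by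
    rw [eq_top_iff]
    intro c _
    obtain ⟨w, hw⟩ : ∃ w : ι → F, w = ∑ x : X, (-c x) • Pi.single x.1 1 := ⟨_, rfl⟩
    refine ⟨⟨_, sub_mem_mv g w⟩, funext fun y => ?_⟩
    rw [LinearMap.comp_apply, hR]
    change (g.val *ᵥ w - w) y.1 = c y
    rw [hw, mulVec_sum, Pi.sub_apply, Finset.sum_apply, Finset.sum_apply]
    simp only [mulVec_smul, Pi.smul_apply, smul_eq_mul]
    rw [Finset.sum_eq_zero fun x _ => by rw [h x.1 x.2 y.1 y.2, mul_zero],
      Finset.sum_eq_single y (fun x _ hx => by simp [Ne.symm (fun e => hx (Subtype.ext e) : x.1 ≠ y.1)]) (by simp)]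
    simp
  have := LinearMap.finrank_range_le (R.comp (mv g).subtype)
  rwa [hsur, finrank_top, Module.finrank_pi, Fintype.card_coe] at this

lemma card_filter_lt (T : ℕ) {i j : Fin (T + 2)} (hij : i ≠ j) :
    2 * (Finset.univ.filter fun x : Idx (T + 2) m => x i < x j).card + m ^ (T + 1) = m ^ (T + 2) := by
  classical
  obtain ⟨L, hL⟩ : ∃ L, L = Finset.univ.filter fun x : Idx (T + 2) m => x i < x j := ⟨_, rfl⟩
  obtain ⟨G, hG⟩ : ∃ G, G = Finset.univ.filter fun x : Idx (T + 2) m => x j < x i := ⟨_, rfl⟩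
  obtain ⟨D, hD⟩ : ∃ D, D = Finset.univ.filter fun x : Idx (T + 2) m => x i = x j := ⟨_, rfl⟩
  have h1 : L.card = G.card := by
    refine Finset.card_nbij' (fun x => x ∘ Equiv.swap i j) (fun x => x ∘ Equiv.swap i j) ?_ ?_ ?_ ?_ <;>
      intro x hx <;> simp_all [Function.comp_def]
  obtain ⟨i', hi'⟩ := Fin.exists_succAbove_eq hij
  have h2 : D.card = m ^ (T + 1) := by
    rw [show m ^ (T + 1) = (Finset.univ : Finset (Idx (T + 1) m)).card by simp]
    refine Finset.card_nbij' (fun x k => x (j.succAbove k)) (fun y => Fin.insertNth j (y i') y) ?_ ?_ ?_ ?_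
    · intro x _; simp
    · intro y _; simp [hD, ← hi']
    · intro x hx
      simp [hD, ← hi'] at hx
      funext k
      rcases eq_or_ne k j with rfl | hk
      · simp [hx]
      · obtain ⟨k', rfl⟩ := Fin.exists_succAbove_eq hk
        simp
    · intro y _; funext k; simp
  have h3 : L.card + G.card + D.card = m ^ (T + 2) := by
    rw [← Finset.card_union_of_disjoint, ← Finset.card_union_of_disjoint]
    · rw [show L ∪ G ∪ D = Finset.univ from Finset.eq_univ_of_forall fun x => by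
        rcases lt_trichotomy (x i) (x j) with h | h | h <;> simp [hL, hG, hD, h]]
      simp
    · rw [Finset.disjoint_left]; intro x hx hx'; simp [hL, hG, hD] at hx hx' ⊢; omega
    · rw [Finset.disjoint_left]; intro x hx hx'; simp [hL, hG] at hx hx'; omega
  rw [← hL]
  omega

/-- The data of a product of tensor and permutation, read on basis vectors. -/
lemma pv_apply_zero {ys : Fin t → Fin m → F} {y : Idx t m} {k : Fin t} (h : ys k (y k) = 0) : pv ys y = 0 :=
  Finset.prod_eq_zero (Finset.mem_univ k) h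

/-- A slot permutation with little moved space is one transposition, in dimension three and characteristic two. -/
theorem perm_small (hm : 3 ≤ m) {g : GL (Idx (t + 1) m) F} {σ : Equiv.Perm (Fin (t + 1))}
    {gs : Fin (t + 1) → GL (Fin m) F} (hg : TWData g σ gs) (hsq : (g.val - 1) * (g.val - 1) = 0)
    (hσ : σ ≠ 1) (hd : Module.finrank F (mv g) ≤ m ^ t) :
    (2 : F) = 0 ∧ m = 3 ∧ ∃ i j, i ≠ j ∧ σ = Equiv.swap i j := by
  classical
  obtain ⟨i, hi⟩ : ∃ i, σ i ≠ i := by
    by_contra h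
    push Not at h
    exact hσ (Equiv.ext h)
  obtain ⟨j, hj⟩ : ∃ j, j = σ i := ⟨_, rfl⟩
  have hij : i ≠ j := fun h => hi (hj ▸ h.symm)
  have hg2 : ∀ v, g.val *ᵥ (g.val *ᵥ v) = (2 : F) • (g.val *ᵥ v) - v := fun v => by
    have := congrArg (· *ᵥ v) hsq
    simp only [← mulVec_mulVec, sub_mulVec, one_mulVec, zero_mulVec, mulVec_sub] at this
    rw [two_smul]
    linear_combination (norm := abel) this
  have h2 : (2 : F) = 0 := by
    by_contra h2
    -- a pure vector differing from its image in two slots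
    obtain ⟨e, he⟩ : ∃ e : Fin m → F, e ≠ 0 := ⟨Pi.single ⟨0, by omega⟩ 1, by simp⟩
    obtain ⟨y, hy⟩ := exists_notMem_span (show 2 < m by omega)
      ![(gs j).val *ᵥ e, (gs i)⁻¹.val *ᵥ e]
    have hy0 : y ≠ 0 := fun h0 => hy (h0 ▸ Submodule.zero_mem _)
    obtain ⟨xs, hxs⟩ : ∃ xs : Fin (t + 1) → Fin m → F, xs = Function.update (fun _ => e) j y := ⟨_, rfl⟩
    have hx : ∀ k, xs k ≠ 0 := fun k => by
      rw [hxs]
      by_cases hk : k = j
      · subst hk; simpa using hy0
      · simpa [hk] using he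
    obtain ⟨ys, hys⟩ : ∃ ys : Fin (t + 1) → Fin m → F, ys = fun k => (gs k).val *ᵥ xs (σ k) := ⟨_, rfl⟩
    have hy' : ∀ k, ys k ≠ 0 := fun k => hys ▸ mulVec_ne_zero _ (hx _)
    have hni : ys i ∉ Submodule.span F ({xs i} : Set (Fin m → F)) := by
      rw [hys, hxs]
      simp only [← hj, Function.update_self, Function.update_of_ne hij]
      intro h
      obtain ⟨l, hl⟩ := Submodule.mem_span_singleton.mp h
      refine hy ((Submodule.mem_span_range_iff_exists_fun F).mpr ⟨![0, l], ?_⟩)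
      simp only [Fin.sum_univ_two, Matrix.cons_val_zero, Matrix.cons_val_one, zero_smul, zero_add]
      rw [← mulVec_smul, hl, Transvec.inv_mulVec_cancel]
    have hnj : ys j ∉ Submodule.span F ({xs j} : Set (Fin m → F)) := by
      rw [hys, hxs]
      have : σ j ≠ j := fun h => hij (σ.injective (hj ▸ h.symm : σ i = σ j))
      simp only [Function.update_of_ne this, Function.update_self]
      intro h
      obtain ⟨l, hl⟩ := Submodule.mem_span_singleton.mp h
      have hl0 : l ≠ 0 := fun h0 => mulVec_ne_zero (gs j) he (by rw [← hl, h0, zero_smul])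
      refine hy ((Submodule.mem_span_range_iff_exists_fun F).mpr ⟨![l⁻¹, 0], ?_⟩)
      simp only [Fin.sum_univ_two, Matrix.cons_val_zero, Matrix.cons_val_one, zero_smul, add_zero]
      rw [← hl, inv_smul_smul₀ hl0]
    obtain ⟨zs, hzs⟩ : ∃ zs : Fin (t + 1) → Fin m → F, zs = fun k => (gs k).val *ᵥ ys (σ k) := ⟨_, rfl⟩
    have heq : pv zs = (2 : F) • pv ys - pv xs := by
      have := hg2 (pv xs)
      rw [hg, hg] at this
      rw [hzs, hys]
      exact this
    have hslot := congrArg (fun v : Idx (t + 1) m → F => v ∘ (slotE i).symm) heq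
    simp only [slot_vec, Pi.sub_comp] at hslot
    rw [show ((2 : F) • pv ys) ∘ (slotE i).symm = (2 : F) • (pv ys ∘ (slotE i).symm) from rfl, slot_vec] at hslot
    obtain ⟨φ, hφ, hφy⟩ := exists_functional hni
    have hφx := hφ _ (Submodule.mem_span_singleton_self _)
    have hnx : xs i ∉ Submodule.span F ({ys i} : Set (Fin m → F)) := fun h => by
      obtain ⟨l, hl⟩ := Submodule.mem_span_singleton.mp h
      have hl0 : l ≠ 0 := fun h0 => hx i (by rw [← hl, h0, zero_smul])
      exact hni (Submodule.mem_span_singleton.mpr ⟨l⁻¹, by rw [← hl, inv_smul_smul₀ hl0]⟩)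
    obtain ⟨ψ, hψ, hψx⟩ := exists_functional hnx
    have hψy := hψ _ (Submodule.mem_span_singleton_self _)
    have e1 := congrArg (sl φ) hslot
    have e2 := congrArg (sl ψ) hslot
    rw [map_sub, map_smul, sl_pt, sl_pt, sl_pt, hφy, hφx, one_smul, zero_smul, sub_zero] at e1
    rw [map_sub, map_smul, sl_pt, sl_pt, sl_pt, hψy, hψx, one_smul, zero_smul, smul_zero, zero_sub] at e2
    obtain ⟨j', hj'⟩ := Fin.exists_succAbove_eq hij.symm
    refine hnj (hj' ▸ mem_span_of_pv_eq (fun k => hx (i.succAbove k)) (fun k => hy' (i.succAbove k))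
      (l := -((φ ⬝ᵥ zs i) / ((2 : F) * (ψ ⬝ᵥ zs i)))) ?_ j')
    have hψz : ψ ⬝ᵥ zs i ≠ 0 := fun h0 => by
      rw [h0, zero_smul, eq_comm, neg_eq_zero] at e2
      exact pv_ne_zero (fun k => hx (i.succAbove k))
        ((flatE t m).symm.surjective.injective_comp_right (a₂ := 0) e2)
    refine (flatE t m).symm.surjective.injective_comp_right ?_
    simp only
    change fv (fun k => ys (i.succAbove k)) =
      (-((φ ⬝ᵥ zs i) / ((2 : F) * (ψ ⬝ᵥ zs i)))) • fv (fun k => xs (i.succAbove k))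
    calc fv (fun k => ys (i.succAbove k)) = (2 : F)⁻¹ • ((φ ⬝ᵥ zs i) • fv fun k => zs (i.succAbove k)) := by
          rw [e1, inv_smul_smul₀ h2]
      _ = _ := by
          rw [← neg_neg (fv fun k => xs (i.succAbove k)), ← e2, smul_neg, smul_smul, smul_smul, ← neg_smul]
          congr 1
          field_simp
  -- involution
  have hgg : TWData (1 : GL (Idx (t + 1) m) F) (σ * σ) fun k => gs k * gs (σ k) := by
    have : g * g = 1 := gl_ext fun v => by
      rw [Transvec.mul_mulVec, hg2, h2, zero_smul, zero_sub, Units.val_one, one_mulVec, ← neg_one_smul F v,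
        show (-1 : F) = 1 by linear_combination -h2, one_smul]
    exact this ▸ hg.mul hg
  obtain ⟨hσ2, hsc⟩ := twData_one_unique (by omega) hgg
  have hσσ : ∀ k, σ (σ k) = k := fun k => by
    have := congrArg (fun π : Equiv.Perm (Fin (t + 1)) => π k) hσ2
    simpa using this
  obtain ⟨T, rfl⟩ : ∃ T, t = T + 1 := ⟨t - 1, by
    rcases Nat.eq_zero_or_pos t with h0 | h0
    · subst h0
      exact absurd (Subsingleton.elim (α := Fin 1) i j) hij
    · omega⟩
  -- coordinates adapted to pairs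
  have key : ∀ k l : Fin (T + 2), k < l → σ k = l → σ l = k := fun k l _ h => h ▸ hσσ k
  obtain ⟨hs, hhs⟩ : ∃ hs : Fin (T + 2) → GL (Fin m) F, hs = fun k => if k < σ k then gs k else 1 := ⟨_, rfl⟩
  obtain ⟨h, hh⟩ : ∃ h, h = tGL hs := ⟨_, rfl⟩
  obtain ⟨g', hg'⟩ : ∃ g', g' = h⁻¹ * g * h := ⟨_, rfl⟩
  have hd' : Module.finrank F (mv g') ≤ m ^ (T + 1) := by
    refine le_trans ?_ hd
    have : mv g' ≤ (mv g).map (Matrix.mulVecLin h⁻¹.val) := by
      rintro _ ⟨w, rfl⟩
      refine ⟨_, sub_mem_mv g (h.val *ᵥ w), ?_⟩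
      simp [hg', Transvec.mul_mulVec, mulVec_sub]
    exact (Submodule.finrank_mono this).trans (Submodule.finrank_map_le _ _)
  have hdata : TWData g' σ fun k => (hs k)⁻¹ * gs k * hs (σ k) := by
    have := (((hh ▸ twData_tGL hs : TWData h 1 hs)).inv.mul hg).mul (hh ▸ twData_tGL hs : TWData h 1 hs)
    rw [← hg'] at this
    simpa using this
  -- on a pair the images of basis vectors are swapped
  have hpair : ∀ k l : Fin (T + 2), k < l → σ k = l → ∀ x y : Idx (T + 2) m,
      (g'.val *ᵥ Pi.single x 1) y ≠ 0 → y k = x l ∧ y l = x k := by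
    intro k l hkl hk x y hne
    rw [single_eq_pv, hdata] at hne
    have hl := key k l hkl hk
    have hk' : hs k = gs k := by rw [hhs]; simp [hk, hkl]
    have hl' : hs l = 1 := by rw [hhs]; simp [hl, not_lt.mpr hkl.le]
    refine ⟨?_, ?_⟩ <;> by_contra hy <;> refine hne ?_
    · refine pv_apply_zero (k := k) ?_
      simp [hk, hk', hl', hy]
    · refine pv_apply_zero (k := l) ?_
      obtain ⟨c, hc⟩ := hsc l
      simp only [hl, hk', hl', inv_one, one_mul]
      rw [hl] at hc
      rw [hc]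
      simp [hy]
  obtain ⟨i₀, j₀, hij₀, hij₁, hp⟩ : ∃ k l : Fin (T + 2), k < l ∧ σ k = l ∧ (k = i ∧ l = j ∨ k = j ∧ l = i) := by
    rcases lt_or_gt_of_ne hij with h | h
    · exact ⟨i, j, h, hj.symm, Or.inl ⟨rfl, rfl⟩⟩
    · exact ⟨j, i, h, by rw [hj, hσσ], Or.inr ⟨rfl, rfl⟩⟩
  have hcard := card_filter_lt (m := m) T hij₀.ne
  have h1 := finrank_ge_card g' (Finset.univ.filter fun x : Idx (T + 2) m => x i₀ < x j₀) fun x hx y hy => by
    by_contra hne
    obtain ⟨e1, e2⟩ := hpair i₀ j₀ hij₀ hij₁ x y hne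
    simp only [Finset.mem_filter, Finset.mem_univ, true_and] at hx hy
    omega
  have hpow : m ^ (T + 2) = m * m ^ (T + 1) := pow_succ' m (T + 1)
  have hm3 : m = 3 := by
    have := Nat.pow_pos (n := T + 1) (show 0 < m by omega)
    nlinarith
  refine ⟨h2, hm3, i₀, j₀, hij₀.ne, Equiv.ext fun k => ?_⟩
  by_cases hk0 : k = i₀
  · subst hk0; simp [hij₁]
  by_cases hk1 : k = j₀
  · subst hk1; simp [key _ _ hij₀ hij₁]
  rw [Equiv.swap_apply_of_ne_of_ne hk0 hk1]
  by_contra hk
  obtain ⟨p, r, hpr, hpr', hp0, hp1, hr0, hr1⟩ : ∃ p r, p < r ∧ σ p = r ∧ p ≠ i₀ ∧ p ≠ j₀ ∧ r ≠ i₀ ∧ r ≠ j₀ := by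
    have h0 : σ k ≠ i₀ := fun e => hk1 (σ.injective (e.trans (key _ _ hij₀ hij₁).symm))
    have h1 : σ k ≠ j₀ := fun e => hk0 (σ.injective (e.trans hij₁.symm))
    rcases lt_or_gt_of_ne (Ne.symm hk) with h | h
    · exact ⟨k, σ k, h, rfl, hk0, hk1, h0, h1⟩
    · exact ⟨σ k, k, h, hσσ k, h0, h1, hk0, hk1⟩
  have h2' := finrank_ge_card g' (insert (fun z => if z = r then (⟨1, by omega⟩ : Fin m) else ⟨0, by omega⟩)
      (Finset.univ.filter fun x : Idx (T + 2) m => x i₀ < x j₀)) fun x hx y hy => by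
    by_contra hne
    obtain ⟨e1, e2⟩ := hpair i₀ j₀ hij₀ hij₁ x y hne
    obtain ⟨e3, e4⟩ := hpair p r hpr hpr' x y hne
    simp only [Finset.mem_insert, Finset.mem_filter, Finset.mem_univ, true_and] at hx hy
    rcases hx with rfl | hx <;> rcases hy with rfl | hy
    · simp [hpr.ne, Ne.symm hpr.ne] at e3
    · simp [Ne.symm hr0, Ne.symm hr1] at e1 e2
      omega
    · simp [Ne.symm hr0, Ne.symm hr1] at e1 e2
      omega
    · omega
  rw [Finset.card_insert_of_notMem (by simp [Ne.symm hr0, Ne.symm hr1])] at h2'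
  subst hm3
  omega

end CfsgLib.Classical22.TWMax
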