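/-
Groups containing the slot root elements: elements fixing a pure subspace lie in the tensor wreath group.
-/
import Cfsg.Agent.Lib.Classical22.TensorWreathMax.RootLike
import Cfsg.Agent.Lib.Classical22.TensorMaxTransport

set_option autoImplicit false
set_option linter.unusedSectionVars false
set_option linter.unusedSimpArgs false

namespace CfsgLib.Classical22.TWMax

open Matrix Kronecker CfsgLib.Transvec CfsgLib.Classical22.TensorMax
open CfsgLib.Classical22.TensorMax.SpO (kr kr_apply isKron_kr)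
open scoped MatrixGroups

variable {F : Type*} [Field F] {t m : ℕ}

/-- The slot element with matrix `B`. -/
def slotEl (s : Fin (t + 1)) (B : GL (Fin m) F) : GL (Idx (t + 1) m) F :=
  tGL (Function.update (fun _ => 1) s B)

lemma slotEl_data (s : Fin (t + 1)) (B : GL (Fin m) F) :
    TWData (slotEl s B) 1 (Function.update (fun _ => 1) s B) := twData_tGL _

lemma slotEl_apply (s : Fin (t + 1)) (B : GL (Fin m) F) (xs : Fin (t + 1) → Fin m → F) :
    (slotEl s B).val *ᵥ pv xs = pv (Function.update xs s (B.val *ᵥ xs s)) := by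
  rw [slotEl, tGL_apply]
  congr 1
  funext j
  by_cases hj : j = s
  · subst hj; simp
  · simp [hj]

lemma slotEl_val (s : Fin (t + 1)) (B : GL (Fin m) F) : (slotEl s B).val = emb s B.val :=
  mat_ext_pv fun xs => by rw [slotEl_apply, emb_mulVec_pv]

lemma slotG_slotEl (s : Fin (t + 1)) (B : GL (Fin m) F) :
    slotG s (slotEl s B) = kr (1 : GL (Fin (m ^ t)) F) B := by
  obtain ⟨A, π, hA, hπ, he⟩ := (slotEl_data s B).slot (s := s) rfl
  rw [he]
  congr 1
  · refine ext_fv fun xs => ?_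
    rw [flatG_apply, hA, Units.val_one, one_mulVec]
    have : π = 1 := Equiv.ext fun j => (Fin.succAbove_right_injective (hπ j)).symm
    simp [this, fv, Fin.succAbove_ne]
  · simp

lemma transv_single_val {ι : Type} [Fintype ι] [DecidableEq ι] {x y : ι} (h : x ≠ y) :
    (transv (Pi.single x (1 : F)) (Pi.single y 1)).val = 1 + single x y 1 := by
  rw [transv_val (by simp [Ne.symm h, h])]
  congr 1
  ext i j
  by_cases hi : i = x <;> by_cases hj : j = y <;>
    simp_all [vecMulVec_apply, single_apply, eq_comm]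

/-- The hypotheses on the group: slot roots, and every slot permutation beyond two slots. -/
structure WCtx (M : Subgroup (GL (Idx (t + 1) m) F)) : Prop where
  three : 3 ≤ m
  root : ∀ (s : Fin (t + 1)) (u φ : Fin m → F), φ ⬝ᵥ u = 0 → slotEl s (transv u φ) ∈ M
  perm : 2 ≤ t → ∀ σ : Equiv.Perm (Fin (t + 1)), ∃ g ∈ M, ∃ gs, TWData g σ gs

variable {M : Subgroup (GL (Idx (t + 1) m) F)}

lemma rootB_eq_kr {a b : ℕ} {u φ : Fin b → F} (h : φ ⬝ᵥ u = 0) :
    rootB a u φ h = kr (1 : GL (Fin a) F) (transv u φ) := by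
  obtain ⟨B, hB, hBx⟩ := exists_rootB_kr (a := a) h
  rw [hB]
  congr 1
  exact gl_ext fun x => by rw [hBx, transv_mulVec h]

lemma WCtx.rootB_mem (C : WCtx M) (s : Fin (t + 1)) {u φ : Fin m → F} (h : φ ⬝ᵥ u = 0) :
    rootB (m ^ t) u φ h ∈ M.map (slotG s).toMonoidHom :=
  ⟨_, C.root s u φ h, by rw [rootB_eq_kr h]; exact slotG_slotEl s _⟩

lemma specialLinear_le_of_map {ι κ : Type} [Fintype ι] [DecidableEq ι] [Fintype κ] [DecidableEq κ] (e : ι ≃ κ)
    {N : Subgroup (GL ι F)} (h : Cfsg.Geo.specialLinear κ F ≤ N.map (Cfsg.Geo.glReindex e).toMonoidHom) :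
    Cfsg.Geo.specialLinear ι F ≤ N := by
  intro g hg
  rw [mem_specialLinear_iff] at hg
  obtain ⟨g', hg', he⟩ := h ((mem_specialLinear_iff (Cfsg.Geo.glReindex e g)).mpr (by
    rw [show (Cfsg.Geo.glReindex e g).val = Matrix.reindexAlgEquiv F F e g.val from rfl,
      Matrix.reindexAlgEquiv_apply, Matrix.det_reindex_self, hg]))
  exact (Cfsg.Geo.glReindex e).injective he ▸ hg'

lemma flatG_val (A : GL (Idx t m) F) : (flatG t m A).val = Matrix.reindexAlgEquiv F F (flatE t m) A.val := rfl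

lemma succ_perm (s : Fin (t + 1)) (π : Equiv.Perm (Fin t)) :
    ∃ σ : Equiv.Perm (Fin (t + 1)), σ s = s ∧ ∀ j, σ (s.succAbove j) = s.succAbove (π j) :=
  ⟨(finSuccEquiv' s).trans ((Equiv.optionCongr π).trans (finSuccEquiv' s).symm), by simp, fun j => by simp⟩

/-- The algebra condition for the complement of a slot. -/
theorem WCtx.full (C : WCtx M) (s : Fin (t + 1))
    (Z : Submodule F (Matrix (Fin (m ^ t)) (Fin (m ^ t)) F)) (hone : (1 : Matrix _ _ F) ∈ Z)
    (hmul : ∀ X ∈ Z, ∀ Y ∈ Z, X * Y ∈ Z)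
    (hstab : ∀ (A : GL (Fin (m ^ t)) F) (B : GL (Fin m) F), kr A B ∈ M.map (slotG s).toMonoidHom →
      ∀ X ∈ Z, A.val * X * A⁻¹.val ∈ Z)
    (hns : ∃ X ∈ Z, ¬ ∃ c : F, X = c • 1) : Z = ⊤ := by
  classical
  obtain ⟨R, hR⟩ : ∃ R : Matrix (Idx t m) (Idx t m) F ≃ₐ[F] Matrix (Fin (m ^ t)) (Fin (m ^ t)) F,
      R = Matrix.reindexAlgEquiv F F (flatE t m) := ⟨_, rfl⟩
  obtain ⟨Z', hZ'⟩ : ∃ Z' : Submodule F (Matrix (Idx t m) (Idx t m) F), ∀ X, X ∈ Z' ↔ R X ∈ Z :=
    ⟨Z.comap R.toLinearMap, fun X => Iff.rfl⟩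
  have hmul' : ∀ X ∈ Z', ∀ Y ∈ Z', X * Y ∈ Z' := fun X hX Y hY => by
    rw [hZ'] at hX hY ⊢; rw [map_mul]; exact hmul _ hX _ hY
  -- conjugation by elements of the group fixing the slot
  have hconj : ∀ (g : GL (Idx (t + 1) m) F) σ gs, g ∈ M → TWData g σ gs → σ s = s →
      ∃ (A : GL (Idx t m) F) (π : Equiv.Perm (Fin t)), TWData A π (fun j => gs (s.succAbove j)) ∧
        (∀ j, σ (s.succAbove j) = s.succAbove (π j)) ∧ ∀ X ∈ Z', A.val * X * A⁻¹.val ∈ Z' := by
    intro g σ gs hg hd hs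
    obtain ⟨A, π, hA, hπ, he⟩ := hd.slot hs
    refine ⟨A, π, hA, hπ, fun X hX => ?_⟩
    rw [hZ'] at hX ⊢
    have := hstab (flatG t m A) (gs s) ⟨g, hg, he⟩ _ hX
    rw [← map_inv, flatG_val, flatG_val, ← hR] at this
    rwa [map_mul, map_mul]
  have hslot : SlotStable Z' := by
    intro X hX j k l hkl
    have hd : (Pi.single l 1 : Fin m → F) ⬝ᵥ Pi.single k 1 = 0 := by simp [hkl]
    obtain ⟨A, π, hA, hπ, hAX⟩ := hconj _ _ _ (C.root (s.succAbove j) _ _ hd) (slotEl_data _ _) rfl
    have hπ1 : π = 1 := Equiv.ext fun i => (Fin.succAbove_right_injective (hπ i)).symm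
    have hval : ∀ B : GL (Fin m) F, ∀ A : GL (Idx t m) F,
        TWData A 1 (fun i => Function.update (fun _ => (1 : GL (Fin m) F)) (s.succAbove j) B (s.succAbove i)) →
        A.val = emb j B.val := fun B A hA => mat_ext_pv fun xs => by
      rw [hA, emb_mulVec_pv]
      congr 1
      funext i
      by_cases hij : i = j
      · subst hij; simp
      · simp [hij, Fin.succAbove_right_injective.ne hij]
    subst hπ1
    have e1 := hval _ A hA
    have e2 : A⁻¹.val = emb j (transv (Pi.single k (1 : F)) (Pi.single l 1))⁻¹.val := by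
      refine Units.inv_eq_of_mul_eq_one_right ?_
      rw [e1, ← emb_mul, ← Units.val_mul, mul_inv_cancel, Units.val_one, emb_one]
    have hT : (transv (Pi.single k (1 : F)) (Pi.single l 1)).val = 1 + single k l 1 := transv_single_val hkl
    have hTi : (transv (Pi.single k (1 : F)) (Pi.single l 1))⁻¹.val = 1 - single k l 1 := by
      refine Units.inv_eq_of_mul_eq_one_right ?_
      rw [hT, mul_sub, mul_one, add_mul, one_mul, single_mul_single_of_ne (h := hkl.symm)]
      simp
    have := hAX X hX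
    rw [e1, e2, hT, hTi] at this
    rw [show su j k l = embL j (single k l (1 : F)) from rfl]
    rw [show emb j (1 + single k l (1 : F)) = 1 + embL j (single k l 1) by rw [emb_add, emb_one]; rfl,
      show emb j (1 - single k l (1 : F)) = 1 - embL j (single k l 1) by
        rw [sub_eq_add_neg, emb_add, emb_one, sub_eq_add_neg]; congr 1; exact map_neg (embL j) _] at this
    exact this
  obtain ⟨X, hX, hXns⟩ := hns
  obtain ⟨i, hi⟩ := exists_slot C.three hmul' hslot (X := R.symm X) (by rw [hZ']; simpa using hX) fun ⟨c, hc⟩ =>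
    hXns ⟨c, by rw [← AlgEquiv.apply_symm_apply R X, hc, map_smul, map_one]⟩
  have hall : ∀ j W, emb j W ∈ Z' := by
    intro j W
    by_cases hji : j = i
    · exact hji ▸ hi W
    have h2 : 2 ≤ t := by
      have := Fin.val_ne_of_ne hji
      have := j.isLt
      have := i.isLt
      omega
    obtain ⟨σ, hσs, hσ⟩ := succ_perm s (Equiv.swap j i)
    obtain ⟨g, hg, gs, hgs⟩ := C.perm h2 σ
    obtain ⟨A, π, hA, hπ, hAX⟩ := hconj g σ gs hg hgs hσs
    have hπj : π j = i := Fin.succAbove_right_injective ((hπ j).symm.trans (by rw [hσ]; simp))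
    have := hAX _ (hi ((gs (s.succAbove j))⁻¹.val * W * (gs (s.succAbove j)).val))
    rw [← hπj, hA.conj_emb] at this
    convert this using 2
    simp [mul_assoc]
  have htop := eq_top_of_slots hmul' (by rw [hZ', map_one]; exact hone) hall
  refine eq_top_iff.mpr fun Y _ => ?_
  have : R.symm Y ∈ Z' := htop ▸ Submodule.mem_top
  rw [hZ'] at this
  simpa using this

/-- A root element of slot `s` moves one pure subspace to another. -/
theorem WCtx.exists_move (C : WCtx M) (s : Fin (t + 1)) {u u' : Fin m → F} (hu : u ≠ 0) (hu' : u' ≠ 0) :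
    ∃ h ∈ M.map (slotG s).toMonoidHom, IsKron h ∧ img h (pureW (m ^ t) u) = pureW (m ^ t) u' := by
  by_cases hsp : u' ∈ Submodule.span F {u}
  · obtain ⟨c, hc⟩ := Submodule.mem_span_singleton.mp hsp
    refine ⟨1, Subgroup.one_mem _, (Cfsg.Geo.kroneckerSubgroup _ m F).one_mem, ?_⟩
    rw [img_one]
    refine (Submodule.eq_of_le_of_finrank_eq ?_ (by rw [finrank_pureW hu, finrank_pureW hu'])).symm
    rintro _ ⟨y, rfl⟩
    rw [ptL_apply, ← hc, pt_smul_right, ← pt_smul_left]
    exact pt_mem_pureW _ _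
  have hn : u ∉ Submodule.span F {u' - u} := by
    intro h
    obtain ⟨c, hc⟩ := Submodule.mem_span_singleton.mp h
    have hc0 : c ≠ 0 := fun e => hu (by rw [← hc, e, zero_smul])
    refine hsp (Submodule.mem_span_singleton.mpr ⟨c⁻¹ + 1, ?_⟩)
    rw [add_smul, one_smul]
    conv_lhs => arg 1; rw [← hc, smul_smul, inv_mul_cancel₀ hc0, one_smul]
    abel
  obtain ⟨φ, hφ, hφu⟩ := exists_functional hn
  have hd := hφ _ (Submodule.mem_span_singleton_self _)
  refine ⟨_, C.rootB_mem s hd, isKron_rootB hd, Submodule.eq_of_le_of_finrank_eq ?_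
    (by rw [finrank_img, finrank_pureW hu, finrank_pureW hu'])⟩
  intro v hv
  obtain ⟨_, ⟨y, rfl⟩, rfl⟩ := mem_img.mp hv
  rw [ptL_apply, rootB_mulVec, sl_pt, hφu, one_smul, ← pt_add_right, add_sub_cancel]
  exact pt_mem_pureW _ _

/-- An element fixing a pure subspace is a tensor product in that slot. -/
theorem WCtx.kron_of_fix (C : WCtx M) (ht : 1 ≤ t) (hSL : ¬ Cfsg.Geo.specialLinear (Idx (t + 1) m) F ≤ M)
    {g : GL (Idx (t + 1) m) F} (hg : g ∈ M) {s : Fin (t + 1)} {u : Fin m → F} (hu : u ≠ 0)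
    (hfix : ∀ v ∈ slotW s u, g.val *ᵥ v ∈ slotW s u) : IsKron (slotG s g) := by
  classical
  by_contra hk
  have hm := C.three
  obtain ⟨e⟩ : Nonempty (Fin m) := ⟨⟨0, by omega⟩⟩
  have hse : (sv e : Fin m → F) ≠ 0 := by simp [sv]
  obtain ⟨h, hh, hhK, hhe⟩ := C.exists_move s hse hu
  have hg' : slotG s g ∈ M.map (slotG s).toMonoidHom := ⟨g, hg, rfl⟩
  have hf : img (slotG s g) (pureW (m ^ t) u) = pureW (m ^ t) u := by
    refine Submodule.eq_of_le_of_finrank_eq ?_ (finrank_img _ _)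
    intro v hv
    obtain ⟨w, hw, rfl⟩ := mem_img.mp hv
    have hv' : w ∘ slotE s ∈ slotW s u := by
      rw [mem_slotW, Function.comp_assoc, Equiv.self_comp_symm, Function.comp_id]; exact hw
    have := hfix _ hv'
    rw [mem_slotW, ← glReindex_mulVec, Function.comp_assoc, Equiv.self_comp_symm, Function.comp_id] at this
    exact this
  refine hSL (specialLinear_le_of_map (slotE s) (le_of_fixes (M := M.map (slotG s).toMonoidHom) ?_ hm
    (fun u φ h => C.rootB_mem s h)
    (fun Z h1 h2 h3 h4 i j _ => by rw [C.full s Z h1 h2 h3 h4]; trivial)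
    (e := e) (y := h⁻¹ * slotG s g * h) (mul_mem (mul_mem (inv_mem hh) hg') hh) (fun x => ?_) fun hk' => hk ?_))
  · calc 2 ≤ m := by omega
      _ ≤ m ^ t := Nat.le_self_pow (by omega) m
  · have h1 : img (h⁻¹ * slotG s g * h) (pureW (m ^ t) (sv e)) = pureW (m ^ t) (sv e) := by
      rw [img_mul, img_mul, hhe, hf, ← hhe, img_inv_img]
    obtain ⟨x', hx'⟩ : (h⁻¹ * slotG s g * h).val *ᵥ pt x (sv e) ∈ pureW (m ^ t) (sv e) :=
      h1 ▸ mem_img.mpr ⟨_, pt_mem_pureW _ _, rfl⟩
    exact ⟨x', hx'.symm⟩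
  · have h2 := (Cfsg.Geo.kroneckerSubgroup (m ^ t) m F).mul_mem
      ((Cfsg.Geo.kroneckerSubgroup (m ^ t) m F).mul_mem hhK hk') ((Cfsg.Geo.kroneckerSubgroup (m ^ t) m F).inv_mem hhK)
    simpa [IsKron, mul_assoc] using h2

/-- One slot only. -/
theorem isTW_one (g : GL (Idx 1 m) F) : IsTW g := by
  classical
  obtain ⟨B, hB⟩ : ∃ B : GL (Fin m) F, B = Cfsg.Geo.glReindex (Equiv.funUnique (Fin 1) (Fin m)) g := ⟨_, rfl⟩
  refine ⟨1, fun _ => B, fun xs => ?_⟩
  have hp : ∀ ys : Fin 1 → Fin m → F, pv ys = (ys 0) ∘ Equiv.funUnique (Fin 1) (Fin m) := fun ys => by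
    funext x; simp [pv]
  rw [hp, hp]
  have h := glReindex_mulVec (Equiv.funUnique (Fin 1) (Fin m)) g (xs 0 ∘ Equiv.funUnique (Fin 1) (Fin m))
  rw [Function.comp_assoc, Equiv.self_comp_symm, Function.comp_id, ← hB] at h
  rw [Equiv.Perm.one_apply, h, Function.comp_assoc, Equiv.symm_comp_self, Function.comp_id]

/-- The statement to be proved by induction on the number of slots. -/
def Dichotomy (F : Type*) [Field F] (t m : ℕ) : Prop :=
  ∀ M : Subgroup (GL (Idx (t + 1) m) F), WCtx M →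
    Cfsg.Geo.specialLinear (Idx (t + 1) m) F ≤ M ∨ ∀ g ∈ M, IsTW g

/-- An element fixing a pure subspace lies in the tensor wreath group. -/
theorem isTW_of_fix {T : ℕ} (IH : Dichotomy F T m) {M : Subgroup (GL (Idx (T + 2) m) F)} (C : WCtx M)
    (hSL : ¬ Cfsg.Geo.specialLinear (Idx (T + 2) m) F ≤ M) {g : GL (Idx (T + 2) m) F} (hg : g ∈ M)
    {s : Fin (T + 2)} {u : Fin m → F} (hu : u ≠ 0) (hfix : ∀ v ∈ slotW s u, g.val *ᵥ v ∈ slotW s u) : IsTW g := by
  classical
  have hm := C.three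
  obtain ⟨A₀, B, hAB⟩ := C.kron_of_fix (by omega) hSL hg hu hfix
  obtain ⟨A, rfl⟩ := (flatG (T + 1) m).surjective A₀
  have hval : slotG s g = kr (flatG (T + 1) m A) B := Units.ext hAB
  suffices h : IsTW A by
    obtain ⟨π, as, hA⟩ := h
    exact twData_of_kr s hA B hval
  rcases Nat.eq_zero_or_pos T with rfl | hT
  · exact isTW_one A
  -- the group of first factors
  obtain ⟨Ms, hMs⟩ : ∃ Ms : Subgroup (GL (Idx (T + 1) m) F), ∀ A', A' ∈ Ms ↔
      ∃ B', kr (flatG (T + 1) m A') B' ∈ M.map (slotG s).toMonoidHom := by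
    refine ⟨{ carrier := {A' | ∃ B', kr (flatG (T + 1) m A') B' ∈ M.map (slotG s).toMonoidHom}
              one_mem' := ?_
              mul_mem' := ?_
              inv_mem' := ?_ }, fun A' => Iff.rfl⟩
    rotate_left
    · refine ⟨1, ?_⟩
      rw [show kr (flatG (T + 1) m (1 : GL (Idx (T + 1) m) F)) (1 : GL (Fin m) F) = 1 from Units.ext (by simp [kr])]
      exact Subgroup.one_mem _
    · rintro x ⟨X, hx⟩
      refine ⟨X⁻¹, ?_⟩
      rw [show kr (flatG (T + 1) m x⁻¹) X⁻¹ = (kr (flatG (T + 1) m x) X)⁻¹ from Units.ext (by simp [kr])]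
      exact inv_mem hx
    · rintro x y ⟨X, hx⟩ ⟨Y, hy⟩
      refine ⟨X * Y, ?_⟩
      rw [show kr (flatG (T + 1) m (x * y)) (X * Y) = kr (flatG (T + 1) m x) X * kr (flatG (T + 1) m y) Y from
        Units.ext (by simp [kr, ← Matrix.mul_kronecker_mul])]
      exact mul_mem hx hy
  have hroot : ∀ (j : Fin (T + 1)) (v φ : Fin m → F), φ ⬝ᵥ v = 0 →
      kr (flatG (T + 1) m (slotEl j (transv v φ))) (1 : GL (Fin m) F) ∈ M.map (slotG s).toMonoidHom := by
    intro j v φ h
    obtain ⟨A', π, hA', hπ, he⟩ := (slotEl_data (s.succAbove j) (transv v φ)).slot (s := s) rfl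
    have hπ1 : π = 1 := Equiv.ext fun i => (Fin.succAbove_right_injective (hπ i)).symm
    subst hπ1
    refine ⟨_, C.root (s.succAbove j) v φ h, ?_⟩
    rw [MulEquiv.coe_toMonoidHom, he, Function.update_of_ne (Fin.ne_succAbove s j)]
    congr 2
    refine ext_pv fun xs => ?_
    rw [hA', slotEl_data j _ xs]
    congr 1
    funext i
    by_cases hij : i = j
    · subst hij; simp
    · simp [hij, Fin.succAbove_right_injective.ne hij]
  have C' : WCtx Ms :=
    { three := hm
      root := fun j v φ h => (hMs _).mpr ⟨1, hroot j v φ h⟩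
      perm := fun h2 π => by
        obtain ⟨σ, hσs, hσ⟩ := succ_perm s π
        obtain ⟨g', hg', gs, hgs⟩ := C.perm (by omega) σ
        obtain ⟨A', π', hA', hπ', he⟩ := hgs.slot hσs
        refine ⟨A', (hMs _).mpr ⟨gs s, g', hg', he⟩, fun j => gs (s.succAbove j), ?_⟩
        rw [show π = π' from Equiv.ext fun j => Fin.succAbove_right_injective ((hσ j).symm.trans (hπ' j))]
        exact hA' }
  rcases IH Ms C' with hle | hall
  swap
  · exact hall A ((hMs A).mpr ⟨B, g, hg, hval⟩)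
  exfalso
  -- a transvection in the other slots
  obtain ⟨k, l, hkl⟩ : ∃ k l : Fin m, k ≠ l := ⟨⟨0, by omega⟩, ⟨1, by omega⟩, by simp⟩
  obtain ⟨o, ho⟩ : ∃ o : Fin (T + 1), o ≠ 0 := ⟨Fin.last T, fun h => by simp [Fin.ext_iff] at h; omega⟩
  obtain ⟨x, hx⟩ : ∃ x : Idx (T + 1) m, x = Function.update (fun _ => l) o k := ⟨_, rfl⟩
  obtain ⟨y, hy⟩ : ∃ y : Idx (T + 1) m, y = fun _ => l := ⟨_, rfl⟩
  obtain ⟨x', hx'⟩ : ∃ x' : Idx (T + 1) m, x' = Function.update x 0 k := ⟨_, rfl⟩
  have hyx : y ≠ x := fun h => hkl (by simpa [hx, hy] using (congrFun h o).symm)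
  have hyx' : y ≠ x' := fun h => hkl (by simpa [hx', hy] using (congrFun h 0).symm)
  have hd : ∀ z : Idx (T + 1) m, y ≠ z → (Pi.single y 1 : Idx (T + 1) m → F) ⬝ᵥ Pi.single z 1 = 0 := fun z h => by
    simp [h]
  have hkl' : (Pi.single l 1 : Fin m → F) ⬝ᵥ Pi.single k 1 = 0 := by simp [hkl]
  obtain ⟨r, hr⟩ : ∃ r, r = slotEl (0 : Fin (T + 1)) (transv (Pi.single k (1 : F)) (Pi.single l 1)) := ⟨_, rfl⟩
  obtain ⟨Tr, hTr⟩ : ∃ Tr : GL (Idx (T + 1) m) F, Tr = transv (Pi.single x 1) (Pi.single y 1) := ⟨_, rfl⟩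
  obtain ⟨B', hB'⟩ := (hMs Tr).mp (hle (hTr ▸ transv_mem_specialLinear _ _))
  have hrM : kr (flatG (T + 1) m r) (1 : GL (Fin m) F) ∈ M.map (slotG s).toMonoidHom := hr ▸ hroot 0 _ _ hkl'
  have hcomm : r * Tr * r⁻¹ * Tr⁻¹ = transv (Pi.single x' 1) (Pi.single y 1) := by
    have hrx : r.val *ᵥ Pi.single x 1 = Pi.single x 1 + Pi.single x' 1 := by
      rw [hr, single_eq_pv x, slotEl_apply, transv_mulVec hkl', single_eq_pv x']
      have hx0 : x 0 = l := by simp [hx, Ne.symm ho]
      funext z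
      simp only [pv, Pi.add_apply, Fin.prod_univ_succ]
      simp [hx', hx0, Pi.single_apply, add_mul]
    have hry : ∀ v, (r.val *ᵥ v) y = v y := fun v => by
      rw [hr, slotEl_val, transv_single_val hkl, emb_add, emb_one, add_mulVec, one_mulVec, Pi.add_apply, mulVec,
        dotProduct, add_eq_left]
      refine Finset.sum_eq_zero fun z _ => ?_
      simp [su_apply, hy, Ne.symm hkl]
    refine gl_ext fun v => ?_
    rw [Transvec.mul_mulVec, Transvec.mul_mulVec, Transvec.mul_mulVec, hTr,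
      transv_inv (hd x hyx), transv_mulVec (hd x hyx), transv_mulVec (by rw [neg_dotProduct, hd x hyx, neg_zero]),
      transv_mulVec (hd x' hyx'), mulVec_add, mulVec_smul, Transvec.mulVec_inv_cancel, hrx]
    simp only [single_dotProduct, one_mul, neg_dotProduct]
    have e := hry (r⁻¹.val *ᵥ (v + -v y • Pi.single x 1))
    rw [Transvec.mulVec_inv_cancel] at e
    rw [← e]
    simp only [Pi.add_apply, Pi.smul_apply, Pi.single_eq_of_ne hyx, smul_zero, add_zero, neg_smul, Pi.neg_apply,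
      neg_zero, smul_add]
    abel
  obtain ⟨E, hE, hEe⟩ : ∃ E ∈ M, slotG s E = kr (flatG (T + 1) m (transv (Pi.single x' 1) (Pi.single y 1)))
      (1 : GL (Fin m) F) := by
    obtain ⟨E, hE, he⟩ := mul_mem (mul_mem (mul_mem hrM hB') (inv_mem hrM)) (inv_mem hB')
    refine ⟨E, hE, ?_⟩
    rw [← MulEquiv.coe_toMonoidHom, he, ← hcomm]
    refine Units.ext ?_
    simp [kr, ← Matrix.mul_kronecker_mul]
  obtain ⟨s', hs'⟩ : ∃ s', s' = s.succAbove (0 : Fin (T + 1)) := ⟨_, rfl⟩
  have hEv : ∀ (v : Idx (T + 2) m → F) (z : Idx (T + 2) m), (E.val *ᵥ v) z = v z +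
      if (fun j => z (s.succAbove j)) = x' then v (Fin.insertNth s (z s) y) else 0 := by
    intro v z
    have h := congrFun (glReindex_mulVec (slotE s) E v) (slotE s z)
    rw [← slotG, hEe, Function.comp_apply, Equiv.symm_apply_apply] at h
    rw [← h]
    change ((flatG (T + 1) m (transv (Pi.single x' 1) (Pi.single y 1))).val ⊗ₖ
      (1 : Matrix (Fin m) (Fin m) F) *ᵥ (v ∘ (slotE s).symm)) (slotE s z) = _
    rw [slotE_apply, mulVec, dotProduct, Fintype.sum_prod_type]
    simp only [kroneckerMap_apply, Matrix.one_apply, mul_ite, mul_one, mul_zero, ite_mul, zero_mul,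
      Finset.sum_ite_eq, Finset.mem_univ, if_true]
    rw [← (flatE (T + 1) m).sum_comp, flatG_val]
    simp only [Matrix.reindexAlgEquiv_apply, Matrix.reindex_apply, Matrix.submatrix_apply, Equiv.symm_apply_apply,
      Function.comp_apply]
    have hsy : ∀ w : Idx (T + 1) m, (slotE s).symm (flatE (T + 1) m w, z s) = Fin.insertNth s (z s) w := fun w =>
      (slotE s).injective (by rw [Equiv.apply_symm_apply, slotE_apply]; simp)
    simp only [hsy]
    rw [transv_single_val (Ne.symm hyx')]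
    simp only [Matrix.add_apply, Matrix.one_apply, add_mul, Finset.sum_add_distrib, ite_mul, one_mul, zero_mul,
      Finset.sum_ite_eq, Finset.mem_univ, if_true, single_apply, ite_and]
    congr 1
    · congr 1; exact funext fun q => by
        refine Fin.succAboveCases s ?_ (fun q => ?_) q <;> simp
    · split_ifs with h1 h2 h2
      · simp
      · exact absurd h1.symm h2
      · exact absurd h2.symm h1
      · simp
  have hkr := C.kron_of_fix (g := E) (s := s') (u := Pi.single k 1) (by omega) hSL hE (by simp) fun v hv => by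
    have hv0 : ∀ z : Idx (T + 2) m, z s' ≠ k → v z = 0 := fun z hz => by
      obtain ⟨w, hw⟩ := mem_slotW.mp hv
      have := congrFun hw (slotE s' z)
      simp [ptL_apply, pt, slotE_apply, Ne.symm hz, hz] at this
      rw [this, ← slotE_apply, Equiv.symm_apply_apply]
    rw [show E.val *ᵥ v = v from funext fun z => by
      rw [hEv, hv0 (Fin.insertNth s (z s) y) (by rw [hs', Fin.insertNth_apply_succAbove, hy]; exact hkl.symm)]
      simp]
    exact hv
  obtain ⟨A', B'', hAB'⟩ := hkr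
  have hent : ∀ z w : Idx (T + 2) m, E.val z w =
      A'.val (flatE _ m fun j => z (s'.succAbove j)) (flatE _ m fun j => w (s'.succAbove j)) *
        B''.val (z s') (w s') := fun z w => by
    have := congrFun (congrFun hAB' (slotE s' z)) (slotE s' w)
    rw [kroneckerMap_apply, slotE_apply, slotE_apply] at this
    rw [← this]
    simp [slotG, Cfsg.Geo.glReindex, ← slotE_apply]
  have hE1 : ∀ z w : Idx (T + 2) m, E.val z w = (if w = z then 1 else 0) +
      if (fun j => z (s.succAbove j)) = x' ∧ w = Fin.insertNth s (z s) y then 1 else 0 := fun z w => by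
    have := hEv (Pi.single w 1) z
    rw [mulVec_single_one, Matrix.col_apply] at this
    rw [this]
    simp only [Pi.single_apply, eq_comm (a := z), eq_comm (b := w), ite_and]
  obtain ⟨Z₀, hZ₀⟩ : ∃ Z₀ : Idx (T + 2) m, Z₀ = Fin.insertNth s k x' := ⟨_, rfl⟩
  obtain ⟨W₀, hW₀⟩ : ∃ W₀ : Idx (T + 2) m, W₀ = Fin.insertNth s k y := ⟨_, rfl⟩
  have hzk : Z₀ s' = k := by rw [hZ₀, hs', Fin.insertNth_apply_succAbove, hx']; simp
  have hwl : W₀ s' = l := by rw [hW₀, hs', Fin.insertNth_apply_succAbove, hy]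
  obtain ⟨o', ho'⟩ : ∃ o', s'.succAbove o' = s.succAbove o :=
    Fin.exists_succAbove_eq (fun h => ho (Fin.succAbove_right_injective (hs' ▸ h)))
  have hne : Z₀ ≠ W₀ := fun h => hkl (hzk.symm.trans ((congrFun h s').trans hwl))
  have h1 : E.val Z₀ W₀ = 1 := by
    rw [hE1, if_neg hne.symm, zero_add, if_pos]
    exact ⟨by simp [hZ₀], by simp [hZ₀, hW₀]⟩
  have h2 : E.val Z₀ (Function.update W₀ s' k) = 0 := by
    rw [hE1, if_neg, if_neg, add_zero]
    · rintro ⟨-, h⟩
      have := congrFun h s'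
      rw [Function.update_self, hs', Fin.insertNth_apply_succAbove, hy] at this
      exact hkl this
    · intro h
      have := congrFun h (s.succAbove o)
      rw [Function.update_of_ne (ho' ▸ Fin.succAbove_ne s' o'), hW₀, hZ₀, Fin.insertNth_apply_succAbove,
        Fin.insertNth_apply_succAbove, hy, hx'] at this
      simp [ho, hx] at this
      exact hkl this.symm
  have h3 : ∀ z : Idx (T + 2) m, z s' = k → E.val z z ≠ 0 := fun z hz => by
    rw [hE1, if_pos rfl, if_neg, add_zero]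
    · exact one_ne_zero
    · rintro ⟨-, h⟩
      have := congrFun h s'
      rw [hz, hs', Fin.insertNth_apply_succAbove, hy] at this
      exact hkl this
  rw [hent, hzk, hwl] at h1
  rw [hent, hzk, Function.update_self, show (fun j => Function.update W₀ s' k (s'.succAbove j)) =
    fun j => W₀ (s'.succAbove j) from funext fun j => by simp [Fin.succAbove_ne]] at h2
  have h4 := h3 Z₀ hzk
  rw [hent, hzk] at h4
  rcases mul_eq_zero.mp h2 with h | h
  · rw [h, zero_mul] at h1; exact zero_ne_one h1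
  · exact h4 (by rw [h, mul_zero])

end CfsgLib.Classical22.TWMax
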