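/-
Maps sending pure subspaces to pure subspaces, and the slot root elements.
-/
import Cfsg.Agent.Lib.Classical22.TensorWreathMax.Ctx
import Cfsg.Agent.Lib.Classical22.TensorMaxFinal

set_option autoImplicit false
set_option linter.unusedSectionVars false
set_option linter.unusedSimpArgs false

namespace CfsgLib.Classical22.TWMax

open Matrix Kronecker CfsgLib.Transvec CfsgLib.Classical22.TensorMax
open CfsgLib.Classical22.TensorMax.SpO (kr kr_apply isKron_kr)
open scoped MatrixGroups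

variable {F : Type*} [Field F] {t m : ℕ}

/-- The image of a subspace. -/
def gim {ι : Type} [Fintype ι] [DecidableEq ι] (g : GL ι F) (W : Submodule F (ι → F)) : Submodule F (ι → F) :=
  W.map (Matrix.mulVecLin g.val)

lemma mem_gim {ι : Type} [Fintype ι] [DecidableEq ι] {g : GL ι F} {W : Submodule F (ι → F)} {v : ι → F} :
    v ∈ gim g W ↔ ∃ w ∈ W, g.val *ᵥ w = v := Submodule.mem_map

lemma gim_mul {ι : Type} [Fintype ι] [DecidableEq ι] (g h : GL ι F) (W : Submodule F (ι → F)) :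
    gim (g * h) W = gim g (gim h W) := by
  rw [gim, gim, gim, Units.val_mul, Matrix.mulVecLin_mul, Submodule.map_comp]

lemma gim_one {ι : Type} [Fintype ι] [DecidableEq ι] (W : Submodule F (ι → F)) : gim (1 : GL ι F) W = W := by
  rw [gim, Units.val_one, Matrix.mulVecLin_one, Submodule.map_id]

lemma gim_inv_gim {ι : Type} [Fintype ι] [DecidableEq ι] (g : GL ι F) (W : Submodule F (ι → F)) :
    gim g⁻¹ (gim g W) = W := by rw [← gim_mul, inv_mul_cancel, gim_one]

lemma finrank_gim {ι : Type} [Fintype ι] [DecidableEq ι] (g : GL ι F) (W : Submodule F (ι → F)) :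
    Module.finrank F (gim g W) = Module.finrank F W :=
  (Submodule.equivMapOfInjective _ (fun _ _ h => Transvec.mulVec_injective g h) W).finrank_eq.symm

lemma gim_inf {ι : Type} [Fintype ι] [DecidableEq ι] (g : GL ι F) (W W' : Submodule F (ι → F)) :
    gim g (W ⊓ W') = gim g W ⊓ gim g W' :=
  Submodule.map_inf _ fun _ _ h => Transvec.mulVec_injective g h

lemma mv_conj {ι : Type} [Fintype ι] [DecidableEq ι] (g h : GL ι F) : mv (g * h * g⁻¹) = gim g (mv h) := by
  refine le_antisymm ?_ ?_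
  · intro v hv
    obtain ⟨w, rfl⟩ := mem_mv.mp hv
    refine mem_gim.mpr ⟨_, mem_mv.mpr ⟨(g⁻¹).val *ᵥ w, rfl⟩, ?_⟩
    rw [mulVec_sub, Transvec.mulVec_inv_cancel, ← Transvec.mul_mulVec, ← Transvec.mul_mulVec, mul_assoc]
  · intro v hv
    obtain ⟨_, hw', rfl⟩ := mem_gim.mp hv
    obtain ⟨w, rfl⟩ := mem_mv.mp hw'
    refine mem_mv.mpr ⟨g.val *ᵥ w, ?_⟩
    rw [mulVec_sub, ← Transvec.mul_mulVec, inv_mul_cancel_right, Transvec.mul_mulVec]

lemma finrank_slotW (s : Fin (t + 1)) {u : Fin m → F} (hu : u ≠ 0) :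
    Module.finrank F (slotW s u) = m ^ t := by
  rw [slotW, ← Submodule.equivMapOfInjective _ (LinearMap.funLeft_injective_of_surjective F F _
    (slotE s).surjective) (pureW (m ^ t) u) |>.finrank_eq, finrank_pureW hu]

lemma slotW_eq_of_le {s s' : Fin (t + 1)} {u u' : Fin m → F} (hu : u ≠ 0) (hu' : u' ≠ 0)
    (h : slotW s u ≤ slotW s' u') : slotW s u = slotW s' u' :=
  Submodule.eq_of_le_of_finrank_eq h (by rw [finrank_slotW _ hu, finrank_slotW _ hu'])

/-- Elements act on the pure subspaces through their data. -/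
theorem TWData.gim_slotW {g : GL (Idx (t + 1) m) F} {σ : Equiv.Perm (Fin (t + 1))}
    {gs : Fin (t + 1) → GL (Fin m) F} (hg : TWData g σ gs) (i : Fin (t + 1)) {u : Fin m → F} (hu : u ≠ 0) :
    gim g (slotW (σ i) u) = slotW i ((gs i).val *ᵥ u) := by
  refine Submodule.eq_of_le_of_finrank_eq ?_ (by rw [finrank_gim, finrank_slotW _ hu,
    finrank_slotW _ (Transvec.mulVec_ne_zero _ hu)])
  rw [gim, Submodule.map_le_iff_le_comap]
  refine slotW_le fun xs hxs => ?_
  rw [Submodule.mem_comap, Matrix.mulVecLin_apply, hg xs, ← hxs]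
  exact pv_mem_slotW i fun j => (gs j).val *ᵥ xs (σ j)

/-- Two pure subspaces of different slots meet. -/
theorem slotW_inf_ne_bot {s r : Fin (t + 1)} (hsr : s ≠ r) {u v : Fin m → F} (hu : u ≠ 0) (hv : v ≠ 0) :
    slotW s u ⊓ slotW r v ≠ ⊥ := by
  classical
  obtain ⟨xs, hxs⟩ : ∃ xs : Fin (t + 1) → Fin m → F, xs = Function.update (fun _ => v) s u := ⟨_, rfl⟩
  have hx : ∀ k, xs k ≠ 0 := fun k => by
    by_cases hk : k = s
    · subst hk; simpa [hxs] using hu
    · simpa [hxs, hk] using hv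
  intro h
  refine pv_ne_zero hx ((Submodule.mem_bot F).mp (h ▸ Submodule.mem_inf.mpr ⟨?_, ?_⟩))
  · simpa [hxs] using pv_mem_slotW s xs
  · simpa [hxs, hsr.symm] using pv_mem_slotW r xs

/-- Two pure subspaces of one slot meet only if equal. -/
theorem slotW_eq_of_inf {s : Fin (t + 1)} {u v : Fin m → F} (hu : u ≠ 0) (hv : v ≠ 0)
    (h : slotW s u ⊓ slotW s v ≠ ⊥) : slotW s u = slotW s v := by
  obtain ⟨z, hz, hz0⟩ := Submodule.exists_mem_ne_zero_of_ne_bot h
  obtain ⟨h1, h2⟩ := Submodule.mem_inf.mp hz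
  rw [mem_slotW] at h1 h2
  obtain ⟨x, hx⟩ := h1
  obtain ⟨y, hy⟩ := h2
  have e := pureW_eq_of_common hx hy (fun h0 => hz0 ((slotE s).symm.surjective.injective_comp_right (a₂ := 0) h0))
    hu hv
  rw [slotW, slotW, e]

/-- Pure subspaces of different slots differ. -/
theorem slot_eq_of_slotW_eq (hm : 2 ≤ m) {s r : Fin (t + 1)} {u v : Fin m → F} (hu : u ≠ 0) (hv : v ≠ 0)
    (h : slotW s u = slotW r v) : s = r := by
  classical
  by_contra hsr
  obtain ⟨y, hy⟩ := exists_notMem_span (show 1 < m by omega) ![v]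
  have hy0 : y ≠ 0 := fun h0 => hy (h0 ▸ Submodule.zero_mem _)
  obtain ⟨φ, hφ, hφy⟩ := exists_functional hy
  have hφv : φ ⬝ᵥ v = 0 := hφ _ (Submodule.subset_span ⟨0, rfl⟩)
  obtain ⟨xs, hxs⟩ : ∃ xs : Fin (t + 1) → Fin m → F, xs = Function.update (fun _ => y) s u := ⟨_, rfl⟩
  have hx : ∀ k, xs k ≠ 0 := fun k => by
    by_cases hk : k = s
    · subst hk; simpa [hxs] using hu
    · simpa [hxs, hk] using hy0
  have hmem : pv xs ∈ slotW r v := h ▸ (by simpa [hxs] using pv_mem_slotW s xs)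
  rw [mem_slotW, slot_vec, show xs r = y by simp [hxs, Ne.symm hsr]] at hmem
  obtain ⟨w, hw⟩ := hmem
  have e := congrArg (sl φ) hw
  rw [ptL_apply, sl_pt, sl_pt, hφv, hφy, zero_smul, one_smul] at e
  exact pv_ne_zero (fun k => hx (r.succAbove k))
    ((flatE t m).symm.surjective.injective_comp_right (a₂ := 0) e.symm)

/-- Membership in a pure subspace of a lower slot passes to the slices. -/
lemma slice_mem {T : ℕ} {s : Fin (T + 2)} {j : Fin (T + 1)} {u : Fin m → F} {v : Idx (T + 2) m → F}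
    (hv : v ∈ slotW (s.succAbove j) u) (c : Fin m) : (fun w => v (Fin.insertNth s c w)) ∈ slotW j u := by
  classical
  obtain ⟨x, hx⟩ := mem_slotW.mp hv
  obtain ⟨o, ho⟩ := Fin.exists_succAbove_eq (Fin.ne_succAbove s j)
  rw [mem_slotW]
  refine ⟨fun p => x (flatE (T + 1) m fun k => (Fin.insertNth s c
    (Fin.insertNth j (⟨0, c.pos⟩ : Fin m) ((flatE T m).symm p)) : Idx (T + 2) m) ((s.succAbove j).succAbove k)),
    funext fun p => ?_⟩
  obtain ⟨w, rfl⟩ := (slotE j).surjective p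
  have := congrFun hx (slotE (s.succAbove j) (Fin.insertNth s c w))
  simp only [ptL_apply, pt, Function.comp_apply, Equiv.symm_apply_apply, slotE_apply] at this ⊢
  rw [← slotE_apply, Equiv.symm_apply_apply] at this ⊢
  rw [← this, Fin.insertNth_apply_succAbove]
  congr 2
  congr 1
  funext k
  have key : ∀ z : Fin (T + 2), z ≠ s.succAbove j →
      (Fin.insertNth s c (Fin.insertNth j (⟨0, c.pos⟩ : Fin m) (fun i => w (j.succAbove i))) : Idx (T + 2) m) z =
        (Fin.insertNth s c w : Idx (T + 2) m) z := by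
    intro z hz
    refine Fin.succAboveCases s ?_ (fun i hi => ?_) z hz
    · intro _; simp
    · simp only [Fin.insertNth_apply_succAbove]
      have hij : i ≠ j := fun e => hi (e ▸ rfl)
      obtain ⟨i', rfl⟩ := Fin.exists_succAbove_eq hij
      simp
  exact key _ (Fin.succAbove_ne _ k)

/-- A map preserving every slot's pure subspaces acts slot by slot. -/
theorem isTW_of_pures (hm : 2 ≤ m) : ∀ (t : ℕ) (g : GL (Idx (t + 1) m) F),
    (∀ (s : Fin (t + 1)) (u : Fin m → F), u ≠ 0 → ∃ u', u' ≠ 0 ∧ gim g (slotW s u) = slotW s u') → IsTW g := by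
  intro t
  induction t with
  | zero => exact fun g _ => isTW_one g
  | succ T IH =>
    intro g h
    classical
    obtain ⟨A₀, B, hAB⟩ : IsKron (slotG 0 g) := by
      refine isKron_of_pure (Nat.pow_pos (by omega)) (by omega) fun u hu => ?_
      obtain ⟨u', hu', he⟩ := h 0 u hu
      refine ⟨u', hu', Submodule.eq_of_le_of_finrank_eq ?_ (by rw [finrank_img, finrank_pureW hu, finrank_pureW hu'])⟩
      intro v hv
      obtain ⟨w, hw, rfl⟩ := mem_img.mp hv
      have hw' : w ∘ slotE 0 ∈ slotW (0 : Fin (T + 2)) u := by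
        rw [mem_slotW, Function.comp_assoc, Equiv.self_comp_symm, Function.comp_id]; exact hw
      have := he ▸ mem_gim.mpr ⟨_, hw', rfl⟩
      rw [mem_slotW, ← glReindex_mulVec, Function.comp_assoc, Equiv.self_comp_symm, Function.comp_id] at this
      exact this
    obtain ⟨A, rfl⟩ := (flatG (T + 1) m).surjective A₀
    obtain ⟨π, as, hA⟩ : IsTW A := by
      refine IH A fun j u hu => ?_
      obtain ⟨u', hu', he⟩ := h ((0 : Fin (T + 2)).succAbove j) u hu
      refine ⟨u', hu', Submodule.eq_of_le_of_finrank_eq ?_ (by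
        rw [finrank_gim, finrank_slotW _ hu, finrank_slotW _ hu'])⟩
      rw [gim, Submodule.map_le_iff_le_comap]
      refine slotW_le fun xs hxs => ?_
      obtain ⟨v, hv⟩ : ∃ v : Fin m → F, v ≠ 0 := ⟨Pi.single ⟨0, by omega⟩ 1, by simp⟩
      obtain ⟨c, hc⟩ := Function.ne_iff.mp (Transvec.mulVec_ne_zero B hv)
      obtain ⟨X, hXj, hX0⟩ : ∃ X : Fin (T + 2) → Fin m → F, (∀ i, X ((0 : Fin (T + 2)).succAbove i) = xs i) ∧ X 0 = v :=
        ⟨Fin.insertNth 0 v xs, fun i => by simp, by simp⟩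
      have hmem : g.val *ᵥ pv X ∈ slotW ((0 : Fin (T + 2)).succAbove j) u' :=
        he ▸ mem_gim.mpr ⟨_, by rw [← hxs, ← hXj]; exact pv_mem_slotW _ X, rfl⟩
      have hval : ∀ w : Idx (T + 1) m,
          (g.val *ᵥ pv X) (Fin.insertNth 0 c w) = (B.val *ᵥ v) c * (A.val *ᵥ pv xs) w := fun w => by
        have e := congrFun (glReindex_mulVec (slotE 0) g (pv X)) (slotE 0 (Fin.insertNth 0 c w))
        rw [← slotG, show slotG 0 g = kr (flatG (T + 1) m A) B from Units.ext hAB, slot_vec, kr_apply, Function.comp_apply,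
          Equiv.symm_apply_apply] at e
        rw [← e, slotE_apply]
        simp only [pt, hXj, hX0]
        rw [flatG_apply]
        simp [mul_comm]
      rw [Submodule.mem_comap, Matrix.mulVecLin_apply]
      have := Submodule.smul_mem _ (((B.val *ᵥ v) c)⁻¹) (slice_mem hmem c)
      convert this using 1
      funext w
      rw [Pi.smul_apply, hval, smul_eq_mul, inv_mul_cancel_left₀]
      exact hc
    exact twData_of_kr 0 hA B (Units.ext hAB)

/-- The slot root element. -/
noncomputable def rs (s : Fin (t + 1)) (u φ : Fin m → F) : GL (Idx (t + 1) m) F := slotEl s (transv u φ)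

lemma rs_slot {s : Fin (t + 1)} {u φ : Fin m → F} (h : φ ⬝ᵥ u = 0) :
    slotG s (rs s u φ) = rootB (m ^ t) u φ h := by rw [rs, slotG_slotEl, rootB_eq_kr]

lemma rs_mulVec {s : Fin (t + 1)} {u φ : Fin m → F} (h : φ ⬝ᵥ u = 0) (v : Idx (t + 1) m → F) :
    ((rs s u φ).val *ᵥ v) ∘ (slotE s).symm =
      v ∘ (slotE s).symm + pt (sl φ (v ∘ (slotE s).symm)) u := by
  rw [← glReindex_mulVec, ← slotG, rs_slot h, rootB_mulVec]

lemma mv_rs {s : Fin (t + 1)} {u φ : Fin m → F} (h : φ ⬝ᵥ u = 0) (hφ : φ ≠ 0) : mv (rs s u φ) = slotW s u :=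
  mv_slotW (by rw [rs_slot h, mv_eq_move, move_rootB h hφ])

lemma rs_sq {s : Fin (t + 1)} {u φ : Fin m → F} (h : φ ⬝ᵥ u = 0) :
    ((rs s u φ).val - 1) * ((rs s u φ).val - 1) = 0 := by
  refine Matrix.ext_iff_mulVec.2 fun v => (slotE s).symm.surjective.injective_comp_right ?_
  simp only [← mulVec_mulVec, sub_mulVec, one_mulVec, zero_mulVec, Pi.sub_comp, rs_mulVec h]
  simp only [add_sub_cancel_left, sl_pt, h, zero_smul, pt_zero_left]
  rfl

lemma rs_fix {s : Fin (t + 1)} {u φ : Fin m → F} (h : φ ⬝ᵥ u = 0) {v : Idx (t + 1) m → F} (hv : v ∈ slotW s u) :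
    (rs s u φ).val *ᵥ v = v := by
  refine (slotE s).symm.surjective.injective_comp_right ?_
  simp only
  obtain ⟨x, hx⟩ := mem_slotW.mp hv
  rw [rs_mulVec h, ← hx, ptL_apply, sl_pt, h, zero_smul, pt_zero_left, add_zero]

lemma transv_add_right' {u φ ψ : Fin m → F} (h : φ ⬝ᵥ u = 0) (h' : ψ ⬝ᵥ u = 0) :
    transv u φ * transv u ψ = transv u (φ + ψ) := transv_mul h h'

lemma slotEl_mul (s : Fin (t + 1)) (B B' : GL (Fin m) F) : slotEl s B * slotEl s B' = slotEl s (B * B') :=
  Units.ext (by rw [Units.val_mul, slotEl_val, slotEl_val, slotEl_val, Units.val_mul, emb_mul])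

lemma rs_mul (s : Fin (t + 1)) {u φ ψ : Fin m → F} (h : φ ⬝ᵥ u = 0) (h' : ψ ⬝ᵥ u = 0) :
    rs s u φ * rs s u ψ = rs s u (φ + ψ) := by rw [rs, rs, rs, slotEl_mul, transv_add_right' h h']

/-- Conjugating a slot element. -/
lemma TWData.conj_slotEl {g : GL (Idx (t + 1) m) F} {σ : Equiv.Perm (Fin (t + 1))}
    {gs : Fin (t + 1) → GL (Fin m) F} (hg : TWData g σ gs) (i : Fin (t + 1)) (B : GL (Fin m) F) :
    g * slotEl (σ i) B * g⁻¹ = slotEl i (gs i * B * (gs i)⁻¹) :=
  Units.ext (by simp only [Units.val_mul, slotEl_val]; exact hg.conj_emb i B.val)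

/-- Slot elements of one slot are determined by their matrix. -/
lemma slotEl_injective (hm : 0 < m) (s : Fin (t + 1)) : Function.Injective (slotEl (F := F) (m := m) s) := by
  intro B B' h
  have := congrArg (fun g => slotG s g) h
  simp only [slotG_slotEl] at this
  refine Units.ext (Matrix.ext fun i j => ?_)
  obtain ⟨p, -⟩ : ∃ p : Fin (m ^ t), True := ⟨⟨0, Nat.pow_pos hm⟩, trivial⟩
  have e := Matrix.ext_iff.mpr (Units.ext_iff.mp this) (p, i) (p, j)
  simpa [kr] using e

/-- The permutation of an element of the tensor wreath group is determined. -/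
lemma TWData.perm_eq (hm : 2 ≤ m) {g : GL (Idx t m) F} {σ τ : Equiv.Perm (Fin t)}
    {gs hs : Fin t → GL (Fin m) F} (hg : TWData g σ gs) (hh : TWData g τ hs) : σ = τ := by
  have := hg.inv.mul hh
  rw [inv_mul_cancel] at this
  have h1 : τ * σ⁻¹ = (1 : Equiv.Perm (Fin t)) := (twData_one_unique hm this).1
  calc σ = (τ * σ⁻¹) * σ := by rw [h1, one_mul]
    _ = τ := inv_mul_cancel_right τ σ

end CfsgLib.Classical22.TWMax
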