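/-
Dihedral groups of matrices in characteristic two: the 2-part of a product of two involutions and the splitting
belonging to its odd part.
-/
import Cfsg.Agent.Lib.Classical22.TensorWreathMax.Pure

set_option autoImplicit false
set_option linter.unusedSectionVars false
set_option linter.unusedSimpArgs false

namespace CfsgLib.Classical22.TWMax

open Matrix CfsgLib.Transvec
open scoped MatrixGroups

section Group

variable {G : Type*} [Group G] {x z : G}

lemma invol_conj_pow (hx : x * x = 1) (hz : z * z = 1) (n : ℕ) : x * (x * z) ^ n * x = ((x * z) ^ n)⁻¹ := by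
  induction n with
  | zero => simp [hx]
  | succ n ih =>
    rw [pow_succ, show x * ((x * z) ^ n * (x * z)) * x = (x * (x * z) ^ n * x) * (x * (x * z) * x) by
      simp only [mul_assoc]; rw [← mul_assoc x x, hx, one_mul],
      ih, show x * (x * z) * x = (x * z)⁻¹ by
        rw [_root_.mul_inv_rev, inv_eq_of_mul_eq_one_right hx, inv_eq_of_mul_eq_one_right hz, ← mul_assoc x x, hx,
          one_mul],
      ← _root_.mul_inv_rev, ← pow_succ', pow_succ]

lemma mul_pow_invol (hx : x * x = 1) (hz : z * z = 1) {n : ℕ} :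
    x * (x * z) ^ n * (x * (x * z) ^ n) = 1 := by
  rw [← mul_assoc, invol_conj_pow hx hz, inv_mul_cancel]

lemma mul_odd_pow_conj (hx : x * x = 1) (hz : z * z = 1) (l : ℕ) :
    x * (x * z) ^ (2 * l + 1) = ((x * z) ^ l)⁻¹ * z * (x * z) ^ l := by
  rw [← invol_conj_pow hx hz l, two_mul, show l + l + 1 = l + 1 + l by omega, pow_add, pow_add, pow_one]
  simp only [mul_assoc]

/-- A dihedral group with rotation of 2-power order is a 2-group. -/
theorem isPGroup_dihedral {v : G} (hx : x * x = 1) (hv : x * v * x = v⁻¹) {i : ℕ} (hi : v ^ 2 ^ i = 1) :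
    IsPGroup 2 (Subgroup.closure ({x, v} : Set G)) := by
  have hxz : ∀ k : ℤ, x * v ^ k * x = (v ^ k)⁻¹ := fun k => by
    have hxi : x⁻¹ = x := inv_eq_of_mul_eq_one_right hx
    have e : x * v ^ k * x⁻¹ = (x * v * x⁻¹) ^ k := (conj_zpow).symm
    rw [hxi, hv, _root_.inv_zpow] at e
    exact e
  have hmul : ∀ k : ℤ, x * v ^ k = (v ^ k)⁻¹ * x := fun k => by
    rw [← hxz k, mul_assoc (x * v ^ k), hx, mul_one]
  have hmem : ∀ g ∈ Subgroup.closure ({x, v} : Set G), ∃ k : ℤ, g = v ^ k ∨ g = x * v ^ k := by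
    intro g hg
    induction hg using Subgroup.closure_induction with
    | mem g hg =>
      rcases hg with hg | hg
      · exact ⟨0, Or.inr (by simp [hg])⟩
      · exact ⟨1, Or.inl (by simp [Set.mem_singleton_iff.mp hg])⟩
    | one => exact ⟨0, Or.inl (by simp)⟩
    | mul g h _ _ hg hh =>
      obtain ⟨k, hk⟩ := hg
      obtain ⟨l, hl⟩ := hh
      rcases hk with rfl | rfl <;> rcases hl with rfl | rfl
      · exact ⟨k + l, Or.inl (_root_.zpow_add v k l).symm⟩
      · refine ⟨-k + l, Or.inr ?_⟩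
        rw [_root_.zpow_add, ← mul_assoc, ← mul_assoc, hmul (-k), _root_.zpow_neg, inv_inv]
      · exact ⟨k + l, Or.inr (by rw [_root_.zpow_add, mul_assoc])⟩
      · refine ⟨-k + l, Or.inl ?_⟩
        rw [_root_.zpow_add, _root_.zpow_neg, ← hxz]
        simp only [mul_assoc]
    | inv g _ hg =>
      obtain ⟨k, rfl | rfl⟩ := hg
      · exact ⟨-k, Or.inl (_root_.zpow_neg v k).symm⟩
      · exact ⟨k, Or.inr (inv_eq_of_mul_eq_one_right (by rw [← mul_assoc, hxz, inv_mul_cancel]))⟩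
  rintro ⟨g, hg⟩
  obtain ⟨k, rfl | rfl⟩ := hmem g hg
  · refine ⟨i, Subtype.ext ?_⟩
    rw [SubmonoidClass.coe_pow]
    change (v ^ k) ^ 2 ^ i = 1
    rw [← zpow_natCast, ← _root_.zpow_mul, mul_comm, _root_.zpow_mul, zpow_natCast, hi, _root_.one_zpow]
  · refine ⟨1, Subtype.ext ?_⟩
    rw [SubmonoidClass.coe_pow]
    change (x * v ^ k) ^ 2 ^ 1 = 1
    rw [pow_one, pow_two, ← mul_assoc, hxz, inv_mul_cancel]

/-- The 2-part of a product of two involutions. -/
theorem two_part [Finite G] (hx : x * x = 1) (hz : z * z = 1) :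
    ∃ i l : ℕ, orderOf (x * z) = 2 ^ i * (2 * l + 1) ∧ ((x * z) ^ (2 * l + 1)) ^ 2 ^ i = 1 ∧
      orderOf ((x * z) ^ (2 * l + 1)) = 2 ^ i ∧
      IsPGroup 2 (Subgroup.closure ({x, (x * z) ^ (2 * l + 1)} : Set G)) := by
  obtain ⟨i, o, ⟨l, rfl⟩, h⟩ := Nat.exists_eq_two_pow_mul_odd (orderOf_pos (x * z)).ne'
  have hi : ((x * z) ^ (2 * l + 1)) ^ 2 ^ i = 1 := by
    rw [← pow_mul, mul_comm, ← h, pow_orderOf_eq_one]
  refine ⟨i, l, h, hi, ?_, isPGroup_dihedral hx (invol_conj_pow hx hz _) hi⟩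
  rw [orderOf_pow' _ (by omega), h, Nat.gcd_mul_left_left, Nat.mul_div_cancel _ (by omega)]

end Group

variable {F : Type*} [Field F] {ι : Type} [Fintype ι] [DecidableEq ι]

lemma add_self_zero (hc : (2 : F) = 0) (v : ι → F) : v + v = 0 := by rw [← two_smul F v, hc, zero_smul]

lemma neg_self_eq (hc : (2 : F) = 0) (v : ι → F) : -v = v := neg_eq_of_add_eq_zero_left (add_self_zero hc v)

lemma invol_of_sq (hc : (2 : F) = 0) {x : GL ι F} (h : (x.val - 1) * (x.val - 1) = 0) : x * x = 1 :=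
  gl_ext fun v => by
    have e := congrArg (· *ᵥ v) h
    simp only [← mulVec_mulVec, sub_mulVec, one_mulVec, zero_mulVec, mulVec_sub] at e
    rw [Transvec.mul_mulVec, Units.val_one, one_mulVec]
    have e' : x.val *ᵥ (x.val *ᵥ v) = (2 : F) • (x.val *ᵥ v) - v := by
      rw [two_smul]; linear_combination (norm := abel) e
    rw [e', hc, zero_smul, zero_sub, neg_self_eq hc]

lemma fix_mv_of_sq {x : GL ι F} (h : (x.val - 1) * (x.val - 1) = 0) {p : ι → F} (hp : p ∈ mv x) :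
    x.val *ᵥ p = p := by
  obtain ⟨e, rfl⟩ := mem_mv.mp hp
  have := congrArg (· *ᵥ e) h
  simp only [← mulVec_mulVec, sub_mulVec, one_mulVec, zero_mulVec] at this
  exact sub_eq_zero.mp this

lemma mv_inf_mv_pow (s : GL ι F) (k : ℕ) : mv (s ^ k) ≤ mv s := by
  induction k with
  | zero =>
    rintro _ ⟨w, rfl⟩
    simp
  | succ k ih =>
    rintro _ ⟨w, rfl⟩
    simp only [LinearMap.sub_apply, Matrix.mulVecLin_apply, Module.End.one_apply]
    rw [pow_succ', Transvec.mul_mulVec, ← sub_add_sub_cancel _ ((s ^ k).val *ᵥ w) w]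
    exact add_mem (sub_mem_mv _ _) (ih (sub_mem_mv _ _))

/-- The projection to the fixed space of an element of odd order. -/
noncomputable def prC (s : GL ι F) : (ι → F) →ₗ[F] (ι → F) :=
  ∑ k ∈ Finset.range (orderOf s), Matrix.mulVecLin (s ^ k).val

lemma prC_apply (s : GL ι F) (v : ι → F) :
    prC s v = ∑ k ∈ Finset.range (orderOf s), (s ^ k).val *ᵥ v := by
  rw [prC, LinearMap.sum_apply]; rfl

variable [Finite F] {s : GL ι F}

lemma prC_moved (e : ι → F) : prC s (s.val *ᵥ e - e) = 0 := by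
  rw [prC_apply]
  have h := Finset.sum_range_sub (fun k => (s ^ k).val *ᵥ e) (orderOf s)
  rw [pow_orderOf_eq_one, pow_zero, sub_self] at h
  rw [← h]
  refine Finset.sum_congr rfl fun k _ => ?_
  rw [mulVec_sub, pow_succ, Transvec.mul_mulVec]

lemma fix_prC (v : ι → F) : s.val *ᵥ prC s v = prC s v := by
  have h := prC_moved (s := s) v
  rw [map_sub, sub_eq_zero] at h
  conv_rhs => rw [← h]
  rw [prC_apply, prC_apply, mulVec_sum]
  refine Finset.sum_congr rfl fun k _ => ?_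
  rw [← Transvec.mul_mulVec, ← Transvec.mul_mulVec, ← pow_succ', ← pow_succ]

lemma natCast_odd (hc : (2 : F) = 0) {n : ℕ} (hn : Odd n) : (n : F) = 1 := by
  obtain ⟨l, rfl⟩ := hn
  push_cast
  rw [hc, zero_mul, zero_add]

variable (hs : Odd (orderOf s)) (hc : (2 : F) = 0)
include hs hc

lemma prC_fixed {v : ι → F} (hv : s.val *ᵥ v = v) : prC s v = v := by
  have h : ∀ k : ℕ, (s ^ k).val *ᵥ v = v := fun k => by
    induction k with
    | zero => simp
    | succ k ih => rw [pow_succ, Transvec.mul_mulVec, hv, ih]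
  rw [prC_apply, Finset.sum_congr rfl fun k _ => h k, Finset.sum_const, Finset.card_range,
    ← Nat.cast_smul_eq_nsmul F, natCast_odd hc hs, one_smul]

lemma sub_prC_mem (v : ι → F) : v - prC s v ∈ mv s := by
  have e : v - prC s v = -∑ k ∈ Finset.range (orderOf s), ((s ^ k).val *ᵥ v - v) := by
    rw [Finset.sum_sub_distrib, ← prC_apply, Finset.sum_const, Finset.card_range, ← Nat.cast_smul_eq_nsmul F,
      natCast_odd hc hs, one_smul, neg_sub]
  rw [e]
  exact neg_mem (sum_mem fun k _ => mv_inf_mv_pow s k (sub_mem_mv _ _))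

lemma eq_zero_of_fix_moved {b : ι → F} (h : s.val *ᵥ b = b) (hb : b ∈ mv s) : b = 0 := by
  obtain ⟨e, rfl⟩ := mem_mv.mp hb
  rw [← prC_fixed hs hc h, prC_moved]

lemma prC_eq {v a : ι → F} (ha : s.val *ᵥ a = a) (hb : v - a ∈ mv s) : prC s v = a := by
  obtain ⟨e, he⟩ := mem_mv.mp hb
  have : prC s (v - a) = 0 := by rw [← he, prC_moved]
  rw [map_sub, sub_eq_zero, prC_fixed hs hc ha] at this
  exact this

lemma prC_eq_zero {b : ι → F} (hb : b ∈ mv s) : prC s b = 0 :=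
  prC_eq hs hc (mulVec_zero _) (by rwa [sub_zero])

lemma eq_zero_of_sq_fix {e : ι → F} (h : s.val *ᵥ (s.val *ᵥ e) = e) (he : e ∈ mv s) : e = 0 := by
  obtain ⟨l, hl⟩ := hs
  refine eq_zero_of_fix_moved ⟨l, hl⟩ hc ?_ he
  have h2 : ∀ k : ℕ, (s ^ (2 * k)).val *ᵥ e = e := fun k => by
    induction k with
    | zero => simp
    | succ k ih =>
      rw [mul_add, mul_one, pow_add, pow_two, Transvec.mul_mulVec, Transvec.mul_mulVec, h, ih]
  have e1 := congrArg (fun g : GL ι F => g.val *ᵥ e) (pow_orderOf_eq_one s)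
  simp only [Units.val_one, one_mulVec] at e1
  rw [hl, pow_succ', Transvec.mul_mulVec, h2] at e1
  exact e1

section Inv

variable {x : GL ι F} (hx : (x.val - 1) * (x.val - 1) = 0) (hinv : x * s * x = s⁻¹)
include hx hinv

omit hs [Finite F] in
lemma conj_inv_apply (e : ι → F) : x.val *ᵥ (s.val *ᵥ e) = (s⁻¹).val *ᵥ (x.val *ᵥ e) := by
  rw [← hinv, Transvec.mul_mulVec, Transvec.mul_mulVec, ← Transvec.mul_mulVec x x, invol_of_sq hc hx,
    Units.val_one, one_mulVec]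

lemma fix_x_of_fix {a : ι → F} (ha : s.val *ᵥ a = a) : s.val *ᵥ (x.val *ᵥ a) = x.val *ᵥ a := by
  have := conj_inv_apply hc hx hinv a
  rw [ha] at this
  conv_lhs => rw [this, Transvec.mulVec_inv_cancel]

lemma moved_x {b : ι → F} (hb : b ∈ mv s) : x.val *ᵥ b ∈ mv s := by
  obtain ⟨e, rfl⟩ := mem_mv.mp hb
  rw [mulVec_sub, conj_inv_apply hc hx hinv]
  refine mem_mv.mpr ⟨-((s⁻¹).val *ᵥ (x.val *ᵥ e)), ?_⟩
  rw [mulVec_neg, Transvec.mulVec_inv_cancel]
  abel

lemma prC_x (v : ι → F) : prC s (x.val *ᵥ v) = x.val *ᵥ prC s v :=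
  prC_eq hs hc (fix_x_of_fix hs hc hx hinv (fix_prC v))
    (by rw [← mulVec_sub]; exact moved_x hs hc hx hinv (sub_prC_mem hs hc v))

omit hs [Finite F] in
lemma trace_map_mem (e : ι → F) :
    ∀ p, p = s.val *ᵥ e + (s⁻¹).val *ᵥ e → x.val *ᵥ e = e → p ∈ mv x := fun p hp he => by
  refine mem_mv.mpr ⟨s.val *ᵥ e, ?_⟩
  rw [conj_inv_apply hc hx hinv, he, hp, sub_eq_add_neg, neg_self_eq hc, add_comm]

/-- On the moved space the fixed vectors of `x` lie in its image. -/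
theorem mem_mv_of_moved {b : ι → F} (hb : b ∈ mv s) (hxb : x.val *ᵥ b = b) : b ∈ mv x := by
  obtain ⟨D, hD⟩ : ∃ D : (ι → F) →ₗ[F] (ι → F), ∀ e, D e = s.val *ᵥ e + (s⁻¹).val *ᵥ e :=
    ⟨Matrix.mulVecLin s.val + Matrix.mulVecLin (s⁻¹).val, fun e => rfl⟩
  have hDmem : ∀ e ∈ mv s, D e ∈ mv s := by
    intro e he
    obtain ⟨w, rfl⟩ := mem_mv.mp he
    rw [hD, mulVec_sub, mulVec_sub]
    refine add_mem (sub_mem_mv _ _) (mem_mv.mpr ⟨(s⁻¹).val *ᵥ w, ?_⟩)
    rw [Transvec.mulVec_inv_cancel, Transvec.inv_mulVec_cancel]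
  have hker : ∀ e ∈ mv s, D e = 0 → e = 0 := fun e he h0 => by
    refine eq_zero_of_sq_fix hs hc ?_ he
    rw [hD, add_eq_zero_iff_eq_neg, neg_self_eq hc] at h0
    rw [h0, Transvec.mulVec_inv_cancel]
  have hinj : Function.Injective (D.restrict hDmem) := (injective_iff_map_eq_zero _).mpr fun e h0 =>
    Subtype.ext (hker e.1 e.2 (congrArg Subtype.val h0))
  obtain ⟨⟨e, he⟩, hDe⟩ := (LinearMap.injective_iff_surjective.mp hinj) ⟨b, hb⟩
  have hDe' : D e = b := congrArg Subtype.val hDe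
  have hxe : x.val *ᵥ e = e := by
    refine sub_eq_zero.mp (hker _ (sub_mem (moved_x hs hc hx hinv he) he) ?_)
    rw [map_sub, hDe', sub_eq_zero]
    conv_rhs => rw [← hxb, ← hDe', hD]
    rw [hD, mulVec_add, conj_inv_apply hc hx hinv, add_comm]
    congr 1
    have h1 := conj_inv_apply hc hx hinv ((s⁻¹).val *ᵥ e)
    rw [Transvec.mulVec_inv_cancel] at h1
    rw [h1, Transvec.mulVec_inv_cancel]
  exact trace_map_mem hc hx hinv e b (by rw [← hD, hDe']) hxe

/-- The moved space is spanned by its part in the image of `x` and its translate. -/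
theorem moved_eq_pair {b : ι → F} (hb : b ∈ mv s) :
    ∃ p ∈ mv x ⊓ mv s, ∃ q ∈ mv x ⊓ mv s, b = p + s.val *ᵥ q := by
  obtain ⟨D, hD⟩ : ∃ D : (ι → F) →ₗ[F] (ι → F), ∀ e, D e = s.val *ᵥ e + (s⁻¹).val *ᵥ e :=
    ⟨Matrix.mulVecLin s.val + Matrix.mulVecLin (s⁻¹).val, fun e => rfl⟩
  have hDmem : ∀ e ∈ mv s, D e ∈ mv s := by
    intro e he
    obtain ⟨w, rfl⟩ := mem_mv.mp he
    rw [hD, mulVec_sub, mulVec_sub]
    refine add_mem (sub_mem_mv _ _) (mem_mv.mpr ⟨(s⁻¹).val *ᵥ w, ?_⟩)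
    rw [Transvec.mulVec_inv_cancel, Transvec.inv_mulVec_cancel]
  have hinj : Function.Injective (D.restrict hDmem) := (injective_iff_map_eq_zero _).mpr fun e h0 => by
    refine Subtype.ext (eq_zero_of_sq_fix hs hc ?_ e.2)
    have h1 : D e.1 = 0 := congrArg Subtype.val h0
    rw [hD, add_eq_zero_iff_eq_neg, neg_self_eq hc] at h1
    rw [h1, Transvec.mulVec_inv_cancel]
  obtain ⟨⟨e, he⟩, hDe⟩ := (LinearMap.injective_iff_surjective.mp hinj) ⟨x.val *ᵥ b, moved_x hs hc hx hinv hb⟩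
  have hDe' : D e = x.val *ᵥ b := congrArg Subtype.val hDe
  -- `b = x (D e) = D (x e)`
  obtain ⟨f, hf⟩ : ∃ f, f = x.val *ᵥ e := ⟨_, rfl⟩
  have hfm : f ∈ mv s := hf ▸ moved_x hs hc hx hinv he
  have hxx : ∀ v, x.val *ᵥ (x.val *ᵥ v) = v := fun v => by
    rw [← Transvec.mul_mulVec, invol_of_sq hc hx, Units.val_one, one_mulVec]
  have hsm : ∀ v ∈ mv s, s.val *ᵥ v ∈ mv s := fun v hv => by
    obtain ⟨w, rfl⟩ := mem_mv.mp hv
    rw [mulVec_sub]; exact sub_mem_mv _ _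
  refine ⟨x.val *ᵥ (s.val *ᵥ e) - s.val *ᵥ e, ⟨sub_mem_mv _ _, sub_mem (moved_x hs hc hx hinv (hsm e he)) (hsm e he)⟩,
    x.val *ᵥ e - e, ⟨sub_mem_mv _ _, sub_mem (moved_x hs hc hx hinv he) he⟩, ?_⟩
  calc b = x.val *ᵥ (D e) := by rw [hDe', hxx]
    _ = x.val *ᵥ (s.val *ᵥ e) + x.val *ᵥ ((s⁻¹).val *ᵥ e) := by rw [hD, mulVec_add]
    _ = x.val *ᵥ (s.val *ᵥ e) + s.val *ᵥ (x.val *ᵥ e) := by
      have h1 := conj_inv_apply hc hx hinv ((s⁻¹).val *ᵥ e)
      rw [Transvec.mulVec_inv_cancel] at h1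
      congr 1
      rw [h1, Transvec.mulVec_inv_cancel]
    _ = _ := by
      rw [mulVec_sub, sub_eq_add_neg, sub_eq_add_neg, neg_self_eq hc]
      have := add_self_zero hc (s.val *ᵥ e)
      linear_combination (norm := abel) -this

/-- The two parts meet trivially. -/
theorem pair_inf {p q : ι → F} (hp : p ∈ mv x ⊓ mv s) (hq : q ∈ mv x ⊓ mv s) (h : p = s.val *ᵥ q) : p = 0 := by
  have e1 := conj_inv_apply hc hx hinv q
  rw [fix_mv_of_sq hx hq.1, ← h, fix_mv_of_sq hx hp.1] at e1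
  have : q = 0 := eq_zero_of_sq_fix hs hc (by rw [← h, e1, Transvec.mulVec_inv_cancel]) hq.2
  rw [h, this, mulVec_zero]

end Inv

end CfsgLib.Classical22.TWMax
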