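/-
A conjugate of a slot root inside the tensor wreath group forces the conjugating element into it.
-/
import Cfsg.Agent.Lib.Classical22.TensorWreathMax.Pure

set_option autoImplicit false
set_option linter.unusedSectionVars false
set_option linter.unusedSimpArgs false

namespace CfsgLib.Classical22.TWMax

open Matrix Kronecker CfsgLib.Transvec CfsgLib.Classical22.TensorMax
open CfsgLib.Classical22.TensorMax.SpO (kr kr_apply isKron_kr)
open scoped MatrixGroups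

variable {F : Type*} [Field F] [Fintype F] {T m : ℕ}

/-- The running hypotheses. -/
structure Hyp (M : Subgroup (GL (Idx (T + 2) m) F)) : Prop where
  ctx : WCtx M
  notSL : ¬ Cfsg.Geo.specialLinear (Idx (T + 2) m) F ≤ M
  ih : Dichotomy F T m

/-- The image of the pure subspace at `(s, u)` is pure. -/
def PImg (g : GL (Idx (T + 2) m) F) (s : Fin (T + 2)) (u : Fin m → F) : Prop :=
  ∃ s' u', u' ≠ 0 ∧ gim g (slotW s u) = slotW s' u'

lemma exists_other {T : ℕ} (s : Fin (T + 2)) : ∃ r : Fin (T + 2), r ≠ s := exists_ne s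

lemma IsTW.inv {g : GL (Idx (T + 2) m) F} (h : IsTW g) : IsTW g⁻¹ := by
  obtain ⟨σ, gs, hg⟩ := h
  exact ⟨_, _, hg.inv⟩

lemma IsTW.mul {g h : GL (Idx (T + 2) m) F} (hg : IsTW g) (hh : IsTW h) : IsTW (g * h) := by
  obtain ⟨σ, gs, hg⟩ := hg
  obtain ⟨τ, hs, hh⟩ := hh
  exact ⟨_, _, hg.mul hh⟩

lemma conj_sq {ι : Type} [Fintype ι] [DecidableEq ι] (g y : GL ι F) (h : (y.val - 1) * (y.val - 1) = 0) :
    ((g * y * g⁻¹).val - 1) * ((g * y * g⁻¹).val - 1) = 0 := by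
  have e : (g * y * g⁻¹).val - 1 = g.val * (y.val - 1) * g⁻¹.val := by
    rw [mul_sub, sub_mul, mul_one, Units.mul_inv, Units.val_mul, Units.val_mul]
  rw [e]
  calc g.val * (y.val - 1) * g⁻¹.val * (g.val * (y.val - 1) * g⁻¹.val)
      = g.val * ((y.val - 1) * ((g⁻¹.val * g.val) * (y.val - 1))) * g⁻¹.val := by simp only [mul_assoc]
    _ = 0 := by rw [Units.inv_mul, one_mul, h, mul_zero, zero_mul]

variable {M : Subgroup (GL (Idx (T + 2) m) F)} (H : Hyp M)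
include H

lemma Hyp.rs_mem (s : Fin (T + 2)) {u φ : Fin m → F} (h : φ ⬝ᵥ u = 0) : rs s u φ ∈ M := H.ctx.root s u φ h

lemma Hyp.tw_of_fix {g : GL (Idx (T + 2) m) F} (hg : g ∈ M) {s : Fin (T + 2)} {u : Fin m → F} (hu : u ≠ 0)
    (hfix : gim g (slotW s u) = slotW s u) : IsTW g :=
  isTW_of_fix H.ih H.ctx H.notSL hg hu fun v hv => hfix ▸ mem_gim.mpr ⟨v, hv, rfl⟩

/-- Dimension of the annihilator of a vector. -/
lemma Hyp.exists_two (u : Fin m → F) : ∃ φ ψ : Fin m → F, φ ⬝ᵥ u = 0 ∧ ψ ⬝ᵥ u = 0 ∧ φ ≠ 0 ∧ ψ ≠ 0 ∧ φ + ψ ≠ 0 := by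
  have hm := H.ctx.three
  obtain ⟨L, hL⟩ : ∃ L : (Fin m → F) →ₗ[F] F, ∀ φ, L φ = φ ⬝ᵥ u :=
    ⟨{ toFun := fun φ => φ ⬝ᵥ u, map_add' := fun φ ψ => add_dotProduct φ ψ u,
       map_smul' := fun c φ => smul_dotProduct c φ u }, fun φ => rfl⟩
  have e1 := LinearMap.finrank_range_add_finrank_ker L
  have e2 := Submodule.finrank_le (LinearMap.range L)
  rw [Module.finrank_self] at e2
  rw [Module.finrank_fin_fun] at e1
  obtain ⟨φ, hφ, hφ0⟩ := Submodule.exists_mem_ne_zero_of_ne_bot (p := LinearMap.ker L) fun h => by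
    rw [h, finrank_bot] at e1; omega
  obtain ⟨ψ, hψ, hψs⟩ : ∃ ψ ∈ LinearMap.ker L, ψ ∉ Submodule.span F ({φ} : Set (Fin m → F)) := by
    by_contra h
    push Not at h
    have := (Submodule.finrank_mono (fun x hx => h x hx : LinearMap.ker L ≤ _)).trans (finrank_span_singleton hφ0).le
    omega
  refine ⟨φ, ψ, hL φ ▸ hφ, hL ψ ▸ hψ, hφ0, fun h => hψs (h ▸ Submodule.zero_mem _), fun h => hψs ?_⟩
  rw [eq_neg_of_add_eq_zero_right h]
  exact Submodule.neg_mem _ (Submodule.mem_span_singleton_self φ)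

/-- Three roots at one centre, conjugated into the group, give a pure image. -/
lemma Hyp.pimg_of_three {g : GL (Idx (T + 2) m) F} {s : Fin (T + 2)} {u φ ψ : Fin m → F} (hu : u ≠ 0)
    (hφ : φ ⬝ᵥ u = 0) (hψ : ψ ⬝ᵥ u = 0) (hφ0 : φ ≠ 0) (hψ0 : ψ ≠ 0) (hs0 : φ + ψ ≠ 0)
    (h1 : IsTW (g * rs s u φ * g⁻¹)) (h2 : IsTW (g * rs s u ψ * g⁻¹)) : PImg g s u := by
  classical
  have hm := H.ctx.three
  have hφψ : (φ + ψ) ⬝ᵥ u = 0 := by rw [add_dotProduct, hφ, hψ, add_zero]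
  have key : ∀ χ : Fin m → F, ∀ hχ : χ ⬝ᵥ u = 0, χ ≠ 0 → IsTW (g * rs s u χ * g⁻¹) → PImg g s u ∨
      ∃ i j, i ≠ j ∧ ∃ gs, TWData (g * rs s u χ * g⁻¹) (Equiv.swap i j) gs := by
    intro χ hχ hχ0 htw
    obtain ⟨σ, gs, hd⟩ := htw
    have hmv : mv (g * rs s u χ * g⁻¹) = gim g (slotW s u) := by rw [mv_conj, mv_rs hχ hχ0]
    have hrk : Module.finrank F (mv (g * rs s u χ * g⁻¹)) = m ^ (T + 1) := by
      rw [hmv, finrank_gim, finrank_slotW _ hu]
    by_cases hσ : σ = 1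
    · left
      subst hσ
      obtain ⟨s', u', hu', he⟩ := pure_of_base hm hd (fun h => by
        rw [h, show mv (1 : GL (Idx (T + 2) m) F) = ⊥ from (Submodule.eq_bot_iff _).mpr fun v hv => by
          obtain ⟨w, rfl⟩ := mem_mv.mp hv; rw [Units.val_one, one_mulVec, sub_self], finrank_bot] at hrk
        have := Nat.pow_pos (n := T + 1) (show 0 < m by omega)
        omega) hrk.le
      exact ⟨s', u', hu', hmv ▸ he⟩
    · right
      obtain ⟨-, -, i, j, hij, rfl⟩ := perm_small hm hd (conj_sq g _ (rs_sq hχ)) hσ hrk.le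
      exact ⟨i, j, hij, gs, hd⟩
  rcases key φ hφ hφ0 h1 with h | ⟨i, j, hij, a, ha⟩
  · exact h
  rcases key ψ hψ hψ0 h2 with h | ⟨k, l, hkl, b, hb⟩
  · exact h
  have hprod : g * rs s u (φ + ψ) * g⁻¹ = (g * rs s u φ * g⁻¹) * (g * rs s u ψ * g⁻¹) := by
    rw [← rs_mul s hφ hψ]; simp only [mul_assoc, inv_mul_cancel_left]
  rcases key (φ + ψ) hφψ hs0 (hprod ▸ h1.mul h2) with h | ⟨p, q, hpq, c, hc⟩
  · exact h
  exfalso
  have e := congrArg Equiv.Perm.sign ((hprod ▸ hc).perm_eq (by omega) (ha.mul hb))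
  rw [map_mul, Equiv.Perm.sign_swap hij, Equiv.Perm.sign_swap hkl, Equiv.Perm.sign_swap hpq] at e
  exact absurd e (by decide)

/-- One pure image gives all. -/
theorem Hyp.tw_of_pimg {g : GL (Idx (T + 2) m) F} (hg : g ∈ M) {s₀ : Fin (T + 2)} {u₀ : Fin m → F} (hu₀ : u₀ ≠ 0)
    (h₀ : PImg g s₀ u₀) : IsTW g := by
  classical
  have hm := H.ctx.three
  have step : ∀ s u, u ≠ 0 → PImg g s u → ∀ r, r ≠ s → ∀ v, v ≠ 0 → PImg g r v := by
    intro s u hu hP r hrs v hv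
    obtain ⟨s', u', hu', he⟩ := hP
    obtain ⟨φ, ψ, hφ, hψ, hφ0, hψ0, hsum⟩ := H.exists_two v
    have hconj : ∀ χ : Fin m → F, χ ⬝ᵥ v = 0 → IsTW (g * rs r v χ * g⁻¹) := by
      intro χ hχ
      refine H.tw_of_fix (s := s') (mul_mem (mul_mem hg (H.rs_mem r hχ)) (inv_mem hg)) hu' ?_
      have hfix : gim (rs r v χ) (slotW s u) = slotW s u := by
        have := (slotEl_data r (transv v χ)).gim_slotW s hu
        rw [Function.update_of_ne hrs.symm, Units.val_one, one_mulVec] at this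
        exact this
      rw [gim_mul, gim_mul, ← he, gim_inv_gim, hfix]
    exact H.pimg_of_three hv hφ hψ hφ0 hψ0 hsum (hconj φ hφ) (hconj ψ hψ)
  have hall : ∀ s u, u ≠ 0 → PImg g s u := by
    intro s u hu
    by_cases hs : s = s₀
    · obtain ⟨r, hr⟩ := exists_other s₀
      obtain ⟨w, hw⟩ : ∃ w : Fin m → F, w ≠ 0 := ⟨Pi.single ⟨0, by omega⟩ 1, by simp⟩
      exact step r w hw (step s₀ u₀ hu₀ h₀ r hr w hw) s (hs ▸ hr.symm) u hu
    · exact step s₀ u₀ hu₀ h₀ s hs u hu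
  choose S U hU0 hSU using hall
  obtain ⟨w, hw⟩ : ∃ w : Fin m → F, w ≠ 0 := ⟨Pi.single ⟨0, by omega⟩ 1, by simp⟩
  have hinj : ∀ X Y : Submodule F (Idx (T + 2) m → F), gim g X = gim g Y → X = Y := fun X Y h => by
    rw [← gim_inv_gim g X, h, gim_inv_gim]
  -- slots whose images share a slot
  have hsame : ∀ s u (hu : u ≠ 0) r v (hv : v ≠ 0), S s u hu = S r v hv →
      slotW s u ⊓ slotW r v ≠ ⊥ → slotW s u = slotW r v := by
    intro s u hu r v hv hS hne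
    refine hinj _ _ ?_
    rw [hSU s u hu, hSU r v hv, ← hS]
    refine slotW_eq_of_inf (hU0 s u hu) (hU0 r v hv) fun h => hne ?_
    have h' : gim g (slotW s u ⊓ slotW r v) = ⊥ := by rw [gim_inf, hSU s u hu, hSU r v hv, ← hS, h]
    exact hinj _ _ (h'.trans (Submodule.map_bot _).symm)
  have hindep : ∀ s u (hu : u ≠ 0), S s u hu = S s w hw := by
    intro s u hu
    by_contra hne
    have h := slotW_inf_ne_bot hne (hU0 s u hu) (hU0 s w hw)
    rw [← hSU s u hu, ← hSU s w hw, ← gim_inf] at h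
    have h' : slotW s u ⊓ slotW s w ≠ ⊥ := fun e => h (by rw [e]; exact Submodule.map_bot _)
    have he := congrArg (gim g) (slotW_eq_of_inf hu hw h')
    rw [hSU s u hu, hSU s w hw] at he
    exact hne (slot_eq_of_slotW_eq (by omega) (hU0 s u hu) (hU0 s w hw) he)
  obtain ⟨π, hπ⟩ : ∃ π : Fin (T + 2) → Fin (T + 2), ∀ s u (hu : u ≠ 0), S s u hu = π s :=
    ⟨fun s => S s w hw, hindep⟩
  have hπinj : Function.Injective π := fun s r h => by
    by_contra hsr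
    exact hsr (slot_eq_of_slotW_eq (by omega) hw hw (hsame s w hw r w hw
      (by rw [hπ, hπ, h]) (slotW_inf_ne_bot hsr hw hw)))
  obtain ⟨P, hP⟩ : ∃ P : Equiv.Perm (Fin (T + 2)), ∀ s, P s = π s :=
    ⟨Equiv.ofBijective π (Finite.injective_iff_bijective.mp hπinj), fun s => rfl⟩
  obtain ⟨q, hqd⟩ : ∃ q : GL (Idx (T + 2) m) F, TWData q P fun _ => 1 :=
    ⟨permGL P.symm, fun xs => by rw [permGL_apply]; simp⟩
  have hres : IsTW (q * g) := by
    refine isTW_of_pures (by omega) (T + 1) _ fun s u hu => ⟨U s u hu, hU0 s u hu, ?_⟩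
    rw [gim_mul, hSU s u hu, hπ, ← hP s]
    have := hqd.gim_slotW s (hU0 s u hu)
    rwa [Units.val_one, one_mulVec] at this
  have := (IsTW.inv ⟨_, _, hqd⟩).mul hres
  rwa [inv_mul_cancel_left] at this

/-- An element of `M` conjugating a root into the group. -/
theorem Hyp.swap_slot (hc : (2 : F) = 0) (h3 : m = 3) {g : GL (Idx (T + 2) m) F} (hg : g ∈ M)
    {s : Fin (T + 2)} {u φ : Fin m → F} (hu : u ≠ 0) (hφ : φ ⬝ᵥ u = 0) (hφ0 : φ ≠ 0)
    {σ : Equiv.Perm (Fin (T + 2))} {gs : Fin (T + 2) → GL (Fin m) F}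
    (hd : TWData (g * rs s u φ * g⁻¹) σ gs) {o : Fin (T + 2)} (ho : σ o = o) : IsTW g := by
  classical
  subst h3
  obtain ⟨z, hz⟩ : ∃ z, z = g * rs s u φ * g⁻¹ := ⟨_, rfl⟩
  rw [← hz] at hd
  -- the component at the fixed slot squares to a scalar
  have hgg : TWData (1 : GL (Idx (T + 2) 3) F) (σ * σ) fun k => gs k * gs (σ k) := by
    have : z * z = 1 := gl_ext fun v => by
      have h := congrArg (· *ᵥ v) (conj_sq g _ (rs_sq (s := s) hφ))
      rw [← hz] at h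
      simp only [← mulVec_mulVec, sub_mulVec, one_mulVec, zero_mulVec, mulVec_sub] at h
      rw [Transvec.mul_mulVec, Units.val_one, one_mulVec]
      have e : z.val *ᵥ (z.val *ᵥ v) = (2 : F) • (z.val *ᵥ v) - v := by
        rw [two_smul]; linear_combination (norm := abel) h
      rw [e, hc, zero_smul, zero_sub, ← neg_one_smul F v, show (-1 : F) = 1 by linear_combination -hc, one_smul]
    exact this ▸ hd.mul hd
  obtain ⟨κ, hκ⟩ := (twData_one_unique (by omega) hgg).2 o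
  rw [ho] at hκ
  obtain ⟨p, hp⟩ := CharP.exists F
  haveI : Fact p.Prime := ⟨CharP.char_is_prime F p⟩
  haveI : CharP F 2 := CharTwo.of_one_ne_zero_of_two_eq_zero one_ne_zero hc
  obtain ⟨l, hl⟩ : ∃ l : F, l * l = κ := by
    obtain ⟨l, hl⟩ := (bijective_frobenius F 2).surjective κ
    exact ⟨l, by rw [← hl, frobenius_def, pow_two]⟩
  have hneg : ∀ w : Fin 3 → F, w + w = 0 := fun w => by
    rw [← two_smul F w, hc, zero_smul]
  obtain ⟨N, hN⟩ : ∃ N : (Fin 3 → F) →ₗ[F] (Fin 3 → F), ∀ x, N x = (gs o).val *ᵥ x + l • x :=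
    ⟨Matrix.mulVecLin (gs o).val + l • LinearMap.id, fun x => rfl⟩
  have hN2 : ∀ x, N (N x) = 0 := fun x => by
    have e := hκ x
    rw [Units.val_mul, ← mulVec_mulVec, ← hl] at e
    rw [hN, hN, mulVec_add, mulVec_smul, e, smul_add, smul_smul,
      show ∀ A B : Fin 3 → F, A + B + (B + A) = (A + A) + (B + B) from fun A B => by abel, hneg, hneg, add_zero]
  -- a centre and two axes commuting with the component
  obtain ⟨u', hu', hNu, φ', ψ', hφ', hψ', hφ'0, hψ'0, hsum, hφN, hψN⟩ :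
      ∃ u' : Fin 3 → F, u' ≠ 0 ∧ N u' = 0 ∧ ∃ φ' ψ' : Fin 3 → F, φ' ⬝ᵥ u' = 0 ∧ ψ' ⬝ᵥ u' = 0 ∧ φ' ≠ 0 ∧ ψ' ≠ 0 ∧
        φ' + ψ' ≠ 0 ∧ (∀ x, φ' ⬝ᵥ N x = 0) ∧ ∀ x, ψ' ⬝ᵥ N x = 0 := by
    by_cases hN0 : ∀ x, N x = 0
    · obtain ⟨w, hw⟩ : ∃ w : Fin 3 → F, w ≠ 0 := ⟨Pi.single 0 1, by simp⟩
      obtain ⟨a, b, ha, hb, ha0, hb0, hab⟩ := H.exists_two w
      exact ⟨w, hw, hN0 w, a, b, ha, hb, ha0, hb0, hab, fun x => by rw [hN0, dotProduct_zero],
        fun x => by rw [hN0, dotProduct_zero]⟩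
    push Not at hN0
    obtain ⟨x₀, hx₀⟩ := hN0
    obtain ⟨a, b, ha, hb, ha0, hb0, hab⟩ := H.exists_two (N x₀)
    have hrange : ∀ x, N x ∈ Submodule.span F ({N x₀} : Set (Fin 3 → F)) := by
      have h1 : LinearMap.range N ≤ LinearMap.ker N := by
        rintro _ ⟨x, rfl⟩; exact LinearMap.mem_ker.mpr (hN2 x)
      have h2 := Submodule.finrank_mono h1
      have h3 := LinearMap.finrank_range_add_finrank_ker N
      rw [Module.finrank_fin_fun] at h3
      have h4 : Module.finrank F (LinearMap.range N) ≤ 1 := by omega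
      have h5 : Submodule.span F ({N x₀} : Set (Fin 3 → F)) = LinearMap.range N := by
        refine Submodule.eq_of_le_of_finrank_le ((Submodule.span_singleton_le_iff_mem _ _).mpr ⟨x₀, rfl⟩) ?_
        rw [finrank_span_singleton hx₀]; exact h4
      exact fun x => h5 ▸ ⟨x, rfl⟩
    refine ⟨N x₀, hx₀, hN2 x₀, a, b, ha, hb, ha0, hb0, hab, fun x => ?_, fun x => ?_⟩ <;>
      obtain ⟨c, hcx⟩ := Submodule.mem_span_singleton.mp (hrange x) <;>
      rw [← hcx, dotProduct_smul]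
    · rw [ha, smul_zero]
    · rw [hb, smul_zero]
  have hcomm : ∀ χ : Fin 3 → F, χ ⬝ᵥ u' = 0 → (∀ x, χ ⬝ᵥ N x = 0) → z * rs o u' χ * z⁻¹ = rs o u' χ := by
    intro χ hχ hχN
    have h := hd.conj_slotEl o (transv u' χ)
    rw [ho] at h
    rw [rs, h]
    congr 1
    rw [mul_inv_eq_iff_eq_mul]
    refine gl_ext fun x => ?_
    rw [Transvec.mul_mulVec, Transvec.mul_mulVec, transv_mulVec hχ, transv_mulVec hχ, mulVec_add, mulVec_smul]
    congr 1
    have e1 : (gs o).val *ᵥ u' = l • u' := by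
      have := hN u'
      rw [hNu] at this
      calc (gs o).val *ᵥ u' = ((gs o).val *ᵥ u' + l • u') + (-(l • u')) := by rw [add_neg_cancel_right]
        _ = l • u' := by rw [← this, zero_add]; exact (eq_neg_of_add_eq_zero_left (hneg _)).symm
    have e2 : χ ⬝ᵥ ((gs o).val *ᵥ x) = l * (χ ⬝ᵥ x) := by
      have := hχN x
      rw [hN, dotProduct_add, dotProduct_smul, smul_eq_mul] at this
      linear_combination this - (l * (χ ⬝ᵥ x)) * hc
    rw [e1, e2, smul_smul, mul_comm]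
  have hginv := inv_mem hg
  have key : ∀ χ : Fin 3 → F, ∀ hχ : χ ⬝ᵥ u' = 0, (∀ x, χ ⬝ᵥ N x = 0) → IsTW (g⁻¹ * rs o u' χ * g⁻¹⁻¹) := by
    intro χ hχ hχN
    refine H.tw_of_fix (s := s) (mul_mem (mul_mem hginv (H.rs_mem o hχ)) (inv_mem hginv)) hu ?_
    obtain ⟨r, hr⟩ : ∃ r, r = rs o u' χ := ⟨_, rfl⟩
    have e : (g⁻¹ * r * g⁻¹⁻¹) * rs s u φ * (g⁻¹ * r * g⁻¹⁻¹)⁻¹ = rs s u φ := by
      have h1 : z * r = r * z := by
        have := hcomm χ hχ hχN
        rw [← hr] at this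
        exact mul_inv_eq_iff_eq_mul.mp this
      calc (g⁻¹ * r * g⁻¹⁻¹) * rs s u φ * (g⁻¹ * r * g⁻¹⁻¹)⁻¹
          = g⁻¹ * (r * z * r⁻¹) * g := by rw [hz]; group
        _ = g⁻¹ * z * g := by rw [← h1, mul_inv_cancel_right]
        _ = rs s u φ := by rw [hz]; group
    have := mv_conj (g⁻¹ * r * g⁻¹⁻¹) (rs s u φ)
    rw [e, mv_rs hφ hφ0] at this
    rw [← hr]
    exact this.symm
  have := H.tw_of_pimg hginv hu' (H.pimg_of_three hu' hφ' hψ' hφ'0 hψ'0 hsum (key _ hφ' hφN) (key _ hψ' hψN))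
  have h' := this.inv
  rwa [inv_inv] at h'

end CfsgLib.Classical22.TWMax
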