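/-
Conjugates of slot roots and p-groups containing one.
-/
import Cfsg.Agent.Lib.Classical22.TensorWreathMax.Conj
import Cfsg.Agent.Lib.Classical22.UnitTensor.PGroup

set_option autoImplicit false
set_option linter.unusedSectionVars false
set_option linter.unusedSimpArgs false

namespace CfsgLib.Classical22.TWMax

open Matrix Kronecker CfsgLib.Transvec CfsgLib.Classical22.TensorMax
open CfsgLib.Classical22.TensorMax.SpO (kr kr_apply isKron_kr)
open scoped MatrixGroups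

variable {F : Type*} [Field F] [Fintype F] {T m : ℕ}

open scoped commutatorElement in
lemma map_comm_of_eq {G G' : Type*} [Group G] [Group G'] (f : G →* G') (a b c : G) (h : a * b * a⁻¹ * b⁻¹ = c) :
    f c = f a * f b * (f a)⁻¹ * (f b)⁻¹ := by rw [← h]; simp

/-- The transvection with a single off-diagonal one. -/
noncomputable def unitT (k l : Fin m) : GL (Fin m) F := transv (Pi.single k 1) (Pi.single l 1)

lemma unitT_val {k l : Fin m} (h : k ≠ l) : (unitT (F := F) k l).val = 1 + single k l 1 := transv_single_val h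

lemma unitT_comm {k o l : Fin m} (h1 : k ≠ o) (h2 : o ≠ l) (h3 : k ≠ l) :
    unitT (F := F) k o * unitT o l * (unitT k o)⁻¹ * (unitT o l)⁻¹ = unitT k l := by
  rw [mul_inv_eq_iff_eq_mul, mul_inv_eq_iff_eq_mul]
  refine Units.ext ?_
  simp only [Units.val_mul, unitT_val h1, unitT_val h2, unitT_val h3]
  simp [mul_add, add_mul, single_mul_single_of_ne, Ne.symm h1, h2, Ne.symm h2, Ne.symm h3]
  abel

/-- Commutators in the centraliser of a transvection, three times, are trivial. -/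
theorem triple_comm (u φ : Fin 3 → F) (hu : u ≠ 0) (hφ : φ ⬝ᵥ u = 0) (hφ0 : φ ≠ 0) :
    ∃ P₁ P₂ : GL (Fin 3) F → Prop,
      (∀ B B' : GL (Fin 3) F, B * transv u φ * B⁻¹ = transv u φ → B' * transv u φ * B'⁻¹ = transv u φ →
        P₁ (B * B' * B⁻¹ * B'⁻¹)) ∧
      (∀ B B' : GL (Fin 3) F, P₁ B → P₁ B' → P₂ (B * B' * B⁻¹ * B'⁻¹)) ∧
      (∀ B B' : GL (Fin 3) F, P₂ B → P₂ B' → B * B' * B⁻¹ * B'⁻¹ = 1) := by
  classical
  obtain ⟨L, hL⟩ : ∃ L : (Fin 3 → F) →ₗ[F] F, ∀ x, L x = φ ⬝ᵥ x :=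
    ⟨{ toFun := fun x => φ ⬝ᵥ x, map_add' := dotProduct_add φ, map_smul' := fun c x => dotProduct_smul c φ x },
      fun x => rfl⟩
  obtain ⟨j, hj⟩ := Function.ne_iff.mp hφ0
  obtain ⟨d, hd⟩ : ∃ d : Fin 3 → F, φ ⬝ᵥ d = 1 := ⟨Pi.single j (φ j)⁻¹, by
    rw [dotProduct_single, mul_inv_cancel₀ hj]⟩
  -- the kernel is a plane
  have hker : Module.finrank F (LinearMap.ker L) = 2 := by
    have e1 := LinearMap.finrank_range_add_finrank_ker L
    have e2 : LinearMap.range L = ⊤ := LinearMap.range_eq_top.mpr fun c => ⟨c • d, by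
      rw [hL, dotProduct_smul, hd, smul_eq_mul, mul_one]⟩
    rw [e2, finrank_top, Module.finrank_self, Module.finrank_fin_fun] at e1
    omega
  obtain ⟨w, hw, hwu⟩ : ∃ w, φ ⬝ᵥ w = 0 ∧ w ∉ Submodule.span F ({u} : Set (Fin 3 → F)) := by
    by_contra h
    push Not at h
    have := (Submodule.finrank_mono (fun x hx => h x (hL x ▸ LinearMap.mem_ker.mp hx) : LinearMap.ker L ≤ _)).trans
      (finrank_span_singleton hu).le
    omega
  have hdec : ∀ x, φ ⬝ᵥ x = 0 → ∃ a b : F, x = a • u + b • w := by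
    intro x hx
    have hle : Submodule.span F ({u, w} : Set (Fin 3 → F)) ≤ LinearMap.ker L := by
      rw [Submodule.span_le]
      rintro _ (rfl | rfl) <;> simp [hL, hφ, hw]
    have hlt : 1 < Module.finrank F (Submodule.span F ({u, w} : Set (Fin 3 → F))) := by
      have h1 : Submodule.span F ({u} : Set (Fin 3 → F)) < Submodule.span F ({u, w} : Set (Fin 3 → F)) :=
        lt_of_le_of_ne (Submodule.span_mono (by simp)) fun e => hwu (e ▸ Submodule.subset_span (by simp))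
      have := Submodule.finrank_lt_finrank_of_lt h1
      rwa [finrank_span_singleton hu] at this
    have he := Submodule.eq_of_le_of_finrank_le hle (by omega)
    have hx' : x ∈ Submodule.span F ({u, w} : Set (Fin 3 → F)) := he ▸ LinearMap.mem_ker.mpr (hL x ▸ hx)
    obtain ⟨a, b, hab⟩ := Submodule.mem_span_pair.mp hx'
    exact ⟨a, b, hab.symm⟩
  refine ⟨fun B : GL (Fin 3) F => B.val *ᵥ u = u ∧ (∃ a : F, B.val *ᵥ w = w + a • u) ∧ ∃ a b : F, B.val *ᵥ d = d + a • u + b • w,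
    fun B : GL (Fin 3) F => B.val *ᵥ u = u ∧ B.val *ᵥ w = w ∧ ∃ a : F, B.val *ᵥ d = d + a • u, ?_, ?_, ?_⟩
  · -- the centraliser
    have hC : ∀ B : GL (Fin 3) F, B * transv u φ * B⁻¹ = transv u φ →
        ∃ l r : F, l ≠ 0 ∧ r ≠ 0 ∧ B.val *ᵥ u = l • u ∧ (∃ a : F, B.val *ᵥ w = r • w + a • u) ∧
          ∃ a b : F, B.val *ᵥ d = l • d + a • u + b • w := by
      intro B hB
      rw [mul_inv_eq_iff_eq_mul] at hB
      have key : ∀ x, (φ ⬝ᵥ x) • (B.val *ᵥ u) = (φ ⬝ᵥ (B.val *ᵥ x)) • u := fun x => by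
        have := congrArg (fun g : GL (Fin 3) F => g.val *ᵥ x) hB
        simp only [Transvec.mul_mulVec, transv_mulVec hφ, mulVec_add, mulVec_smul] at this
        exact add_left_cancel this
      obtain ⟨l, hl⟩ : ∃ l, l = φ ⬝ᵥ (B.val *ᵥ d) := ⟨_, rfl⟩
      have hBu : B.val *ᵥ u = l • u := by rw [hl, ← key d, hd, one_smul]
      have hl0 : l ≠ 0 := fun h0 => Transvec.mulVec_ne_zero B hu (by rw [hBu, h0, zero_smul])
      have hBw : φ ⬝ᵥ (B.val *ᵥ w) = 0 := by
        have := key w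
        rw [hw, zero_smul, eq_comm, smul_eq_zero] at this
        exact this.resolve_right hu
      obtain ⟨a, r, hw'⟩ := hdec _ hBw
      obtain ⟨a', b', hd'⟩ := hdec (B.val *ᵥ d - l • d) (by
        rw [dotProduct_sub, dotProduct_smul, hd, ← hl, smul_eq_mul, mul_one, sub_self])
      refine ⟨l, r, hl0, fun h0 => ?_, hBu, ⟨a, by rw [hw', add_comm]⟩, a', b', by
        rw [add_assoc, ← hd']; abel⟩
      rw [h0, zero_smul, add_zero] at hw'
      have : B.val *ᵥ (w - (a / l) • u) = 0 := by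
        rw [mulVec_sub, mulVec_smul, hw', hBu, smul_smul, div_mul_cancel₀ _ hl0, sub_self]
      refine hwu (Submodule.mem_span_singleton.mpr ⟨a / l, ?_⟩)
      exact (sub_eq_zero.mp (Transvec.mulVec_injective B (by simpa using this))).symm
    intro B B' hB hB'
    obtain ⟨l, r, hl, hr, h1, ⟨a, h2⟩, p, q, h3⟩ := hC B hB
    obtain ⟨l', r', hl', hr', h1', ⟨a', h2'⟩, p', q', h3'⟩ := hC B' hB'
    have i1 : B⁻¹.val *ᵥ u = l⁻¹ • u := Transvec.mulVec_injective B (by
      simp only [Transvec.mulVec_inv_cancel, mulVec_smul, h1, smul_smul, inv_mul_cancel₀ hl, one_smul])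
    have i1' : B'⁻¹.val *ᵥ u = l'⁻¹ • u := Transvec.mulVec_injective B' (by
      simp only [Transvec.mulVec_inv_cancel, mulVec_smul, h1', smul_smul, inv_mul_cancel₀ hl', one_smul])
    have i2 : B⁻¹.val *ᵥ w = r⁻¹ • w + (-(r⁻¹ * a * l⁻¹)) • u := Transvec.mulVec_injective B (by
      simp only [Transvec.mulVec_inv_cancel, mulVec_add, mulVec_smul, h1, h2]
      match_scalars <;> field_simp; ring)
    have i2' : B'⁻¹.val *ᵥ w = r'⁻¹ • w + (-(r'⁻¹ * a' * l'⁻¹)) • u := Transvec.mulVec_injective B' (by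
      simp only [Transvec.mulVec_inv_cancel, mulVec_add, mulVec_smul, h1', h2']
      match_scalars <;> field_simp; ring)
    have i3 : B⁻¹.val *ᵥ d = l⁻¹ • d + (-(l⁻¹ * p * l⁻¹) + l⁻¹ * q * r⁻¹ * a * l⁻¹) • u + (-(l⁻¹ * q * r⁻¹)) • w :=
      Transvec.mulVec_injective B (by
        simp only [Transvec.mulVec_inv_cancel, mulVec_add, mulVec_smul, h1, h2, h3]
        match_scalars <;> field_simp <;> ring)
    have i3' : B'⁻¹.val *ᵥ d =
        l'⁻¹ • d + (-(l'⁻¹ * p' * l'⁻¹) + l'⁻¹ * q' * r'⁻¹ * a' * l'⁻¹) • u + (-(l'⁻¹ * q' * r'⁻¹)) • w :=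
      Transvec.mulVec_injective B' (by
        simp only [Transvec.mulVec_inv_cancel, mulVec_add, mulVec_smul, h1', h2', h3']
        match_scalars <;> field_simp <;> ring)
    refine ⟨?_, ?_, ?_⟩
    · simp only [Transvec.mul_mulVec, i1', i1, h1, h1', mulVec_smul, smul_smul]
      match_scalars
      field_simp
    · simp only [Transvec.mul_mulVec, i1', i1, i2', i2, h1, h1', h2, h2', mulVec_smul, mulVec_add, smul_smul, smul_add]
      refine ⟨r⁻¹ * r'⁻¹ * (a * r' - l * (a * r' * l⁻¹) + 0) * 0 + ((r'⁻¹ * r⁻¹ * r') * a + (r'⁻¹ * r⁻¹) * a' * l +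
        (-(r'⁻¹ * (r⁻¹ * a * l⁻¹))) * l' * l + (-(r'⁻¹ * a' * l'⁻¹)) * l⁻¹ * l' * l), ?_⟩
      match_scalars <;> field_simp
      ring
    · simp only [Transvec.mul_mulVec, i1', i1, i2', i2, i3', i3, h1, h1', h2, h2', h3, h3', mulVec_smul, mulVec_add,
        smul_smul, smul_add]
      refine (fun X hX => ?_ : ∀ X : Fin 3 → F, φ ⬝ᵥ X = 1 → ∃ α β : F, X = d + α • u + β • w) _ ?_
      · obtain ⟨α, β, h⟩ := hdec (X - d) (by rw [dotProduct_sub, hX, hd, sub_self])
        exact ⟨α, β, by rw [add_assoc, ← h]; abel⟩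
      · simp only [dotProduct_add, dotProduct_smul, hφ, hw, hd, smul_eq_mul, mul_zero, add_zero, zero_add, mul_one]
        field_simp
  · rintro B B' ⟨h1, ⟨a, h2⟩, p, q, h3⟩ ⟨h1', ⟨a', h2'⟩, p', q', h3'⟩
    have key : ∀ (C : GL (Fin 3) F) (a p q : F), C.val *ᵥ u = u → C.val *ᵥ w = w + a • u →
        C.val *ᵥ d = d + p • u + q • w → C⁻¹.val *ᵥ u = u ∧ C⁻¹.val *ᵥ w = w + (-a) • u ∧
          C⁻¹.val *ᵥ d = d + (q * a - p) • u + (-q) • w := by
      intro C a p q c1 c2 c3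
      refine ⟨Transvec.mulVec_injective C ?_, Transvec.mulVec_injective C ?_, Transvec.mulVec_injective C ?_⟩ <;>
        simp only [Transvec.mulVec_inv_cancel, mulVec_add, mulVec_smul, c1, c2, c3] <;> module
    obtain ⟨i1, i2, i3⟩ := key B a p q h1 h2 h3
    obtain ⟨i1', i2', i3'⟩ := key B' a' p' q' h1' h2' h3'
    refine ⟨?_, ?_, q' * a - q * a', ?_⟩ <;>
      simp only [Transvec.mul_mulVec, i1', i1, i2', i2, i3', i3, h1, h1', h2, h2', h3, h3', mulVec_smul, mulVec_add] <;>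
      module
  · rintro B B' ⟨h1, h2, p, h3⟩ ⟨h1', h2', p', h3'⟩
    have hcm : B * B' = B' * B := by
      refine gl_ext fun x => ?_
      obtain ⟨a, b, hab⟩ := hdec (x - (φ ⬝ᵥ x) • d) (by
        rw [dotProduct_sub, dotProduct_smul, hd, smul_eq_mul, mul_one, sub_self])
      rw [← sub_add_cancel x ((φ ⬝ᵥ x) • d), hab]
      simp only [Transvec.mul_mulVec, mulVec_add, mulVec_smul, h1, h1', h2, h2', h3, h3']
      module
    rw [hcm]; group

variable {M : Subgroup (GL (Idx (T + 2) m) F)} (H : Hyp M)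
include H

/-- Two slots: a root is not conjugate to the swap. -/
theorem Hyp.swap_two (hT : T = 0) (hc : (2 : F) = 0) (h3 : m = 3) {g : GL (Idx (T + 2) m) F} (hg : g ∈ M)
    {s : Fin (T + 2)} {u φ : Fin m → F} (hu : u ≠ 0) (hφ : φ ⬝ᵥ u = 0) (hφ0 : φ ≠ 0)
    {σ : Equiv.Perm (Fin (T + 2))} {gs : Fin (T + 2) → GL (Fin m) F}
    (hd : TWData (g * rs s u φ * g⁻¹) σ gs) (hσ : ∀ i, σ i ≠ i) : False := by
  classical
  subst hT h3
  obtain ⟨z, hz⟩ : ∃ z, z = g * rs s u φ * g⁻¹ := ⟨_, rfl⟩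
  rw [← hz] at hd
  have h01 : σ 0 = 1 := Fin.eq_one_of_ne_zero _ (hσ 0)
  have h10 : σ 1 = 0 := by by_contra h; exact hσ 1 (Fin.eq_one_of_ne_zero _ h)
  have hgg : TWData (1 : GL (Idx 2 3) F) (σ * σ) fun k => gs k * gs (σ k) := by
    have : z * z = 1 := gl_ext fun v => by
      have h := congrArg (· *ᵥ v) (conj_sq g _ (rs_sq (s := s) hφ))
      rw [← hz] at h
      simp only [← mulVec_mulVec, sub_mulVec, one_mulVec, zero_mulVec, mulVec_sub] at h
      rw [Transvec.mul_mulVec, Units.val_one, one_mulVec]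
      have e : z.val *ᵥ (z.val *ᵥ v) = (2 : F) • (z.val *ᵥ v) - v := by
        rw [two_smul]; linear_combination (norm := abel) h
      rw [e, hc, zero_smul, zero_sub, ← neg_one_smul F v, show (-1 : F) = 1 by linear_combination -hc, one_smul]
    exact this ▸ hd.mul hd
  obtain ⟨κ, hκ⟩ := (twData_one_unique (by omega) hgg).2 1
  rw [h10] at hκ
  -- the elements commuting with the swap
  obtain ⟨θ, hθ⟩ : ∃ θ : GL (Fin 3) F →* GL (Idx 2 3) F,
      ∀ B, θ B = slotEl 0 (gs 0 * B * (gs 0)⁻¹) * slotEl 1 B := by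
    refine ⟨MonoidHom.mk' (fun B => slotEl 0 (gs 0 * B * (gs 0)⁻¹) * slotEl 1 B) fun B B' => ?_, fun B => rfl⟩
    have hcm : ∀ X Y : GL (Fin 3) F, slotEl (1 : Fin 2) X * slotEl 0 Y = slotEl 0 Y * slotEl 1 X := fun X Y =>
      Units.ext (by simp only [Units.val_mul, slotEl_val]; exact emb_comm (by decide) _ _)
    calc _ = slotEl (0 : Fin 2) (gs 0 * B * (gs 0)⁻¹) * slotEl 0 (gs 0 * B' * (gs 0)⁻¹) *
          (slotEl 1 B * slotEl 1 B') := by
            rw [slotEl_mul, slotEl_mul]; congr 2; group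
      _ = _ := by simp only [mul_assoc]; rw [← mul_assoc (slotEl 1 B), hcm, mul_assoc]
  have hθz : ∀ B, z * θ B * z⁻¹ = θ B := by
    intro B
    have e1 := hd.conj_slotEl 0 B
    have e2 := hd.conj_slotEl 1 (gs 0 * B * (gs 0)⁻¹)
    rw [h01] at e1
    rw [h10] at e2
    have e3 : gs 1 * (gs 0 * B * (gs 0)⁻¹) * (gs 1)⁻¹ = B := by
      have hκ' : ∀ x, (gs 1).val *ᵥ ((gs 0).val *ᵥ x) = κ • x := fun x => by
        rw [← Transvec.mul_mulVec]; exact hκ x
      have hc' : gs 1 * gs 0 * B = B * (gs 1 * gs 0) := gl_ext fun x => by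
        simp only [Transvec.mul_mulVec, hκ', mulVec_smul]
      calc _ = gs 1 * gs 0 * B * (gs 1 * gs 0)⁻¹ := by group
        _ = B := by rw [hc', mul_inv_cancel_right]
    rw [e3] at e2
    rw [hθ]
    calc z * (slotEl 0 (gs 0 * B * (gs 0)⁻¹) * slotEl 1 B) * z⁻¹
        = (z * slotEl 0 (gs 0 * B * (gs 0)⁻¹) * z⁻¹) * (z * slotEl 1 B * z⁻¹) := by group
      _ = slotEl 1 B * slotEl 0 (gs 0 * B * (gs 0)⁻¹) := by rw [e1, e2]
      _ = _ := Units.ext (by simp only [Units.val_mul, slotEl_val]; exact emb_comm (by decide) _ _)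
  have hθM : ∀ k l : Fin 3, k ≠ l → θ (unitT k l) ∈ M := by
    intro k l hkl
    have hd' : (Pi.single l 1 : Fin 3 → F) ⬝ᵥ Pi.single k 1 = 0 := by simp [hkl]
    rw [hθ]
    refine mul_mem ?_ (H.rs_mem 1 hd')
    have h2 : ((Pi.single l 1 : Fin 3 → F) ᵥ* (gs 0)⁻¹.val) ⬝ᵥ ((gs 0).val *ᵥ Pi.single k 1) = 0 := by
      rw [← dotProduct_mulVec, Transvec.inv_mulVec_cancel, hd']
    have : gs 0 * unitT k l * (gs 0)⁻¹ = transv ((gs 0).val *ᵥ Pi.single k 1) ((Pi.single l 1 : Fin 3 → F) ᵥ* (gs 0)⁻¹.val) :=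
      gl_ext fun x => by
        rw [Transvec.mul_mulVec, Transvec.mul_mulVec, unitT, transv_mulVec hd', transv_mulVec h2, mulVec_add,
          Transvec.mulVec_inv_cancel, mulVec_smul, ← dotProduct_mulVec]
    rw [this]
    exact H.rs_mem 0 h2
  -- their conjugates
  obtain ⟨r, hr⟩ : ∃ r : Fin 2, r ≠ s := exists_ne s
  obtain ⟨ψ, hψ⟩ : ∃ ψ : GL (Fin 3) F →* GL (Idx 2 3) F, ∀ B, ψ B = g⁻¹ * θ B * g :=
    ⟨(MulAut.conj g⁻¹).toMonoidHom.comp θ, fun B => by simp⟩
  have hψy : ∀ B, ψ B * rs s u φ * (ψ B)⁻¹ = rs s u φ := by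
    intro B
    have h1 : z * θ B = θ B * z := mul_inv_eq_iff_eq_mul.mp (hθz B)
    calc ψ B * rs s u φ * (ψ B)⁻¹ = g⁻¹ * (θ B * z * (θ B)⁻¹) * g := by rw [hψ, hz]; group
      _ = g⁻¹ * z * g := by rw [← h1, mul_inv_cancel_right]
      _ = _ := by rw [hz]; group
  -- their component in the slot of the root
  have hdata : ∀ k l : Fin 3, k ≠ l → ∃ as : Fin 2 → GL (Fin 3) F, TWData (ψ (unitT k l)) 1 as ∧
      as s * transv u φ * (as s)⁻¹ = transv u φ := by
    intro k l hkl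
    have hm' : ψ (unitT k l) ∈ M := by
      rw [hψ]; exact mul_mem (mul_mem (inv_mem hg) (hθM k l hkl)) hg
    have hfix : gim (ψ (unitT k l)) (slotW s u) = slotW s u := by
      rw [← mv_rs hφ hφ0, ← mv_conj, hψy]
    obtain ⟨π, as, ha⟩ := H.tw_of_fix (s := s) hm' hu hfix
    have hπ : π = 1 := by
      have hs : π s = s := by
        by_contra h
        obtain ⟨s', hs'⟩ : ∃ s', π s' = s := π.surjective s
        have e := ha.gim_slotW s' hu
        rw [hs', hfix] at e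
        exact h (slot_eq_of_slotW_eq (by omega) hu (Transvec.mulVec_ne_zero _ hu) e ▸ hs')
      ext1 i
      rw [Equiv.Perm.one_apply]
      by_cases hi : i = s
      · rw [hi, hs]
      have : π i ≠ s := fun h => hi (π.injective (h.trans hs.symm))
      omega
    subst hπ
    refine ⟨as, ha, slotEl_injective (by omega) s ?_⟩
    have := ha.conj_slotEl s (transv u φ)
    rw [Equiv.Perm.one_apply] at this
    rw [← this]
    exact hψy _
  obtain ⟨P₁, P₂, hP1, hP2, hP3⟩ := triple_comm u φ hu hφ hφ0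
  have hthird : ∀ k l : Fin 3, k ≠ l → ∃ o, k ≠ o ∧ o ≠ l := fun k l _ => by
    obtain ⟨o, h1, h2⟩ := exists_third (le_refl 3) k l
    exact ⟨o, h1.symm, h2⟩
  have lift : ∀ (P Q : GL (Fin 3) F → Prop),
      (∀ k l : Fin 3, k ≠ l → ∃ as : Fin 2 → GL (Fin 3) F, TWData (ψ (unitT k l)) 1 as ∧ P (as s)) →
      (∀ B B', P B → P B' → Q (B * B' * B⁻¹ * B'⁻¹)) →
      ∀ k l : Fin 3, k ≠ l → ∃ as : Fin 2 → GL (Fin 3) F, TWData (ψ (unitT k l)) 1 as ∧ Q (as s) := by
    intro P Q hP hPQ k l hkl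
    obtain ⟨o, h1, h2⟩ := hthird k l hkl
    obtain ⟨a, ha, hPa⟩ := hP k o h1
    obtain ⟨b, hb, hPb⟩ := hP o l h2
    refine ⟨fun i => a i * b i * (a i)⁻¹ * (b i)⁻¹, ?_, hPQ _ _ hPa hPb⟩
    rw [map_comm_of_eq ψ _ _ _ (unitT_comm h1 h2 hkl)]
    have := ((ha.mul hb).mul ha.inv).mul hb.inv
    simpa using this
  obtain ⟨as, ha, has⟩ := lift P₂ (· = 1) (lift P₁ P₂ (lift (fun B => B * transv u φ * B⁻¹ = transv u φ) P₁ hdata hP1)
    hP2) hP3 0 1 (by decide)
  -- so it moves little, yet is a product of two slot roots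
  obtain ⟨d, hdd⟩ : ∃ d, d = θ (unitT 0 1) := ⟨_, rfl⟩
  have hd2 : d * d = 1 := by
    rw [hdd, ← map_mul, ← map_one θ]
    congr 1
    refine Units.ext ?_
    rw [Units.val_mul, unitT_val (by decide), mul_add, mul_one, add_mul, one_mul,
      single_mul_single_of_ne (h := (by decide : (1 : Fin 3) ≠ 0)), add_zero, add_assoc,
      show (single 0 1 (1 : F) : Matrix (Fin 3) (Fin 3) F) + single 0 1 1 = (2 : F) • single 0 1 1 from (two_smul _ _).symm,
      hc, zero_smul, add_zero, Units.val_one]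
  have hsmall : Module.finrank F (mv d) ≤ 3 ^ 1 := by
    have e : d = g * ψ (unitT 0 1) * g⁻¹ := by rw [hψ, hdd]; group
    rw [e, mv_conj, finrank_gim]
    have h2 : ψ (unitT 0 1) * ψ (unitT 0 1) = 1 := by
      rw [hψ, ← hdd]
      calc g⁻¹ * d * g * (g⁻¹ * d * g) = g⁻¹ * (d * d) * g := by group
        _ = 1 := by rw [hd2]; group
    obtain ⟨r', hr'⟩ := Fin.exists_succAbove_eq hr
    -- a slot element
    have he : ψ (unitT 0 1) = slotEl r (as r) := ext_pv fun xs => by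
      rw [ha, slotEl_apply]
      congr 1
      funext i
      by_cases hi : i = r
      · subst hi; simp
      · have : i = s := by omega
        subst this
        simp [has, hi]
    rw [he, ← finrank_mv_glReindex (slotE r), ← slotG, slotG_slotEl]
    obtain ⟨A, hA⟩ : ∃ A : (Fin 3 → F) →ₗ[F] (Fin 3 → F), ∀ x, A x = (as r).val *ᵥ x - x :=
      ⟨Matrix.mulVecLin (as r).val - LinearMap.id, fun x => rfl⟩
    have hA2 : ∀ x, A (A x) = 0 := fun x => by
      have hh : as r * as r = 1 := slotEl_injective (by omega) r (by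
        rw [← slotEl_mul, ← he, h2]
        exact Units.ext (by simp [slotEl_val, emb_one]))
      have e := congrArg (fun B : GL (Fin 3) F => B.val *ᵥ x) hh
      simp only [Transvec.mul_mulVec, Units.val_one, one_mulVec] at e
      rw [hA, hA, mulVec_sub, e, show x - (as r).val *ᵥ x - ((as r).val *ᵥ x - x) =
        (2 : F) • x - (2 : F) • ((as r).val *ᵥ x) from by rw [two_smul, two_smul]; abel, hc, zero_smul, zero_smul,
        sub_zero]
    have hrk : Module.finrank F (LinearMap.range A) ≤ 1 := by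
      have h1 : LinearMap.range A ≤ LinearMap.ker A := by
        rintro _ ⟨x, rfl⟩; exact LinearMap.mem_ker.mpr (hA2 x)
      have := Submodule.finrank_mono h1
      have h3 := LinearMap.finrank_range_add_finrank_ker A
      rw [Module.finrank_fin_fun] at h3
      omega
    obtain ⟨v, hv⟩ : ∃ v : Fin 3 → F, LinearMap.range A ≤ Submodule.span F {v} := by
      by_cases h0 : LinearMap.range A = ⊥
      · exact ⟨0, by rw [h0]; exact bot_le⟩
      obtain ⟨v, hv, hv0⟩ := Submodule.exists_mem_ne_zero_of_ne_bot h0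
      exact ⟨v, (Submodule.eq_of_le_of_finrank_le ((Submodule.span_singleton_le_iff_mem _ _).mpr hv)
        (by rw [finrank_span_singleton hv0]; exact hrk)).ge⟩
    have hle : mv (kr (1 : GL (Fin (3 ^ 1)) F) (as r)) ≤ pureW (3 ^ 1) v := by
      rintro _ ⟨w, rfl⟩
      simp only [LinearMap.sub_apply, Matrix.mulVecLin_apply, Module.End.one_apply]
      rw [TensorMax.eq_sum_pt w, mulVec_sum, ← Finset.sum_sub_distrib]
      refine Submodule.sum_mem _ fun j _ => ?_
      rw [kr_apply, Units.val_one, one_mulVec, ← pt_sub_right, ← hA]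
      obtain ⟨c, hc'⟩ := Submodule.mem_span_singleton.mp (hv ⟨_, rfl⟩)
      rw [← hc', pt_smul_right, ← pt_smul_left]
      exact pt_mem_pureW _ _
    refine (Submodule.finrank_mono hle).trans ?_
    rw [pureW]
    exact (LinearMap.finrank_range_le _).trans (Module.finrank_fin_fun F).le
  -- but both its components are non-scalar
  obtain ⟨A, π, hA, -, hAe⟩ := ((slotEl_data (0 : Fin 2) (gs 0 * unitT 0 1 * (gs 0)⁻¹)).mul
    (slotEl_data (1 : Fin 2) (unitT (F := F) 0 1))).slot (s := (0 : Fin 2)) rfl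
  rw [← hθ, ← hdd] at hAe
  simp only [Equiv.Perm.one_apply, Function.update_self, Function.update_of_ne (by decide : (0 : Fin 2) ≠ 1),
    mul_one] at hAe
  have hgt : 3 ^ 1 < Module.finrank F (mv (slotG (0 : Fin 2) d)) := by
    rw [hAe]
    have hneig : ∀ l : F, (unitT (F := F) (0 : Fin 3) 1).val *ᵥ Pi.single 1 1 ≠ l • Pi.single 1 1 := fun l h => by
      rw [unitT_val (by decide)] at h
      have := congrFun h 0
      simp [add_mulVec, single_mulVec] at this
    refine lt_finrank_mv_kr (le_refl 3) (α := fv fun _ => Pi.single 1 1) (fun l h => ?_)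
      (v := (gs 0).val *ᵥ Pi.single 1 1) fun l h => hneig l ?_
    · rw [flatG_apply] at h
      have h' : A.val *ᵥ pv (fun _ => Pi.single 1 1) = l • pv (fun _ : Fin 1 => (Pi.single 1 1 : Fin 3 → F)) :=
        (flatE 1 3).symm.surjective.injective_comp_right h
      rw [hA] at h'
      obtain ⟨c, hc'⟩ := Submodule.mem_span_singleton.mp (mem_span_of_pv_eq
        (xs := fun _ : Fin 1 => (Pi.single 1 1 : Fin 3 → F)) (fun _ => by simp)
        (fun i => Transvec.mulVec_ne_zero _ (by simp)) h' 0)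
      refine hneig c ?_
      simpa [Fin.succAbove] using hc'.symm
    · refine Transvec.mulVec_injective (gs 0) ?_
      simp only
      rw [mulVec_smul]
      simp only [Transvec.mul_mulVec, Transvec.inv_mulVec_cancel] at h
      exact h
  rw [slotG, finrank_mv_glReindex] at hgt
  exact absurd hgt (not_lt.mpr hsmall)

/-- An element of `M` conjugating a root into the group lies in it. -/
theorem Hyp.tw_of_conj {g : GL (Idx (T + 2) m) F} (hg : g ∈ M) {s : Fin (T + 2)} {u φ : Fin m → F} (hu : u ≠ 0)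
    (hφ : φ ⬝ᵥ u = 0) (hφ0 : φ ≠ 0) (hz : IsTW (g * rs s u φ * g⁻¹)) : IsTW g := by
  classical
  have hm := H.ctx.three
  obtain ⟨σ, gs, hd⟩ := hz
  have hmv : mv (g * rs s u φ * g⁻¹) = gim g (slotW s u) := by rw [mv_conj, mv_rs hφ hφ0]
  have hrk : Module.finrank F (mv (g * rs s u φ * g⁻¹)) = m ^ (T + 1) := by
    rw [hmv, finrank_gim, finrank_slotW _ hu]
  by_cases hσ : σ = 1
  · subst hσ
    obtain ⟨s', u', hu', he⟩ := pure_of_base hm hd (fun h => by
      rw [h, show mv (1 : GL (Idx (T + 2) m) F) = ⊥ from (Submodule.eq_bot_iff _).mpr fun v hv => by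
        obtain ⟨w, rfl⟩ := mem_mv.mp hv; rw [Units.val_one, one_mulVec, sub_self], finrank_bot] at hrk
      have := Nat.pow_pos (n := T + 1) (show 0 < m by omega)
      omega) hrk.le
    exact H.tw_of_pimg hg hu ⟨s', u', hu', hmv ▸ he⟩
  obtain ⟨hc, h3, i, j, hij, rfl⟩ := perm_small hm hd (conj_sq g _ (rs_sq hφ)) hσ hrk.le
  by_cases ho : ∃ o, o ≠ i ∧ o ≠ j
  · obtain ⟨o, hoi, hoj⟩ := ho
    exact H.swap_slot hc h3 hg hu hφ hφ0 hd (o := o) (Equiv.swap_apply_of_ne_of_ne hoi hoj)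
  push Not at ho
  exfalso
  refine H.swap_two ?_ hc h3 hg hu hφ hφ0 hd fun o => ?_
  · by_contra hT
    have hsub : (Finset.univ : Finset (Fin (T + 2))) ⊆ {i, j} := fun o _ => by
      by_cases h : o = i
      · simp [h]
      · simp [ho o h]
    have := (Finset.card_le_card hsub).trans Finset.card_le_two
    rw [Finset.card_univ, Fintype.card_fin] at this
    omega
  · by_cases h : o = i
    · subst h; simp [hij.symm]
    · rw [ho o h]; simp [hij]

/-- A p-subgroup of `M` containing a root lies in the tensor wreath group. -/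
theorem Hyp.tw_of_pGroup {p : ℕ} [Fact p.Prime] {Q : Subgroup (GL (Idx (T + 2) m) F)} (hQ : Q ≤ M)
    (hp : IsPGroup p Q) {s : Fin (T + 2)} {u φ : Fin m → F} (hu : u ≠ 0) (hφ : φ ⬝ᵥ u = 0) (hφ0 : φ ≠ 0)
    (hx : rs s u φ ∈ Q) : ∀ g ∈ Q, IsTW g := by
  classical
  by_contra hne
  push Not at hne
  obtain ⟨K, hK⟩ : ∃ K : Subgroup (GL (Idx (T + 2) m) F), K = Cfsg.Geo.tensorWreathStandard m (T + 2) F := ⟨_, rfl⟩
  obtain ⟨L, hL⟩ : ∃ L, L = K.subgroupOf Q := ⟨_, rfl⟩
  have hLmem : ∀ q : Q, q ∈ L ↔ IsTW (q : GL (Idx (T + 2) m) F) := fun q => by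
    rw [hL, Subgroup.mem_subgroupOf, hK, mem_standard_iff]
  haveI : Finite (GL (Idx (T + 2) m) F) := inferInstance
  haveI := hp.isNilpotent
  have hlt : L < ⊤ := lt_top_iff_ne_top.mpr fun h => by
    obtain ⟨g, hg, hgK⟩ := hne
    exact hgK ((hLmem ⟨g, hg⟩).mp (h ▸ Subgroup.mem_top _))
  obtain ⟨⟨g, hgQ⟩, hgn, hgH⟩ := SetLike.exists_of_lt (Group.normalizerCondition_of_isNilpotent L hlt)
  have hxL : (⟨_, hx⟩ : Q) ∈ L := (hLmem _).mpr ⟨1, _, slotEl_data _ _⟩
  exact hgH ((hLmem _).mpr (H.tw_of_conj (hQ hgQ) hu hφ hφ0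
    ((hLmem _).mp ((Subgroup.mem_normalizer_iff.mp hgn ⟨_, hx⟩).mp hxL))))

/-- Two roots, one conjugated, whose composite is nilpotent. -/
theorem Hyp.tw_of_nilpotent {g : GL (Idx (T + 2) m) F} (hg : g ∈ M) {s r : Fin (T + 2)} {u φ v ψ : Fin m → F}
    (hu : u ≠ 0) (hφ : φ ⬝ᵥ u = 0) (hφ0 : φ ≠ 0) (hv : v ≠ 0) (hψ : ψ ⬝ᵥ v = 0) (hψ0 : ψ ≠ 0) {N : ℕ}
    (hN : (((rs s u φ).val - 1) * ((g * rs r v ψ * g⁻¹).val - 1)) ^ N = 0) : IsTW g := by
  obtain ⟨p, hp⟩ := CharP.exists F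
  haveI : Fact p.Prime := ⟨CharP.char_is_prime F p⟩
  have hm := H.ctx.three
  haveI : Nonempty (Idx (T + 2) m) := ⟨fun _ => ⟨0, by omega⟩⟩
  have hP := TensorMax.UnitT.isPGroup_closure p (rs_sq hφ) (conj_sq g _ (rs_sq hψ)) hN
  have hQ : Subgroup.closure ({rs s u φ, g * rs r v ψ * g⁻¹} : Set (GL (Idx (T + 2) m) F)) ≤ M :=
    (Subgroup.closure_le M).mpr (by
      rintro _ (rfl | rfl)
      exacts [H.rs_mem s hφ, mul_mem (mul_mem hg (H.rs_mem r hψ)) (inv_mem hg)])
  exact H.tw_of_conj hg hv hψ hψ0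
    (H.tw_of_pGroup hQ hP (s := s) hu hφ hφ0 (Subgroup.subset_closure (by simp)) (g * rs r v ψ * g⁻¹)
      (Subgroup.subset_closure (by simp)))

end CfsgLib.Classical22.TWMax
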