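/-
Characteristic two: auxiliary facts on two slot roots and on pairs of pure subspaces.
-/
import Cfsg.Agent.Lib.Classical22.TensorWreathMax.Root
import Cfsg.Agent.Lib.Classical22.TensorWreathMax.Dihedral

set_option autoImplicit false
set_option linter.unusedSectionVars false
set_option linter.unusedSimpArgs false

namespace CfsgLib.Classical22.TWMax

open Matrix Kronecker CfsgLib.Transvec CfsgLib.Classical22.TensorMax
open CfsgLib.Classical22.TensorMax.SpO (kr kr_apply isKron_kr)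
open scoped MatrixGroups

variable {F : Type*} [Field F] {T m : ℕ}

lemma rs_comm {t : ℕ} {s r : Fin (t + 1)} (h : s ≠ r) (u φ v ψ : Fin m → F) :
    rs s u φ * rs r v ψ = rs r v ψ * rs s u φ :=
  Units.ext (by simp only [Units.val_mul, rs, slotEl_val]; exact emb_comm h _ _)

/-- A conjugate of a root by an element of the tensor wreath group is a root. -/
lemma root_of_tw {t : ℕ} {c : GL (Idx (t + 1) m) F} (hc : IsTW c) {r : Fin (t + 1)} {v ψ : Fin m → F}
    (hv : v ≠ 0) (hψ : ψ ⬝ᵥ v = 0) (hψ0 : ψ ≠ 0) :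
    ∃ (s : Fin (t + 1)) (u φ : Fin m → F), u ≠ 0 ∧ φ ⬝ᵥ u = 0 ∧ φ ≠ 0 ∧ c * rs r v ψ * c⁻¹ = rs s u φ := by
  obtain ⟨σ, gs, hd⟩ := hc
  obtain ⟨i, rfl⟩ := σ.surjective r
  refine ⟨i, (gs i).val *ᵥ v, ψ ᵥ* ((gs i)⁻¹).val, Transvec.mulVec_ne_zero _ hv, ?_, fun h => hψ0 ?_, ?_⟩
  · rw [vecMul_inv_dotProduct, hψ]
  · have := congrArg (· ᵥ* (gs i).val) h
    simpa [vecMul_vecMul] using this
  · rw [rs, rs, hd.conj_slotEl, conj_transv _ hψ]

lemma mv_mul_le {ι : Type} [Fintype ι] [DecidableEq ι] (g h : GL ι F) : mv (g * h) ≤ mv g ⊔ mv h := by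
  rintro _ ⟨w, rfl⟩
  simp only [LinearMap.sub_apply, Matrix.mulVecLin_apply, Module.End.one_apply]
  rw [Transvec.mul_mulVec, ← sub_add_sub_cancel _ (h.val *ᵥ w) w]
  exact Submodule.add_mem_sup (sub_mem_mv _ _) (sub_mem_mv _ _)

/-- The square of a product of two transvections with one vanishing pairing. -/
lemma transv_pair_sq (hc : (2 : F) = 0) {u φ u' φ' : Fin m → F} (hφ : φ ⬝ᵥ u = 0) (hφ' : φ' ⬝ᵥ u' = 0)
    (h : φ ⬝ᵥ u' = 0) :
    transv u φ * transv u' φ' * (transv u φ * transv u' φ') = transv u' ((φ' ⬝ᵥ u) • φ) := by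
  refine gl_ext fun x => ?_
  simp only [Transvec.mul_mulVec, transv_mulVec hφ, transv_mulVec hφ', mulVec_add, mulVec_smul]
  rw [transv_mulVec (by rw [smul_dotProduct, h, smul_zero])]
  simp only [dotProduct_add, dotProduct_smul, hφ, hφ', h, smul_eq_mul, mul_zero, add_zero, smul_dotProduct, mul_comm]
  match_scalars <;> first | ring1 | (ring_nf; simp [hc])

/-- Two transvections with both pairings non-zero do not multiply to a 2-element. -/
lemma transv_pair_pow_ne [Fintype F] (hc : (2 : F) = 0) {u φ u' φ' : Fin m → F} (hu : u ≠ 0) (hφ : φ ⬝ᵥ u = 0)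
    (hφ' : φ' ⬝ᵥ u' = 0) (h : φ ⬝ᵥ u' ≠ 0) (h' : φ' ⬝ᵥ u ≠ 0) (i : ℕ) :
    (transv u φ * transv u' φ') ^ 2 ^ i ≠ 1 := by
  intro he
  haveI : CharP F 2 := CharTwo.of_one_ne_zero_of_two_eq_zero one_ne_zero hc
  haveI : Fact (Nat.Prime 2) := ⟨Nat.prime_two⟩
  haveI : Nonempty (Fin m) := by
    by_contra hne
    rw [not_nonempty_iff] at hne
    exact hu (funext fun i => hne.elim i)
  haveI : CharP (Matrix (Fin m) (Fin m) F) 2 := Matrix.charP 2
  obtain ⟨N, hN⟩ : ∃ N : Matrix (Fin m) (Fin m) F, N = (transv u φ * transv u' φ').val - 1 := ⟨_, rfl⟩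
  have h0 : N ^ 2 ^ i = 0 := by
    rw [hN, sub_pow_char_pow_of_commute 2 i (Commute.one_right _), one_pow, ← Units.val_pow_eq_pow_val, he,
      Units.val_one, sub_self]
  have key : ∀ k, ∃ a b : F, (a ≠ 0 ∨ b ≠ 0) ∧ N ^ k *ᵥ u = a • u + b • u' := fun k => by
    induction k with
    | zero => exact ⟨1, 0, Or.inl one_ne_zero, by simp⟩
    | succ k ih =>
      obtain ⟨a, b, hab, he⟩ := ih
      refine ⟨a * (φ' ⬝ᵥ u) * (φ ⬝ᵥ u') + b * (φ ⬝ᵥ u'), a * (φ' ⬝ᵥ u), ?_, ?_⟩
      · by_cases ha : a = 0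
        · refine Or.inl ?_
          rw [ha, zero_mul, zero_mul, zero_add]
          exact mul_ne_zero (hab.resolve_left (not_not_intro ha)) h
        · exact Or.inr (mul_ne_zero ha h')
      · rw [pow_succ', ← mulVec_mulVec, he, hN, sub_mulVec, one_mulVec, Transvec.mul_mulVec, transv_mulVec hφ',
          transv_mulVec hφ]
        simp only [dotProduct_add, dotProduct_smul, hφ, hφ', smul_eq_mul, mul_zero, add_zero, zero_add, add_smul,
          smul_smul]
        match_scalars <;> ring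
  obtain ⟨a, b, hab, he'⟩ := key (2 ^ i)
  rw [h0, zero_mulVec] at he'
  have hb : b = 0 := by
    have := congrArg (φ ⬝ᵥ ·) he'
    simp only [dotProduct_zero, dotProduct_add, dotProduct_smul, hφ, smul_eq_mul, mul_zero, zero_add] at this
    exact (mul_eq_zero.mp this.symm).resolve_right h
  rw [hb, zero_smul, add_zero] at he'
  exact hab.elim (fun ha => ha ((smul_eq_zero.mp he'.symm).resolve_right hu)) (fun h => h hb)

/-- Two pure subspaces of different slots meet in at most the lower power. -/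
lemma finrank_inf_slotW {s r : Fin (T + 2)} (hsr : r ≠ s) {u w : Fin m → F} (hu : u ≠ 0) (hw : w ≠ 0) :
    Module.finrank F (slotW s u ⊓ slotW r w : Submodule F (Idx (T + 2) m → F)) ≤ m ^ T := by
  obtain ⟨j, rfl⟩ := Fin.exists_succAbove_eq hsr
  obtain ⟨c, hc⟩ := Function.ne_iff.mp hu
  obtain ⟨S, hS⟩ : ∃ S : (slotW s u ⊓ slotW (s.succAbove j) w : Submodule F (Idx (T + 2) m → F)) →ₗ[F] slotW j w,
      ∀ v z, (S v : Idx (T + 1) m → F) z = (v : Idx (T + 2) m → F) (Fin.insertNth s c z) :=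
    ⟨LinearMap.codRestrict _ ((LinearMap.funLeft F F fun z => (Fin.insertNth s c z : Idx (T + 2) m)).comp
      (Submodule.subtype _)) fun v => slice_mem v.2.2 c, fun v z => rfl⟩
  have hinj : Function.Injective S := (injective_iff_map_eq_zero S).mpr fun v hv => by
    obtain ⟨p, hp⟩ := mem_slotW.mp v.2.1
    refine Subtype.ext (funext fun x => ?_)
    obtain ⟨q, hq⟩ : ∃ q, q = flatE (T + 1) m (fun k => x (s.succAbove k)) := ⟨_, rfl⟩
    have hval : ∀ d : Fin m, (v : Idx (T + 2) m → F) (Fin.insertNth s d fun k => x (s.succAbove k)) = p q * u d :=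
      fun d => by
        have := congrFun hp (slotE s (Fin.insertNth s d fun k => x (s.succAbove k)))
        rw [Function.comp_apply, Equiv.symm_apply_apply] at this
        rw [← this, slotE_apply]
        simp [ptL_apply, pt, hq]
    have h0 := hS v fun k => x (s.succAbove k)
    rw [hv, hval] at h0
    have hpq : p q = 0 := (mul_eq_zero.mp h0.symm).resolve_right hc
    have hx : (Fin.insertNth s (x s) fun k => x (s.succAbove k)) = x := by
      funext k; refine Fin.succAboveCases s ?_ (fun i => ?_) k <;> simp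
    have := hval (x s)
    rw [hx, hpq, zero_mul] at this
    exact this
  have := LinearMap.finrank_le_finrank_of_injective hinj
  rwa [finrank_slotW _ hw] at this

/-- The functional of a pure row vector. -/
lemma pv_dot {t : ℕ} (ys xs : Fin t → Fin m → F) : pv ys ⬝ᵥ pv xs = ∏ k, ys k ⬝ᵥ xs k := by
  simp only [dotProduct, pv, ← Finset.prod_mul_distrib]
  exact (Fintype.prod_sum fun k i => ys k i * xs k i).symm

lemma dot_slotW_eq_zero {t : ℕ} {ys : Fin (t + 1) → Fin m → F} {s : Fin (t + 1)} {u : Fin m → F}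
    (h : ys s ⬝ᵥ u = 0) {v : Idx (t + 1) m → F} (hv : v ∈ slotW s u) : pv ys ⬝ᵥ v = 0 := by
  obtain ⟨L, hL⟩ : ∃ L : (Idx (t + 1) m → F) →ₗ[F] F, ∀ x, L x = pv ys ⬝ᵥ x :=
    ⟨{ toFun := fun x => pv ys ⬝ᵥ x, map_add' := dotProduct_add _, map_smul' := fun c x => dotProduct_smul c _ x },
      fun x => rfl⟩
  have hle : slotW s u ≤ LinearMap.ker L := slotW_le fun xs hxs => by
    rw [LinearMap.mem_ker, hL, pv_dot, Finset.prod_eq_zero (Finset.mem_univ s) (by rw [hxs, h])]
  exact (hL v).symm.trans (hle hv)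

/-- A pure subspace inside the sum of two others of different slots. -/
lemma mem_span_of_slotW_le {t : ℕ} {s r : Fin (t + 1)} (hsr : s ≠ r) (hm : 2 ≤ m) {u w u' : Fin m → F}
    (h : slotW r u' ≤ slotW s u ⊔ slotW r w) : u' ∈ Submodule.span F ({w} : Set (Fin m → F)) := by
  classical
  by_contra hn
  obtain ⟨ν, hν, hνu⟩ := exists_functional hn
  obtain ⟨y, hy⟩ := exists_notMem_span (show 1 < m by omega) ![u]
  obtain ⟨α, hα, hαy⟩ := exists_functional hy
  obtain ⟨ys, hys⟩ : ∃ ys : Fin (t + 1) → Fin m → F, ys = Function.update (fun _ => α) r ν := ⟨_, rfl⟩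
  obtain ⟨xs, hxs⟩ : ∃ xs : Fin (t + 1) → Fin m → F, xs = Function.update (fun _ => y) r u' := ⟨_, rfl⟩
  have hz : pv ys ⬝ᵥ pv xs = 0 := by
    obtain ⟨a, ha, b, hb, hab⟩ := Submodule.mem_sup.mp (h (show pv xs ∈ slotW r u' by
      have := pv_mem_slotW r xs
      rwa [show xs r = u' by simp [hxs]] at this))
    rw [← hab, dotProduct_add, dot_slotW_eq_zero (by
      simp [hys, hsr, hα u (Submodule.subset_span ⟨0, rfl⟩)]) ha,
      dot_slotW_eq_zero (by simp [hys, hν w (Submodule.mem_span_singleton_self w)]) hb, add_zero]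
  rw [pv_dot, Finset.prod_eq_zero_iff] at hz
  obtain ⟨k, -, hk⟩ := hz
  by_cases hkr : k = r
  · subst hkr; simp [hys, hxs, hνu] at hk
  · simp [hys, hxs, hkr, hαy] at hk

end CfsgLib.Classical22.TWMax
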