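/-
Characteristic two: the product of a root and a conjugate root outside the group has odd order.
-/
import Cfsg.Agent.Lib.Classical22.TensorWreathMax.EvenBase

set_option autoImplicit false
set_option linter.unusedSectionVars false
set_option linter.unusedSimpArgs false
set_option maxHeartbeats 800000

namespace CfsgLib.Classical22.TWMax

open Matrix Kronecker CfsgLib.Transvec CfsgLib.Classical22.TensorMax
open CfsgLib.Classical22.TensorMax.SpO (kr kr_apply isKron_kr)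
open scoped MatrixGroups

variable {F : Type*} [Field F] [Fintype F] {T m : ℕ}

lemma prC_comm {ι : Type} [Fintype ι] [DecidableEq ι] {g S : GL ι F} (h : Commute g S) (v : ι → F) :
    prC S (g.val *ᵥ v) = g.val *ᵥ prC S v := by
  rw [prC_apply, prC_apply, mulVec_sum]
  refine Finset.sum_congr rfl fun k _ => ?_
  rw [← Transvec.mul_mulVec, ← Transvec.mul_mulVec, (h.pow_right k).eq]

lemma comm_moved {ι : Type} [Fintype ι] [DecidableEq ι] {g S : GL ι F} (h : Commute g S) {b : ι → F}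
    (hb : b ∈ mv S) : g.val *ᵥ b ∈ mv S := by
  obtain ⟨e, rfl⟩ := mem_mv.mp hb
  rw [mulVec_sub, ← Transvec.mul_mulVec, h.eq, Transvec.mul_mulVec]
  exact sub_mem_mv _ _

lemma slotEl_one (s : Fin (T + 1)) : slotEl s (1 : GL (Fin m) F) = 1 :=
  Units.ext (by simp [slotEl_val, emb_one])

lemma slotEl_pow (s : Fin (T + 1)) (B : GL (Fin m) F) (n : ℕ) : slotEl s B ^ n = slotEl s (B ^ n) := by
  induction n with
  | zero => rw [pow_zero, pow_zero, slotEl_one]
  | succ n ih => rw [pow_succ, pow_succ, ih, slotEl_mul]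

lemma pv_update_add {t : ℕ} (xs : Fin t → Fin m → F) (s : Fin t) (b u : Fin m → F) :
    pv (Function.update xs s (b + u)) = pv (Function.update xs s b) + pv (Function.update xs s u) := by
  classical
  funext a
  simp only [pv, Pi.add_apply]
  rw [Finset.prod_eq_mul_prod_sdiff_singleton_of_mem (Finset.mem_univ s),
    Finset.prod_eq_mul_prod_sdiff_singleton_of_mem (Finset.mem_univ s),
    Finset.prod_eq_mul_prod_sdiff_singleton_of_mem (Finset.mem_univ s)]
  have e : ∀ c : Fin m → F, ∏ i ∈ Finset.univ \ {s}, Function.update xs s c i (a i) =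
      ∏ i ∈ Finset.univ \ {s}, xs i (a i) := fun c => Finset.prod_congr rfl fun i hi => by
    simp at hi; rw [Function.update_of_ne hi]
  simp only [Function.update_self, e, Pi.add_apply, add_mul]

variable {M : Subgroup (GL (Idx (T + 2) m) F)}

/-- Where the root acts, a related root gives an even pair. -/
theorem Hyp.exists_even (H : Hyp M) (hc : (2 : F) = 0) {s : Fin (T + 2)} {u φ : Fin m → F} (hu : u ≠ 0)
    (hφ : φ ⬝ᵥ u = 0) (hφ0 : φ ≠ 0) {S y : GL (Idx (T + 2) m) F} (hS : Odd (orderOf S))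
    (hinv : rs s u φ * S * rs s u φ = S⁻¹)
    (hy : ∀ a, S.val *ᵥ a = a → y.val *ᵥ a = (rs s u φ).val *ᵥ a) {f : Idx (T + 2) m → F}
    (hf : S.val *ᵥ f = f) (hXf : (rs s u φ).val *ᵥ f ≠ f) :
    ∃ ψ : Fin m → F, ψ ⬝ᵥ u = 0 ∧ ψ ≠ 0 ∧ Even (orderOf (rs s u ψ * y)) := by
  have hm := H.ctx.three
  -- a second axis
  obtain ⟨b, hb, hbu⟩ : ∃ b, φ ⬝ᵥ b = 0 ∧ b ∉ Submodule.span F ({u} : Set (Fin m → F)) := by
    obtain ⟨L, hL⟩ : ∃ L : (Fin m → F) →ₗ[F] F, ∀ x, L x = φ ⬝ᵥ x :=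
      ⟨{ toFun := fun x => φ ⬝ᵥ x, map_add' := dotProduct_add φ, map_smul' := fun c x => dotProduct_smul c φ x },
        fun x => rfl⟩
    by_contra h
    push Not at h
    have e1 := LinearMap.finrank_range_add_finrank_ker L
    have e2 := Submodule.finrank_le (LinearMap.range L)
    rw [Module.finrank_self] at e2
    rw [Module.finrank_fin_fun] at e1
    have := (Submodule.finrank_mono (fun x hx => h x (hL x ▸ LinearMap.mem_ker.mp hx) : LinearMap.ker L ≤ _)).trans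
      (finrank_span_singleton hu).le
    omega
  obtain ⟨ψ, hψ, hψb⟩ := exists_functional hbu
  have hψu := hψ u (Submodule.mem_span_singleton_self u)
  have hψ0 : ψ ≠ 0 := fun h0 => by simp [h0] at hψb
  refine ⟨ψ, hψu, hψ0, ?_⟩
  have hxsq := rs_sq (s := s) hφ
  obtain ⟨x, hx⟩ : ∃ x, x = rs s u φ := ⟨_, rfl⟩
  obtain ⟨x', hx'⟩ : ∃ x', x' = rs s u ψ := ⟨_, rfl⟩
  rw [← hx] at hinv hy hXf hxsq
  rw [← hx']
  obtain ⟨r, hr⟩ : ∃ r, r = sl ψ (f ∘ (slotE s).symm) := ⟨_, rfl⟩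
  obtain ⟨v₀, hv₀⟩ : ∃ v₀ : Idx (T + 2) m → F, v₀ ∘ (slotE s).symm = pt r b :=
    ⟨pt r b ∘ slotE s, by rw [Function.comp_assoc, Equiv.self_comp_symm, Function.comp_id]⟩
  have hinj := (slotE (m := m) s).symm.surjective.injective_comp_right (γ := F)
  have hxv : x.val *ᵥ v₀ = v₀ := hinj (by
    simp only
    rw [hx, rs_mulVec hφ, hv₀, sl_pt, hb, zero_smul, pt_zero_left, add_zero])
  have hsub : x'.val *ᵥ v₀ - v₀ = x'.val *ᵥ f - f := hinj (by
    simp only [Pi.sub_comp]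
    rw [hx', rs_mulVec hψu, rs_mulVec hψu, add_sub_cancel_left, add_sub_cancel_left, hv₀, sl_pt, hψb, one_smul, hr])
  -- components
  obtain ⟨a, ha⟩ : ∃ a, a = prC S v₀ := ⟨_, rfl⟩
  have hSa : S.val *ᵥ a = a := ha ▸ fix_prC v₀
  have hxa : x.val *ᵥ a = a := by rw [ha, ← prC_x hS hc hxsq hinv, hxv]
  have hb₀ : v₀ - a ∈ mv x := mem_mv_of_moved hS hc hxsq hinv (ha ▸ sub_prC_mem hS hc v₀)
    (by rw [mulVec_sub, hxv, hxa])
  rw [hx, mv_rs hφ hφ0] at hb₀
  obtain ⟨g₀, hg₀⟩ : ∃ g₀, g₀ = f - a := ⟨_, rfl⟩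
  have hg₀' : x'.val *ᵥ g₀ = g₀ := by
    have e : x'.val *ᵥ (v₀ - a) = v₀ - a := hx' ▸ rs_fix hψu hb₀
    rw [mulVec_sub] at e
    rw [hg₀, mulVec_sub]
    linear_combination (norm := abel) e - hsub
  obtain ⟨p, hp⟩ : ∃ p, p = x.val *ᵥ f - f := ⟨_, rfl⟩
  have hp0 : p ≠ 0 := fun h => hXf (sub_eq_zero.mp (hp.symm.trans h))
  have hpW : p ∈ slotW s u := by rw [hp, ← mv_rs (s := s) hφ hφ0, ← hx]; exact sub_mem_mv _ _
  have hSp : S.val *ᵥ p = p := by
    rw [hp, mulVec_sub, hf, fix_x_of_fix hS hc hxsq hinv hf]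
  have hxp : x.val *ᵥ p = p := hx ▸ rs_fix hφ hpW
  have hx'p : x'.val *ᵥ p = p := hx' ▸ rs_fix hψu hpW
  have hyg : y.val *ᵥ g₀ = g₀ + p := by
    rw [hy g₀ (by rw [hg₀, mulVec_sub, hf, hSa]), hg₀, mulVec_sub, hxa, hp]
    abel
  obtain ⟨w, hw⟩ : ∃ w, w = x' * y := ⟨_, rfl⟩
  rw [← hw]
  have hwg : w.val *ᵥ g₀ = g₀ + p := by rw [hw, Transvec.mul_mulVec, hyg, mulVec_add, hg₀', hx'p]
  have hwp : w.val *ᵥ p = p := by rw [hw, Transvec.mul_mulVec, hy p hSp, hxp, hx'p]
  have hpow : ∀ n : ℕ, (w ^ n).val *ᵥ g₀ = g₀ + (n : F) • p := fun n => by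
    induction n with
    | zero => simp
    | succ n ih =>
      rw [pow_succ', Transvec.mul_mulVec, ih, mulVec_add, mulVec_smul, hwg, hwp, Nat.cast_succ, add_smul, one_smul]
      abel
  rw [← Nat.not_odd_iff_even]
  intro hodd
  have := hpow (orderOf w)
  rw [pow_orderOf_eq_one, Units.val_one, one_mulVec, natCast_odd hc hodd, one_smul] at this
  exact hp0 (by simpa using this.symm)

/-- An even pair yields a partner root of another slot. -/
theorem Hyp.partner (H : Hyp M) (hc : (2 : F) = 0) {g : GL (Idx (T + 2) m) F} (hg : g ∈ M) (hne : ¬ IsTW g)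
    {s r : Fin (T + 2)} {u φ v ψ : Fin m → F} (hu : u ≠ 0) (hφ : φ ⬝ᵥ u = 0) (hφ0 : φ ≠ 0)
    (hv : v ≠ 0) (hψ : ψ ⬝ᵥ v = 0) (hψ0 : ψ ≠ 0)
    (heven : Even (orderOf (rs s u φ * (g * rs r v ψ * g⁻¹)))) :
    ∃ (s' : Fin (T + 2)) (u' φ' : Fin m → F) (l : ℕ), s' ≠ s ∧ u' ≠ 0 ∧ φ' ⬝ᵥ u' = 0 ∧ φ' ≠ 0 ∧
      orderOf (rs s u φ * (g * rs r v ψ * g⁻¹)) = 2 * (2 * l + 1) ∧
      (rs s u φ * (g * rs r v ψ * g⁻¹)) ^ (2 * l + 1) = rs s u φ * rs s' u' φ' ∧
      mv (rs s' u' φ') ≤ mv (rs s u φ) ⊔ mv (g * rs r v ψ * g⁻¹) := by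
  classical
  have hm := H.ctx.three
  obtain ⟨x, hxdef⟩ : ∃ x, x = rs s u φ := ⟨_, rfl⟩
  obtain ⟨z, hzdef⟩ : ∃ z, z = g * rs r v ψ * g⁻¹ := ⟨_, rfl⟩
  rw [← hxdef, ← hzdef] at heven ⊢
  have hxsq : (x.val - 1) * (x.val - 1) = 0 := hxdef ▸ rs_sq hφ
  have hzsq : (z.val - 1) * (z.val - 1) = 0 := hzdef ▸ conj_sq g _ (rs_sq hψ)
  have hxx := invol_of_sq hc hxsq
  have hzz := invol_of_sq hc hzsq
  have hxM : x ∈ M := hxdef ▸ H.rs_mem s hφ
  have hzM : z ∈ M := hzdef ▸ mul_mem (mul_mem hg (H.rs_mem r hψ)) (inv_mem hg)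
  have hzTW : ¬ IsTW z := fun h => hne (H.tw_of_conj hg hv hψ hψ0 (hzdef ▸ h))
  obtain ⟨i, l, hord, hvpow, hvord, hP⟩ := two_part hxx hzz
  obtain ⟨w, hw⟩ : ∃ w, w = x * z := ⟨_, rfl⟩
  rw [← hw] at hord hvpow hvord hP heven ⊢
  obtain ⟨v', hv'⟩ : ∃ v', v' = w ^ (2 * l + 1) := ⟨_, rfl⟩
  rw [← hv'] at hvpow hvord hP
  have hi : i ≠ 0 := by
    rintro rfl
    rw [hord, pow_zero, one_mul] at heven
    exact absurd heven (by rw [Nat.not_even_iff_odd]; exact ⟨l, rfl⟩)
  have hwM : w ∈ M := hw ▸ mul_mem hxM hzM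
  -- the conjugate of `z` in the 2-group
  obtain ⟨c, hcdef⟩ : ∃ c, c = (w ^ l)⁻¹ * g := ⟨_, rfl⟩
  have hcz : x * v' = c * rs r v ψ * c⁻¹ := by
    rw [hv', hw, mul_odd_pow_conj hxx hzz, ← hw, hcdef, _root_.mul_inv_rev, inv_inv, hzdef]
    simp only [mul_assoc]
  haveI : Fact (Nat.Prime 2) := ⟨Nat.prime_two⟩
  have hQ : Subgroup.closure ({x, v'} : Set (GL (Idx (T + 2) m) F)) ≤ M :=
    (Subgroup.closure_le M).mpr (by rintro _ (rfl | rfl); exacts [hxM, hv' ▸ pow_mem hwM _])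
  have hTW : IsTW (x * v') := H.tw_of_pGroup hQ hP (s := s) hu hφ hφ0
    (by rw [← hxdef]; exact Subgroup.subset_closure (by simp)) _
    (mul_mem (Subgroup.subset_closure (by simp)) (Subgroup.subset_closure (by simp)))
  have hcM : c ∈ M := hcdef ▸ mul_mem (inv_mem (pow_mem hwM _)) hg
  obtain ⟨s', u', φ', hu', hφ', hφ'0, hx'⟩ := root_of_tw (H.tw_of_conj hcM hv hψ hψ0 (hcz ▸ hTW)) hv hψ hψ0
  rw [← hcz] at hx'
  have hvx : v' = x * rs s' u' φ' := by rw [← hx', ← mul_assoc, hxx, one_mul]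
  -- nothing of the form of a root commutes with `z`
  have hzw : ∀ k : ℕ, z * w ^ k * z = (w ^ k)⁻¹ := fun k => by
    have e := congrArg (·⁻¹) (invol_conj_pow hzz hxx k)
    simp only [inv_inv] at e
    have hzx : z * x = w⁻¹ := by
      rw [hw, _root_.mul_inv_rev, inv_eq_of_mul_eq_one_right hzz, inv_eq_of_mul_eq_one_right hxx]
    rw [hzx, inv_pow, _root_.mul_inv_rev, _root_.mul_inv_rev, inv_inv, inv_eq_of_mul_eq_one_right hzz,
      ← mul_assoc] at e
    calc z * w ^ k * z = z * (z * (w ^ k)⁻¹ * z) * z := by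
          conv_lhs => rw [← inv_inv (w ^ k), ← e]
          simp only [_root_.mul_inv_rev, inv_inv, inv_eq_of_mul_eq_one_right hzz, mul_assoc]
      _ = (w ^ k)⁻¹ := by rw [← mul_assoc, ← mul_assoc, hzz, one_mul, mul_assoc, hzz, mul_one]
  have hroot : ∀ (s'' : Fin (T + 2)) (a b : Fin m → F), a ≠ 0 → b ⬝ᵥ a = 0 → b ≠ 0 →
      z * rs s'' a b * z = (rs s'' a b)⁻¹ → False := by
    intro s'' a b ha hb hb0 he
    have hR : rs s'' a b * rs s'' a b = 1 := invol_of_sq hc (rs_sq hb)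
    rw [inv_eq_of_mul_eq_one_right hR] at he
    refine hzTW (H.tw_of_fix (s := s'') hzM ha ?_)
    rw [← mv_rs hb hb0, ← mv_conj, inv_eq_of_mul_eq_one_right hzz, he]
  -- the partner lies in another slot
  have hs' : s' ≠ s := by
    intro hss
    subst hss
    obtain ⟨t, ht⟩ : ∃ t, t = transv u φ := ⟨_, rfl⟩
    obtain ⟨t', ht'⟩ : ∃ t', t' = transv u' φ' := ⟨_, rfl⟩
    have hvB : v' = slotEl s' (t * t') := by rw [hvx, hxdef, rs, rs, slotEl_mul, ht, ht']
    have hpow : (t * t') ^ 2 ^ i = 1 := slotEl_injective (by omega) s'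
      (by rw [← slotEl_pow, ← hvB, hvpow, slotEl_one])
    have hv2 : v' * v' = w ^ (2 * (2 * l + 1)) := by rw [hv', ← pow_add, ← two_mul]
    by_cases hl : φ ⬝ᵥ u' = 0
    swap
    · by_cases hl' : φ' ⬝ᵥ u = 0
      swap
      · exact transv_pair_pow_ne hc hu hφ hφ' hl hl' i (ht ▸ ht' ▸ hpow)
      have hd : ((φ ⬝ᵥ u') • φ') ⬝ᵥ u = 0 := by rw [smul_dotProduct, hl', smul_zero]
      refine hroot s' u ((φ ⬝ᵥ u') • φ') hu hd (smul_ne_zero hl hφ'0) ?_
      have e : rs s' u ((φ ⬝ᵥ u') • φ') = (v' * v')⁻¹ := by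
        rw [rs, ← transv_pair_sq hc hφ' hφ hl', ← slotEl_mul, ← slotEl_mul, hvx, hxdef, rs, rs]
        have h1 : slotEl s' (transv u φ) * slotEl s' (transv u φ) = 1 := invol_of_sq hc (rs_sq hφ)
        have h2 : slotEl s' (transv u' φ') * slotEl s' (transv u' φ') = 1 := invol_of_sq hc (rs_sq hφ')
        rw [_root_.mul_inv_rev, _root_.mul_inv_rev, inv_eq_of_mul_eq_one_right h1, inv_eq_of_mul_eq_one_right h2]
      rw [e, inv_inv, hv2]
      calc z * (w ^ (2 * (2 * l + 1)))⁻¹ * z = (z * w ^ (2 * (2 * l + 1)) * z)⁻¹ := by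
            rw [_root_.mul_inv_rev, _root_.mul_inv_rev, inv_eq_of_mul_eq_one_right hzz, mul_assoc]
        _ = _ := by rw [hzw, inv_inv]
    have hsq : t * t' * (t * t') = transv u' ((φ' ⬝ᵥ u) • φ) := ht ▸ ht' ▸ transv_pair_sq hc hφ hφ' hl
    by_cases hl' : φ' ⬝ᵥ u = 0
    swap
    · refine hroot s' u' ((φ' ⬝ᵥ u) • φ) hu' (by rw [smul_dotProduct, hl, smul_zero]) (smul_ne_zero hl' hφ0) ?_
      rw [show rs s' u' ((φ' ⬝ᵥ u) • φ) = w ^ (2 * (2 * l + 1)) from by
        rw [← hv2, hvB, slotEl_mul, hsq]; rfl, hzw]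
    -- an involution with commuting factors
    have hv1 : v' * v' = 1 := by
      rw [hvB, slotEl_mul, hsq, hl', zero_smul, transv_zero, slotEl_one]
    have hi1 : i = 1 := by
      have := Nat.le_of_dvd two_pos (hvord ▸ orderOf_dvd_of_pow_eq_one (by rw [pow_two]; exact hv1))
      have h2 : 2 ^ i ≤ 2 ^ 1 := by simpa using this
      have := (Nat.pow_le_pow_iff_right (by norm_num : 1 < 2)).mp h2
      omega
    have hv'ne : v' ≠ 1 := fun h => by
      rw [h, orderOf_one, hi1] at hvord; norm_num at hvord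
    have hvinv : z * v' * z = v'⁻¹ := by rw [hv', hzw]
    by_cases hu'u : u' ∈ Submodule.span F ({u} : Set (Fin m → F))
    · obtain ⟨d, hd⟩ := Submodule.mem_span_singleton.mp hu'u
      have hd' : (d • φ') ⬝ᵥ u = 0 := by rw [smul_dotProduct, hl', smul_zero]
      have e : v' = rs s' u (φ + d • φ') := by
        rw [hvB, ht, ht', ← hd, transv_smul_left d hl', transv_mul hφ hd']; rfl
      refine hroot s' u (φ + d • φ') hu (by rw [add_dotProduct, hφ, hd', add_zero]) (fun h => ?_) (e ▸ hvinv)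
      rw [h, rs, transv_zero, slotEl_one] at e
      exact hv'ne e
    by_cases hφφ : φ ∈ Submodule.span F ({φ'} : Set (Fin m → F))
    · obtain ⟨d, hd⟩ := Submodule.mem_span_singleton.mp hφφ
      have hd0 : d ≠ 0 := fun h0 => hφ0 (by rw [← hd, h0, zero_smul])
      have hd' : φ' ⬝ᵥ (d • u) = 0 := by rw [dotProduct_smul, hl', smul_zero]
      have e : v' = rs s' (d • u + u') φ' := by
        rw [hvB, ht, ht', ← hd, rs, ← transv_smul_left d hl']
        congr 1
        refine gl_ext fun y => ?_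
        rw [Transvec.mul_mulVec, transv_mulVec hφ', transv_mulVec hd',
          transv_mulVec (by rw [dotProduct_add, hd', hφ', add_zero]), dotProduct_add, dotProduct_smul, hφ',
          smul_zero, add_zero, smul_add]
        abel
      refine hroot s' (d • u + u') φ' (fun h => hu'u ?_) (by rw [dotProduct_add, hd', hφ', add_zero]) hφ'0 (e ▸ hvinv)
      rw [eq_neg_of_add_eq_zero_right h, ← neg_smul]
      exact Submodule.smul_mem _ _ (Submodule.mem_span_singleton_self u)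
    · obtain ⟨e₀, he₀, he₁⟩ := exists_functional hφφ
      have hφb : φ ⬝ᵥ e₀ = 1 := by rw [dotProduct_comm]; exact he₁
      have hφ'b : φ' ⬝ᵥ e₀ = 0 := by rw [dotProduct_comm]; exact he₀ _ (Submodule.mem_span_singleton_self φ')
      -- the pure subspace is moved
      have hW : slotW s' u ≤ mv v' := slotW_le fun xs hxs => by
        have e : v'.val *ᵥ pv (Function.update xs s' e₀) =
            pv (Function.update xs s' e₀) + pv xs := by
          rw [hvB, slotEl_apply, Function.update_idem, Function.update_self, Transvec.mul_mulVec, ht, ht',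
            transv_mulVec hφ', hφ'b, zero_smul, add_zero, transv_mulVec hφ, hφb, one_smul, pv_update_add]
          congr 2
          rw [← hxs, Function.update_eq_self]
        exact mem_mv.mpr ⟨_, by rw [e, add_sub_cancel_left]⟩
      obtain ⟨S, hSdef⟩ : ∃ S, S = w ^ 2 := ⟨_, rfl⟩
      have hSodd : Odd (orderOf S) := by
        rw [hSdef, orderOf_pow' _ (by norm_num), hord, hi1, pow_one, Nat.gcd_mul_right_left,
          Nat.mul_div_cancel_left _ two_pos]
        exact ⟨l, rfl⟩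
      have hinv : x * S * x = S⁻¹ := by rw [hSdef, hw]; exact invol_conj_pow hxx hzz 2
      have hcomm : Commute v' S := by rw [hv', hSdef]; exact Commute.pow_pow_self w _ _
      have hfixW : ∀ p ∈ mv x, v'.val *ᵥ p = p := fun p hp => by
        rw [hxdef, mv_rs hφ hφ0] at hp
        have e1 : (rs s' u' φ').val *ᵥ p = p := (slotE s').symm.surjective.injective_comp_right (by
          simp only
          obtain ⟨q, hq⟩ := mem_slotW.mp hp
          rw [rs_mulVec hφ', ← hq, ptL_apply, sl_pt, hl', zero_smul, pt_zero_left, add_zero])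
        rw [hvx, Transvec.mul_mulVec, e1, hxdef, rs_fix hφ hp]
      have hzero : ∀ p ∈ mv x ⊓ mv S, p = 0 := fun p hp => by
        have hpW : p ∈ mv v' := hW (by have := hp.1; rwa [hxdef, mv_rs hφ hφ0] at this)
        obtain ⟨e, he⟩ := mem_mv.mp hpW
        have hpr : prC S p = 0 := prC_eq_zero hSodd hc hp.2
        have he' : p = v'.val *ᵥ (e - prC S e) - (e - prC S e) := by
          rw [mulVec_sub, ← prC_comm hcomm, ← sub_zero p, ← hpr]
          conv_lhs => rw [← he, map_sub]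
          abel
        obtain ⟨p₁, hp₁, q, hq, hpq⟩ := moved_eq_pair hSodd hc hxsq hinv (sub_prC_mem hSodd hc e)
        rw [he', hpq, mulVec_add, hfixW p₁ hp₁.1, ← Transvec.mul_mulVec v' S, hcomm.eq, Transvec.mul_mulVec,
          hfixW q hq.1, sub_self]
      have hS1 : S = 1 := gl_ext fun p => by
        obtain ⟨p₁, hp₁, q, hq, hpq⟩ := moved_eq_pair hSodd hc hxsq hinv (sub_mem_mv S p)
        rw [hzero p₁ hp₁, hzero q hq, mulVec_zero, add_zero, sub_eq_zero] at hpq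
        rw [hpq, Units.val_one, one_mulVec]
      have hP' := isPGroup_dihedral (v := w) hxx
        (by rw [hw]; have := invol_conj_pow hxx hzz 1; rwa [pow_one] at this) (i := 1)
        (by rw [pow_one, ← hSdef, hS1])
      have hQ' : Subgroup.closure ({x, w} : Set (GL (Idx (T + 2) m) F)) ≤ M :=
        (Subgroup.closure_le M).mpr (by rintro _ (rfl | rfl); exacts [hxM, hwM])
      refine hzTW ?_
      have hzmem : z ∈ Subgroup.closure ({x, w} : Set (GL (Idx (T + 2) m) F)) := by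
        rw [show z = x * w by rw [hw, ← mul_assoc, hxx, one_mul]]
        exact mul_mem (Subgroup.subset_closure (by simp)) (Subgroup.subset_closure (by simp))
      exact H.tw_of_pGroup hQ' hP' (s := s') hu hφ hφ0
        (by rw [← hxdef]; exact Subgroup.subset_closure (by simp)) z hzmem
  have hv1 : v' * v' = 1 := by
    have h2 : rs s' u' φ' * rs s' u' φ' = 1 := invol_of_sq hc (rs_sq hφ')
    rw [hvx, mul_assoc, ← mul_assoc (rs s' u' φ'), hxdef, rs_comm hs', mul_assoc, h2, mul_one, ← hxdef, hxx]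
  have hi1 : i = 1 := by
    have := Nat.le_of_dvd two_pos (hvord ▸ orderOf_dvd_of_pow_eq_one (by rw [pow_two]; exact hv1))
    have h2 : 2 ^ i ≤ 2 ^ 1 := by simpa using this
    have := (Nat.pow_le_pow_iff_right (by norm_num : 1 < 2)).mp h2
    omega
  refine ⟨s', u', φ', l, hs', hu', hφ', hφ'0, by rw [hord, hi1, pow_one], hv' ▸ hvx, ?_⟩
  rw [show rs s' u' φ' = x * v' from hx'.symm, hv']
  refine (mv_mul_le _ _).trans (sup_le le_sup_left ((mv_inf_mv_pow w _).trans ?_))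
  rw [hw]
  exact mv_mul_le _ _

end CfsgLib.Classical22.TWMax
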