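/-
Characteristic two: a root and a conjugate root outside the group generate a dihedral group of twice odd order,
and their composite is injective on the pure subspace.
-/
import Cfsg.Agent.Lib.Classical22.TensorWreathMax.NoEven

set_option autoImplicit false
set_option linter.unusedSectionVars false
set_option linter.unusedSimpArgs false
set_option maxHeartbeats 800000

namespace CfsgLib.Classical22.TWMax

open Matrix Kronecker CfsgLib.Transvec CfsgLib.Classical22.TensorMax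
open CfsgLib.Classical22.TensorMax.SpO (kr kr_apply isKron_kr)
open scoped MatrixGroups

variable {F : Type*} [Field F] [Fintype F] {T m : ℕ} {M : Subgroup (GL (Idx (T + 2) m) F)}

/-- A root of one slot acts on the first factor in the coordinates of another slot. -/
lemma rs_other {s s' : Fin (T + 2)} (h : s' ≠ s) (u' φ' : Fin m → F) :
    ∃ A : GL (Fin (m ^ (T + 1))) F, slotG s (rs s' u' φ') = kr A 1 := by
  obtain ⟨A, π, -, -, he⟩ := (slotEl_data s' (transv u' φ')).slot (s := s) rfl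
  rw [Function.update_of_ne h.symm] at he
  exact ⟨_, he⟩

/-- No pair has even order. -/
theorem Hyp.no_even (H : Hyp M) (hc : (2 : F) = 0) {g : GL (Idx (T + 2) m) F} (hg : g ∈ M) (hne : ¬ IsTW g)
    {s r : Fin (T + 2)} {u φ v ψ : Fin m → F} (hu : u ≠ 0) (hφ : φ ⬝ᵥ u = 0) (hφ0 : φ ≠ 0)
    (hv : v ≠ 0) (hψ : ψ ⬝ᵥ v = 0) (hψ0 : ψ ≠ 0) :
    ¬ Even (orderOf (rs s u φ * (g * rs r v ψ * g⁻¹))) := by
  classical
  intro heven
  have hm := H.ctx.three
  obtain ⟨s', u', φ', l, hs', hu', hφ', hφ'0, hord, hv', -⟩ := H.partner hc hg hne hu hφ hφ0 hv hψ hψ0 heven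
  obtain ⟨x, hxdef⟩ : ∃ x, x = rs s u φ := ⟨_, rfl⟩
  obtain ⟨x', hx'def⟩ : ∃ x', x' = rs s' u' φ' := ⟨_, rfl⟩
  obtain ⟨z, hzdef⟩ : ∃ z, z = g * rs r v ψ * g⁻¹ := ⟨_, rfl⟩
  rw [← hxdef, ← hzdef] at hord hv'
  rw [← hx'def] at hv'
  obtain ⟨w, hw⟩ : ∃ w, w = x * z := ⟨_, rfl⟩
  rw [← hw] at hord hv'
  obtain ⟨h, hh⟩ : ∃ h, h = x * x' := ⟨_, rfl⟩
  rw [← hh] at hv'
  obtain ⟨S, hSdef⟩ : ∃ S, S = w ^ 2 := ⟨_, rfl⟩
  have hxsq : (x.val - 1) * (x.val - 1) = 0 := hxdef ▸ rs_sq hφ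
  have hxx := invol_of_sq hc hxsq
  have hzz : z * z = 1 := invol_of_sq hc (hzdef ▸ conj_sq g _ (rs_sq hψ))
  have hxM : x ∈ M := hxdef ▸ H.rs_mem s hφ
  have hzM : z ∈ M := hzdef ▸ mul_mem (mul_mem hg (H.rs_mem r hψ)) (inv_mem hg)
  have hwM : w ∈ M := hw ▸ mul_mem hxM hzM
  have hwTW : ¬ IsTW w := fun hwt => by
    refine hne (H.tw_of_conj (s := r) hg hv hψ hψ0 ?_)
    rw [← hzdef, show z = x * w by rw [hw, ← mul_assoc, hxx, one_mul]]
    exact IsTW.mul (by rw [hxdef]; exact ⟨_, _, slotEl_data s (transv u φ)⟩) hwt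
  have hSodd : Odd (orderOf S) := by
    rw [hSdef, orderOf_pow' _ (by norm_num), hord, Nat.gcd_mul_right_left, Nat.mul_div_cancel_left _ two_pos]
    exact ⟨l, rfl⟩
  have hinv : x * S * x = S⁻¹ := by rw [hSdef, hw]; exact invol_conj_pow hxx hzz 2
  have hxx' : x * x' = x' * x := by rw [hxdef, hx'def]; exact rs_comm hs'.symm u φ u' φ'
  have hhS : Commute h S := by rw [← hv', hSdef]; exact Commute.pow_pow_self w _ _
  have hhw : Commute h w := by rw [← hv']; exact Commute.pow_self w _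
  have hhx : Commute h x := by
    rw [hh]
    change x * x' * x = x * (x * x')
    rw [mul_assoc, ← hxx']
  obtain ⟨W, hW⟩ : ∃ W : Submodule F (Idx (T + 2) m → F), W = slotW s u := ⟨_, rfl⟩
  have hWx : mv x = W := by rw [hW, hxdef, mv_rs hφ hφ0]
  obtain ⟨Wv, hWv⟩ : ∃ Wv : Submodule F (Idx (T + 2) m → F), Wv = W ⊓ mv S := ⟨_, rfl⟩
  have hWmem : ∀ p ∈ Wv, p ∈ mv x ⊓ mv S := fun p hp => by rw [hWx, ← hWv]; exact hp
  have hxfix : ∀ p ∈ W, x.val *ᵥ p = p := fun p hp => fix_mv_of_sq hxsq (hWx.symm ▸ hp)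
  have hhW : ∀ p ∈ W, h.val *ᵥ p ∈ W := fun p hp => hWx ▸ comm_moved hhx (hWx.symm ▸ hp)
  have hx'W : ∀ p ∈ W, x'.val *ᵥ p = h.val *ᵥ p := fun p hp => by
    rw [hh, hxx', Transvec.mul_mulVec, hxfix p hp]
  have hWvmem : ∀ q, q ∈ Wv ↔ q ∈ W ∧ q ∈ mv S := fun q => by rw [hWv]; rfl
  -- the map `h - 1` on `Wv`
  obtain ⟨N, hN⟩ : ∃ N : Wv →ₗ[F] (Idx (T + 2) m → F), ∀ p : Wv, N p = h.val *ᵥ p.1 - p.1 :=
    ⟨(Matrix.mulVecLin h.val - LinearMap.id).comp Wv.subtype, fun p => rfl⟩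
  have hNmem : ∀ p : Wv, N p ∈ Wv := fun p => by
    rw [hN, hWvmem]
    have hp := (hWvmem _).mp p.2
    exact ⟨sub_mem (hhW _ hp.1) hp.1, sub_mem (comm_moved hhS hp.2) hp.2⟩
  obtain ⟨A, hA⟩ := rs_other (m := m) hs' u' φ'
  have hcrit : ∀ p : Wv, N p = 0 → ∃ q : Wv, N q = p.1 := by
    intro p hp
    have hp' := ((hWvmem _).mp p.2)
    rw [hN, sub_eq_zero, ← hx'W _ hp'.1] at hp
    obtain ⟨rr, hrr⟩ := mem_slotW.mp (hW ▸ hp'.1)
    obtain ⟨j, hj⟩ := Function.ne_iff.mp hφ0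
    obtain ⟨e, he⟩ : ∃ e : Idx (T + 2) m → F, e ∘ (slotE s).symm = pt rr (Pi.single j (φ j)⁻¹) :=
      ⟨pt rr (Pi.single j (φ j)⁻¹) ∘ slotE s,
        by rw [Function.comp_assoc, Equiv.self_comp_symm, Function.comp_id]⟩
    have hinj := (slotE (m := m) s).symm.surjective.injective_comp_right (γ := F)
    have hx' : ∀ k : Idx (T + 2) m → F, (x'.val *ᵥ k) ∘ (slotE s).symm = (kr A 1).val *ᵥ (k ∘ (slotE s).symm) :=
      fun k => by rw [← glReindex_mulVec, ← slotG, hx'def, hA]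
    have hAr : A.val *ᵥ rr = rr := by
      have e1 := hx' p.1
      rw [hp, ← hrr, ptL_apply, kr_apply, Units.val_one, one_mulVec] at e1
      exact (pt_injective hu e1).symm
    have hxe : x'.val *ᵥ e = e := hinj (by simp only; rw [hx', he, kr_apply, hAr, Units.val_one, one_mulVec])
    have he' : h.val *ᵥ e - e = p.1 := by
      rw [hh, Transvec.mul_mulVec, hxe]
      refine hinj ?_
      simp only [Pi.sub_comp]
      rw [hxdef, rs_mulVec hφ, add_sub_cancel_left, he, sl_pt, dotProduct_single, mul_inv_cancel₀ hj, one_smul,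
        ← hrr, ptL_apply]
    have hpr : prC S p.1 = 0 := prC_eq_zero hSodd hc hp'.2
    have he'' : p.1 = h.val *ᵥ (e - prC S e) - (e - prC S e) := by
      rw [mulVec_sub, ← prC_comm hhS, ← sub_zero p.1, ← hpr]
      conv_lhs => rw [← he', map_sub]
      abel
    obtain ⟨p₁, hp₁, q, hq, hpq⟩ := moved_eq_pair hSodd hc hxsq hinv (sub_prC_mem hSodd hc e)
    have hp₁W : p₁ ∈ Wv := by rw [hWv, ← hWx]; exact hp₁
    have hqW : q ∈ Wv := by rw [hWv, ← hWx]; exact hq
    have e3 : p.1 - N ⟨p₁, hp₁W⟩ = S.val *ᵥ N ⟨q, hqW⟩ := by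
      rw [hN, hN, he'', hpq, mulVec_add, ← Transvec.mul_mulVec h S, hhS.eq, Transvec.mul_mulVec, mulVec_sub]
      simp only
      abel
    exact ⟨⟨p₁, hp₁W⟩, (sub_eq_zero.mp (pair_inf hSodd hc hxsq hinv (hWmem _ (sub_mem p.2 (hNmem _)))
      (hWmem _ (hNmem _)) e3)).symm⟩
  have ho : 0 < m ^ T := Nat.pow_pos (by omega)
  have hdimW : Module.finrank F W = m * m ^ T := by rw [hW, finrank_slotW _ hu, pow_succ']
  have hNle : LinearMap.range N ≤ W ⊓ mv x' := by
    rintro _ ⟨p, rfl⟩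
    have hp := hNmem p
    rw [hWvmem] at hp
    refine ⟨hp.1, ?_⟩
    rw [hN, ← hx'W p.1 ((hWvmem _).mp p.2).1]
    exact sub_mem_mv _ _
  have hrkN : Module.finrank F (LinearMap.range N) ≤ m ^ T :=
    (Submodule.finrank_mono hNle).trans (by rw [hW, hx'def, mv_rs hφ' hφ'0]; exact finrank_inf_slotW hs' hu hu')
  have hdim : Module.finrank F Wv ≤ 2 * Module.finrank F (LinearMap.range N) := by
    have h1 : (LinearMap.ker N).map Wv.subtype ≤ LinearMap.range N := by
      rintro _ ⟨p, hp, rfl⟩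
      obtain ⟨q, hq⟩ := hcrit p hp
      exact ⟨q, hq⟩
    have h2 := Submodule.finrank_mono h1
    rw [Submodule.finrank_map_subtype_eq] at h2
    have h3 := LinearMap.finrank_range_add_finrank_ker N
    omega
  -- a fixed vector moved by the root
  obtain ⟨f, hSf, hxf⟩ : ∃ f, S.val *ᵥ f = f ∧ x.val *ᵥ f ≠ f := by
    by_contra hall
    push Not at hall
    have hle : W ≤ Wv := fun p hp => by
      rw [hWv]
      refine ⟨hp, ?_⟩
      obtain ⟨e, he⟩ := mem_mv.mp (hWx.symm ▸ hp)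
      have : prC S p = 0 := by
        rw [← he, map_sub, prC_x hSodd hc hxsq hinv, hall _ (fix_prC e), sub_self]
      have h2 := sub_prC_mem (s := S) hSodd hc p
      rwa [this, sub_zero] at h2
    have := Submodule.finrank_mono hle
    have : 3 * m ^ T ≤ m * m ^ T := Nat.mul_le_mul_right _ hm
    omega
  -- a second even pair
  have hyS : w * x * w⁻¹ = S * x := by
    have e1 : x * w * x = w⁻¹ := by have := invol_conj_pow hxx hzz 1; rwa [pow_one, ← hw] at this
    rw [← e1, hSdef, pow_two]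
    simp only [mul_assoc]
    rw [← mul_assoc x x, hxx, one_mul]
  obtain ⟨ψ', hψ'u, hψ'0, heven'⟩ := H.exists_even hc hu hφ hφ0 (y := w * rs s u φ * w⁻¹) hSodd (hxdef ▸ hinv)
    (fun a ha => by
      rw [← hxdef, hyS, Transvec.mul_mulVec, fix_x_of_fix hSodd hc hxsq hinv ha]) hSf (hxdef ▸ hxf)
  obtain ⟨r', u₃, φ₃, l', hr', hu₃, hφ₃, hφ₃0, -, -, hle⟩ :=
    H.partner hc hwM hwTW hu hψ'u hψ'0 hu hφ hφ0 heven'
  rw [mv_rs hψ'u hψ'0, mv_rs hφ₃ hφ₃0, mv_conj, mv_rs hφ hφ0, ← hW] at hle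
  obtain ⟨P, hP⟩ : ∃ P : Submodule F (Idx (T + 2) m → F), P = slotW r' u₃ := ⟨_, rfl⟩
  rw [← hP] at hle
  obtain ⟨Sg, hSg⟩ : ∃ Sg : Submodule F (Idx (T + 2) m → F), Sg = W ⊔ gim w Wv := ⟨_, rfl⟩
  have hwa : ∀ a, S.val *ᵥ a = a → w.val *ᵥ a = h.val *ᵥ a := fun a ha => by
    have e : ∀ k : ℕ, (S ^ k).val *ᵥ a = a := fun k => by
      induction k with
      | zero => simp
      | succ k ih => rw [pow_succ, Transvec.mul_mulVec, ha, ih]
    rw [← hv', pow_succ', pow_mul, ← hSdef, Transvec.mul_mulVec, e]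
  have hgW : gim w W ≤ Sg := by
    intro q hq
    obtain ⟨p, hp, rfl⟩ := mem_gim.mp hq
    obtain ⟨e, he⟩ := mem_mv.mp (hWx.symm ▸ hp)
    have hpC : prC S p ∈ W := by
      rw [← he, map_sub, prC_x hSodd hc hxsq hinv, ← hWx]; exact sub_mem_mv _ _
    rw [hSg, show w.val *ᵥ p = w.val *ᵥ prC S p + w.val *ᵥ (p - prC S p) by rw [← mulVec_add, add_sub_cancel]]
    refine Submodule.add_mem_sup ?_ (mem_gim.mpr ⟨_, ?_, rfl⟩)
    · rw [hwa _ (fix_prC p)]; exact hhW _ hpC
    · rw [hWv]; exact ⟨sub_mem hp hpC, sub_prC_mem hSodd hc p⟩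
  have hPle : W ⊔ P ≤ Sg := sup_le (hSg ▸ le_sup_left) (hle.trans (sup_le (hSg ▸ le_sup_left) hgW))
  -- dimensions
  have d1 := Submodule.finrank_sup_add_finrank_inf_eq W P
  have d2 : Module.finrank F (W ⊓ P : Submodule F (Idx (T + 2) m → F)) ≤ m ^ T := by
    rw [hW, hP]; exact finrank_inf_slotW hr' hu hu₃
  have d3 : Module.finrank F P = m * m ^ T := by rw [hP, finrank_slotW _ hu₃, pow_succ']
  have d4 := Submodule.finrank_mono hPle
  have d5 := Submodule.finrank_sup_add_finrank_inf_eq W (gim w Wv)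
  rw [← hSg, finrank_gim] at d5
  have hm3 : m * m ^ T ≤ 3 * m ^ T := by omega
  have hmm : m = 3 := le_antisymm (Nat.le_of_mul_le_mul_right hm3 ho) hm
  have hm3' : m * m ^ T = 3 * m ^ T := by rw [hmm]
  have hrk : Module.finrank F (LinearMap.range N) = m ^ T := by omega
  have hinf : W ⊓ gim w Wv = ⊥ := Submodule.finrank_eq_zero.mp (by omega)
  have hSgP : W ⊔ P = Sg := Submodule.eq_of_le_of_finrank_le hPle (by omega)
  -- the root of the other slot acts on the sum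
  have hhWv : ∀ p ∈ Wv, h.val *ᵥ p ∈ Wv := fun p hp => by
    have := add_mem (hNmem ⟨p, hp⟩) hp
    rwa [hN, sub_add_cancel] at this
  have hx'Sg : ∀ q ∈ Sg, x'.val *ᵥ q ∈ Sg := by
    intro q hq
    rw [hSg] at hq ⊢
    obtain ⟨a, ha, b, hb, rfl⟩ := Submodule.mem_sup.mp hq
    obtain ⟨p, hp, rfl⟩ := mem_gim.mp hb
    rw [mulVec_add]
    refine add_mem (Submodule.mem_sup_left (by rw [hx'W a ha]; exact hhW a ha)) ?_
    rw [show x' = x * h by rw [hh, ← mul_assoc, hxx, one_mul], Transvec.mul_mulVec, ← Transvec.mul_mulVec h w,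
      hhw.eq, Transvec.mul_mulVec, ← sub_add_cancel (x.val *ᵥ (w.val *ᵥ (h.val *ᵥ p))) (w.val *ᵥ (h.val *ᵥ p))]
    exact Submodule.add_mem_sup (hWx ▸ sub_mem_mv _ _) (mem_gim.mpr ⟨_, hhWv p hp, rfl⟩)
  obtain ⟨Z, hZdim, hZ⟩ : ∃ Z : Submodule F (Idx (T + 2) m → F),
      Module.finrank F (W ⊔ Z : Submodule F (Idx (T + 2) m → F)) < m * m ^ T + m ^ T ∧
      ∀ b ∈ P, x'.val *ᵥ b - b ∈ Z := by
    by_cases hrs : r' = s'
    · subst hrs
      refine ⟨⊥, by rw [sup_bot_eq, hdimW]; omega, fun b hb => ?_⟩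
      by_cases h3 : φ' ⬝ᵥ u₃ = 0
      · rw [Submodule.mem_bot, sub_eq_zero]
        refine (slotE r').symm.surjective.injective_comp_right ?_
        simp only
        obtain ⟨q, hq⟩ := mem_slotW.mp (hP ▸ hb)
        rw [hx'def, rs_mulVec hφ', ← hq, ptL_apply, sl_pt, h3, zero_smul, pt_zero_left, add_zero]
      · exfalso
        refine h3 ?_
        have hle' : slotW r' u' ≤ slotW s u ⊔ slotW r' u₃ := by
          rw [← hW, ← hP, hSgP]
          refine slotW_le fun xs hxs => ?_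
          obtain ⟨c, hc'⟩ : ∃ c, c = (φ' ⬝ᵥ u₃)⁻¹ := ⟨_, rfl⟩
          have hPv : pv (Function.update xs r' (c • u₃)) ∈ Sg := by
            refine hPle (Submodule.mem_sup_right ?_)
            rw [hP, mem_slotW, slot_vec, Function.update_self, pt_smul_right, ← pt_smul_left]
            exact pt_mem_pureW _ _
          have e : x'.val *ᵥ pv (Function.update xs r' (c • u₃)) =
              pv (Function.update xs r' (c • u₃)) + pv xs := by
            rw [hx'def, rs, slotEl_apply, Function.update_idem, Function.update_self, transv_mulVec hφ',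
              dotProduct_smul, smul_eq_mul, hc', inv_mul_cancel₀ h3, one_smul, pv_update_add]
            congr 2
            rw [← hxs, Function.update_eq_self]
          have := sub_mem (hx'Sg _ hPv) hPv
          rwa [e, add_sub_cancel_left] at this
        obtain ⟨d, hd⟩ := Submodule.mem_span_singleton.mp (mem_span_of_slotW_le hr'.symm (by omega) hle')
        rw [← hd, dotProduct_smul, smul_eq_mul, mul_eq_zero] at hφ'
        exact hφ'.resolve_left fun h0 => hu' (by rw [← hd, h0, zero_smul])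
    · refine ⟨mv x' ⊓ P, ?_, fun b hb => ⟨sub_mem_mv _ _, sub_mem ?_ hb⟩⟩
      · have e1 := Submodule.finrank_sup_add_finrank_inf_eq W (mv x' ⊓ P)
        have e2 : Module.finrank F (mv x' ⊓ P : Submodule F (Idx (T + 2) m → F)) ≤ m ^ T := by
          rw [hx'def, mv_rs hφ' hφ'0, hP]; exact finrank_inf_slotW hrs hu' hu₃
        have e3 : 0 < Module.finrank F (W ⊓ (mv x' ⊓ P) : Submodule F (Idx (T + 2) m → F)) := by
          obtain ⟨xs, hxs⟩ : ∃ xs : Fin (T + 2) → Fin m → F,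
              xs = Function.update (Function.update (fun _ => u₃) s u) s' u' := ⟨_, rfl⟩
          have hne0 : ∀ k, xs k ≠ 0 := fun k => by
            rw [hxs]
            by_cases h1 : k = s'
            · subst h1; simpa using hu'
            · by_cases h2 : k = s
              · subst h2; simpa [h1] using hu
              · simpa [h1, h2] using hu₃
          have hmem : pv xs ∈ W ⊓ (mv x' ⊓ P) := by
            refine ⟨?_, ?_, ?_⟩
            · rw [hW]
              have := pv_mem_slotW s xs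
              rwa [show xs s = u by simp [hxs, hs'.symm]] at this
            · rw [hx'def, mv_rs hφ' hφ'0]
              have := pv_mem_slotW s' xs
              rwa [show xs s' = u' by simp [hxs]] at this
            · rw [hP]
              have := pv_mem_slotW r' xs
              rwa [show xs r' = u₃ by simp [hxs, hrs, hr']] at this
          refine Nat.pos_of_ne_zero fun h0 => pv_ne_zero hne0 ?_
          rw [Submodule.finrank_eq_zero] at h0
          exact (Submodule.mem_bot F).mp (h0 ▸ hmem)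
        omega
      · rw [hx'def, hP] at *
        have := (slotEl_data s' (transv u' φ')).gim_slotW r' hu₃
        rw [Function.update_of_ne hrs, Units.val_one, one_mulVec] at this
        rw [Equiv.Perm.one_apply] at this
        exact this ▸ mem_gim.mpr ⟨b, hb, rfl⟩
  have hfinal : W ⊔ gim w (LinearMap.range N) ≤ W ⊔ Z := by
    refine sup_le le_sup_left fun q hq => ?_
    obtain ⟨_, ⟨p, rfl⟩, rfl⟩ := mem_gim.mp hq
    rw [hN, mulVec_sub, ← Transvec.mul_mulVec w h, ← hhw.eq, Transvec.mul_mulVec]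
    obtain ⟨a, ha, b, hb, hab⟩ := Submodule.mem_sup.mp
      (show w.val *ᵥ p.1 ∈ W ⊔ P by rw [hSgP, hSg]; exact Submodule.mem_sup_right (mem_gim.mpr ⟨_, p.2, rfl⟩))
    rw [← hab, mulVec_add, show h.val *ᵥ a + h.val *ᵥ b - (a + b) =
      (h.val *ᵥ a - a + (x.val *ᵥ (x'.val *ᵥ b) - x'.val *ᵥ b)) + (x'.val *ᵥ b - b) by
        rw [show h.val *ᵥ b = x.val *ᵥ (x'.val *ᵥ b) by rw [hh, Transvec.mul_mulVec]]
        abel]
    exact Submodule.add_mem_sup (add_mem (sub_mem (hhW a ha) ha) (hWx ▸ sub_mem_mv _ _)) (hZ b hb)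
  have d6 := Submodule.finrank_sup_add_finrank_inf_eq W (gim w (LinearMap.range N))
  have hsub : W ⊓ gim w (LinearMap.range N) ≤ W ⊓ gim w Wv := inf_le_inf_left _ (Submodule.map_mono (by
    rintro _ ⟨p, rfl⟩; exact hNmem p))
  rw [hinf] at hsub
  rw [finrank_gim, le_bot_iff.mp hsub, finrank_bot] at d6
  have d7 := Submodule.finrank_mono hfinal
  omega

/-- The composite of a root and a conjugate root is injective on the pure subspace. -/
theorem Hyp.composite_inj (H : Hyp M) (hc : (2 : F) = 0) {g : GL (Idx (T + 2) m) F} (hg : g ∈ M) (hne : ¬ IsTW g)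
    {s r : Fin (T + 2)} {u φ v ψ : Fin m → F} (hu : u ≠ 0) (hφ : φ ⬝ᵥ u = 0) (hφ0 : φ ≠ 0)
    (hv : v ≠ 0) (hψ : ψ ⬝ᵥ v = 0) (hψ0 : ψ ≠ 0) {p : Idx (T + 2) m → F} (hp : p ∈ slotW s u)
    (hxz : (rs s u φ).val *ᵥ ((g * rs r v ψ * g⁻¹).val *ᵥ p - p) = (g * rs r v ψ * g⁻¹).val *ᵥ p - p) :
    p = 0 := by
  have hodd := Nat.not_even_iff_odd.mp (H.no_even hc hg hne (s := s) (r := r) hu hφ hφ0 hv hψ hψ0)
  obtain ⟨x, hxdef⟩ : ∃ x, x = rs s u φ := ⟨_, rfl⟩
  obtain ⟨z, hzdef⟩ : ∃ z, z = g * rs r v ψ * g⁻¹ := ⟨_, rfl⟩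
  obtain ⟨w, hw⟩ : ∃ w, w = x * z := ⟨_, rfl⟩
  rw [← hzdef, ← hxdef] at hxz hodd
  rw [← hw] at hodd
  have hxsq : (x.val - 1) * (x.val - 1) = 0 := hxdef ▸ rs_sq hφ
  have hzsq : (z.val - 1) * (z.val - 1) = 0 := hzdef ▸ conj_sq g _ (rs_sq hψ)
  have hxp : x.val *ᵥ p = p := hxdef ▸ rs_fix hφ hp
  obtain ⟨d, hd⟩ : ∃ d, d = z.val *ᵥ p - p := ⟨_, rfl⟩
  rw [← hd] at hxz
  have hzd : z.val *ᵥ d = d := fix_mv_of_sq hzsq (hd ▸ sub_mem_mv _ _)
  have hwp : w.val *ᵥ p = p + d := by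
    rw [hw, Transvec.mul_mulVec, show z.val *ᵥ p = p + d by rw [hd]; abel, mulVec_add, hxp, hxz]
  have hwd : w.val *ᵥ d = d := by rw [hw, Transvec.mul_mulVec, hzd, hxz]
  have hpow : ∀ n : ℕ, (w ^ n).val *ᵥ p = p + (n : F) • d := fun n => by
    induction n with
    | zero => simp
    | succ n ih =>
      rw [pow_succ', Transvec.mul_mulVec, ih, mulVec_add, mulVec_smul, hwp, hwd, Nat.cast_succ, add_smul, one_smul]
      abel
  have hd0 : d = 0 := by
    have := hpow (orderOf w)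
    rw [pow_orderOf_eq_one, Units.val_one, one_mulVec, natCast_odd hc hodd, one_smul] at this
    simpa using this.symm
  rw [hd0, add_zero] at hwp
  by_contra hp0
  have hinv : x * w * x = w⁻¹ := by
    have := invol_conj_pow (invol_of_sq hc hxsq) (invol_of_sq hc hzsq) 1
    rwa [pow_one, ← hw] at this
  obtain ⟨e, he⟩ : p ∈ mv x := by rw [hxdef, mv_rs hφ hφ0]; exact hp
  have hxf : x.val *ᵥ prC w e ≠ prC w e := fun h0 => hp0 (by
    rw [← prC_fixed hodd hc hwp, ← show x.val *ᵥ e - e = p from he, map_sub, prC_x hodd hc hxsq hinv, h0, sub_self])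
  obtain ⟨ψ', hψ'u, hψ'0, heven⟩ := H.exists_even hc hu hφ hφ0 (y := z) hodd (hxdef ▸ hinv) (fun a ha => by
    rw [← hxdef]
    refine Transvec.mulVec_injective x ?_
    simp only
    rw [← Transvec.mul_mulVec, ← Transvec.mul_mulVec x x, invol_of_sq hc hxsq, Units.val_one, one_mulVec, ← hw,
      ha]) (fix_prC e) (hxdef ▸ hxf)
  exact H.no_even hc hg hne hu hψ'u hψ'0 hv hψ hψ0 (hzdef ▸ heven)

end CfsgLib.Classical22.TWMax
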