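/-
Characteristic two: centralisers of slot-wise involutions lie in the tensor wreath group.
-/
import Cfsg.Agent.Lib.Classical22.TensorWreathMax.OddPairs

set_option autoImplicit false
set_option linter.unusedSectionVars false
set_option linter.unusedSimpArgs false

namespace CfsgLib.Classical22.TWMax

open Matrix Kronecker CfsgLib.Transvec CfsgLib.Classical22.TensorMax
open CfsgLib.Classical22.TensorMax.SpO (kr kr_apply isKron_kr)
open scoped MatrixGroups

variable {F : Type*} [Field F] {T m : ℕ}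

/-- A fixed vector and a fixed functional which pair to one. -/
def HasFix (B : GL (Fin m) F) : Prop :=
  ∃ n ν : Fin m → F, B.val *ᵥ n = n ∧ ν ᵥ* B.val = ν ∧ ν ⬝ᵥ n = 1

/-- Pure rows transform through the data. -/
lemma TWData.vecMul_pv {t : ℕ} {g : GL (Idx t m) F} {σ : Equiv.Perm (Fin t)} {gs : Fin t → GL (Fin m) F}
    (hg : TWData g σ gs) (ys : Fin t → Fin m → F) :
    pv ys ᵥ* g.val = pv fun k => ys (σ.symm k) ᵥ* (gs (σ.symm k)).val := by
  funext x
  have e : (pv ys ᵥ* g.val) x = pv ys ⬝ᵥ (g.val *ᵥ Pi.single x 1) := by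
    rw [dotProduct_mulVec, dotProduct_single, mul_one]
  rw [e, single_eq_pv, hg, pv_dot]
  simp only [pv]
  refine (Fintype.prod_equiv σ _ _ fun k => ?_)
  rw [dotProduct_mulVec, dotProduct_single, mul_one, Equiv.symm_apply_apply]

variable [Fintype F] {M : Subgroup (GL (Idx (T + 2) m) F)}

/-- Elements of `M` commuting with a slot-wise involution lie in the tensor wreath group. -/
theorem Hyp.tw_of_commute (H : Hyp M) (hc : (2 : F) = 0) {h : GL (Idx (T + 2) m) F}
    {Bs : Fin (T + 2) → GL (Fin m) F} (hd : TWData h 1 Bs) {s : Fin (T + 2)} (hs1 : Bs s ≠ 1)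
    (hs2 : Bs s * Bs s = 1) (hfix : ∀ k, k ≠ s → HasFix (Bs k)) {c : GL (Idx (T + 2) m) F} (hcM : c ∈ M)
    (hcomm : Commute c h) : IsTW c := by
  classical
  by_contra hne
  have hm := H.ctx.three
  obtain ⟨N, hN⟩ : ∃ N : (Fin m → F) →ₗ[F] (Fin m → F), ∀ y, N y = (Bs s).val *ᵥ y - y :=
    ⟨Matrix.mulVecLin (Bs s).val - LinearMap.id, fun y => rfl⟩
  have hBB : ∀ y, (Bs s).val *ᵥ ((Bs s).val *ᵥ y) = y := fun y => by
    rw [← Transvec.mul_mulVec, hs2, Units.val_one, one_mulVec]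
  have hN2 : ∀ y, N (N y) = 0 := fun y => by
    rw [hN, hN, mulVec_sub, hBB, show y - (Bs s).val *ᵥ y - ((Bs s).val *ᵥ y - y) =
      (2 : F) • y - (2 : F) • ((Bs s).val *ᵥ y) by rw [two_smul, two_smul]; abel, hc, zero_smul, zero_smul, sub_zero]
  obtain ⟨y₀, hy₀⟩ : ∃ y, N y ≠ 0 := by
    by_contra hall
    push Not at hall
    exact hs1 (gl_ext fun y => by
      rw [Units.val_one, one_mulVec]; exact sub_eq_zero.mp ((hN y).symm.trans (hall y)))
  obtain ⟨u, hu⟩ : ∃ u, u = N y₀ := ⟨_, rfl⟩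
  have hu0 : u ≠ 0 := hu ▸ hy₀
  obtain ⟨φ, hφN, hφ0⟩ : ∃ φ : Fin m → F, (∀ y, φ ⬝ᵥ N y = 0) ∧ φ ≠ 0 := by
    have h1 : LinearMap.range N ≤ LinearMap.ker N := by
      rintro _ ⟨y, rfl⟩; exact LinearMap.mem_ker.mpr (hN2 y)
    have h2 := Submodule.finrank_mono h1
    have h3 := LinearMap.finrank_range_add_finrank_ker N
    rw [Module.finrank_fin_fun] at h3
    obtain ⟨y, hy⟩ : ∃ y, y ∉ LinearMap.range N := by
      by_contra h
      push Not at h
      rw [show LinearMap.range N = ⊤ from eq_top_iff.mpr fun y _ => h y, finrank_top, Module.finrank_fin_fun] at h2 h3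
      omega
    obtain ⟨φ, hφ, hφy⟩ := exists_functional hy
    exact ⟨φ, fun y => hφ _ ⟨y, rfl⟩, fun h0 => by simp [h0] at hφy⟩
  have hφu : φ ⬝ᵥ u = 0 := hu ▸ hφN y₀
  have hBu : (Bs s).val *ᵥ u = u := sub_eq_zero.mp ((hN u).symm.trans (hu ▸ hN2 y₀))
  have hφB : φ ᵥ* (Bs s).val = φ := funext fun i => by
    have e := hφN (Pi.single i 1)
    rw [hN, dotProduct_sub, sub_eq_zero, dotProduct_mulVec, dotProduct_single, dotProduct_single, mul_one,
      mul_one] at e
    exact e
  -- the root commutes with the involution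
  obtain ⟨x, hx⟩ : ∃ x, x = rs s u φ := ⟨_, rfl⟩
  have hxh : Commute x h := by
    have e := hd.conj_slotEl s (transv u φ)
    rw [Equiv.Perm.one_apply, conj_transv _ hφu, hBu] at e
    have hφB' : φ ᵥ* (Bs s)⁻¹.val = φ := by
      conv_lhs => rw [← hφB, vecMul_vecMul, Units.mul_inv, vecMul_one]
    rw [hφB'] at e
    rw [hx]
    exact (mul_inv_eq_iff_eq_mul.mp e).symm
  obtain ⟨z, hz⟩ : ∃ z, z = c * x * c⁻¹ := ⟨_, rfl⟩
  have hzh : Commute z h := hz ▸ (hcomm.mul_left hxh).mul_left hcomm.inv_left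
  obtain ⟨K, hK⟩ : ∃ K : Submodule F (Idx (T + 2) m → F), ∀ q, q ∈ K ↔ q ∈ slotW s u ∧ q ∈ mv h :=
    ⟨slotW s u ⊓ mv h, fun q => Iff.rfl⟩
  obtain ⟨τ, hτ⟩ : ∃ τ : (Idx (T + 2) m → F) →ₗ[F] (Idx (T + 2) m → F),
      ∀ q, τ q = x.val *ᵥ (z.val *ᵥ q - q) - (z.val *ᵥ q - q) :=
    ⟨(Matrix.mulVecLin x.val - LinearMap.id).comp (Matrix.mulVecLin z.val - LinearMap.id), fun q => rfl⟩
  have hτK : ∀ q ∈ K, τ q ∈ K := fun q hq => by
    rw [hK] at hq ⊢
    rw [hτ]
    refine ⟨?_, ?_⟩
    · rw [← mv_rs (s := s) hφu hφ0, ← hx]; exact sub_mem_mv _ _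
    · have h1 := sub_mem (comm_moved hzh hq.2) hq.2
      exact sub_mem (comm_moved hxh h1) h1
  have hinj : Function.Injective (τ.restrict hτK) := (injective_iff_map_eq_zero _).mpr fun q hq => by
    have h0 : τ q.1 = 0 := congrArg Subtype.val hq
    rw [hτ, sub_eq_zero, hz, hx] at h0
    exact Subtype.ext (H.composite_inj hc hcM hne hu0 hφu hφ0 hu0 hφu hφ0 ((hK _).mp q.2).1 h0)
  -- a pure vector outside the image
  have hfix' : ∀ k, ∃ n ν : Fin m → F, k ≠ s → ((Bs k).val *ᵥ n = n ∧ ν ᵥ* (Bs k).val = ν ∧ ν ⬝ᵥ n = 1) := fun k => by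
    by_cases hk : k = s
    · exact ⟨0, 0, fun h => absurd hk h⟩
    · obtain ⟨n, ν, h⟩ := hfix k hk; exact ⟨n, ν, fun _ => h⟩
  choose n ν hnν using hfix'
  obtain ⟨ψ, hψu⟩ : ∃ ψ : Fin m → F, ψ ⬝ᵥ u = 1 := by
    obtain ⟨i, hi⟩ := Function.ne_iff.mp hu0
    exact ⟨Pi.single i (u i)⁻¹, by rw [single_dotProduct, inv_mul_cancel₀ hi]⟩
  have hp₀K : pv (Function.update n s u) ∈ K := by
    rw [hK]
    refine ⟨?_, mem_mv.mpr ⟨pv (Function.update n s y₀), ?_⟩⟩
    · have := pv_mem_slotW s (Function.update n s u)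
      rwa [Function.update_self] at this
    · rw [hd, show (fun k => (Bs k).val *ᵥ Function.update n s y₀ ((1 : Equiv.Perm (Fin (T + 2))) k)) =
        Function.update n s (y₀ + u) from funext fun k => ?_, pv_update_add, add_sub_cancel_left]
      rw [Equiv.Perm.one_apply]
      by_cases hk : k = s
      · subst hk; rw [Function.update_self, Function.update_self, hu, hN]; abel
      · rw [Function.update_of_ne hk, Function.update_of_ne hk, (hnν k hk).1]
  obtain ⟨⟨q, hq⟩, hqp⟩ := (LinearMap.injective_iff_surjective.mp hinj) ⟨_, hp₀K⟩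
  have hqp' : τ q = pv (Function.update n s u) := congrArg Subtype.val hqp
  rw [hτ] at hqp'
  obtain ⟨d, hd'⟩ := mem_mv.mp (sub_mem (comm_moved hzh ((hK q).mp hq).2) ((hK q).mp hq).2)
  rw [← hd'] at hqp'
  have hone : pv (Function.update ν s ψ) ⬝ᵥ pv (Function.update n s u) = 1 := by
    rw [pv_dot]
    refine Finset.prod_eq_one fun k _ => ?_
    by_cases hk : k = s
    · subst hk; rw [Function.update_self, Function.update_self, hψu]
    · rw [Function.update_of_ne hk, Function.update_of_ne hk, (hnν k hk).2.2]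
  have hrow : pv (Function.update ν s ψ) ᵥ* x.val =
      pv (Function.update ν s ψ) + pv (Function.update ν s φ) := by
    rw [hx, rs, (slotEl_data s (transv u φ)).vecMul_pv, ← pv_update_add]
    congr 1
    funext k
    simp only [Equiv.Perm.one_symm, Equiv.Perm.one_apply]
    by_cases hk : k = s
    · subst hk
      simp only [Function.update_self]
      funext i
      rw [transv_val hφu, vecMul_add, vecMul_one, vecMul_vecMulVec, hψu, one_smul]
    · simp [hk]
  have hfixrow : pv (Function.update ν s φ) ᵥ* h.val = pv (Function.update ν s φ) := by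
    rw [hd.vecMul_pv]
    congr 1
    funext k
    simp only [Equiv.Perm.one_symm, Equiv.Perm.one_apply]
    by_cases hk : k = s
    · subst hk; rw [Function.update_self, hφB]
    · rw [Function.update_of_ne hk, (hnν k hk).2.1]
  rw [← hqp', dotProduct_sub, dotProduct_mulVec, hrow, add_dotProduct, add_sub_cancel_left, dotProduct_sub,
    dotProduct_mulVec, hfixrow, sub_self] at hone
  exact zero_ne_one hone

end CfsgLib.Classical22.TWMax
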