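/-
Characteristic two: an invariant of involutions separating a slot-wise permutation matrix from roots and from
fixed-point-free slot permutations.
-/
import Cfsg.Agent.Lib.Classical22.TensorWreathMax.Centralizer

set_option autoImplicit false
set_option linter.unusedSectionVars false
set_option linter.unusedSimpArgs false

namespace CfsgLib.Classical22.TWMax

open Matrix Kronecker CfsgLib.Transvec CfsgLib.Classical22.TensorMax
open CfsgLib.Classical22.TensorMax.SpO (kr kr_apply isKron_kr)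
open scoped MatrixGroups

variable {F : Type*} [Field F] {m : ℕ}

/-- Fixed vectors and fixed functionals pair with rank at most one. -/
def Disc {ι : Type} [Fintype ι] [DecidableEq ι] (g : GL ι F) : Prop :=
  ∀ v w L N : ι → F, g.val *ᵥ v = v → g.val *ᵥ w = w → L ᵥ* g.val = L → N ᵥ* g.val = N →
    (L ⬝ᵥ v) * (N ⬝ᵥ w) = (L ⬝ᵥ w) * (N ⬝ᵥ v)

lemma Disc.conj {ι : Type} [Fintype ι] [DecidableEq ι] {g : GL ι F} (hg : Disc g) (c : GL ι F) :
    Disc (c * g * c⁻¹) := by
  intro v w L N hv hw hL hN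
  have hvec : ∀ v : ι → F, (c * g * c⁻¹).val *ᵥ v = v → g.val *ᵥ ((c⁻¹).val *ᵥ v) = (c⁻¹).val *ᵥ v := by
    intro v hv
    refine Transvec.mulVec_injective c ?_
    simp only
    rw [Transvec.mulVec_inv_cancel, ← Transvec.mul_mulVec, ← Transvec.mul_mulVec, hv]
  have hrow : ∀ L : ι → F, L ᵥ* (c * g * c⁻¹).val = L → (L ᵥ* c.val) ᵥ* g.val = L ᵥ* c.val := by
    intro L hL
    conv_rhs => rw [← hL]
    rw [vecMul_vecMul, vecMul_vecMul, ← Units.val_mul, ← Units.val_mul, inv_mul_cancel_right]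
  have hdot : ∀ L v : ι → F, (L ᵥ* c.val) ⬝ᵥ ((c⁻¹).val *ᵥ v) = L ⬝ᵥ v := fun L v => by
    rw [← dotProduct_mulVec, Transvec.mulVec_inv_cancel]
  have := hg _ _ _ _ (hvec v hv) (hvec w hw) (hrow L hL) (hrow N hN)
  rwa [hdot, hdot, hdot, hdot] at this

lemma hasFix_one (hm : 0 < m) : HasFix (1 : GL (Fin m) F) :=
  ⟨Pi.single ⟨0, hm⟩ 1, Pi.single ⟨0, hm⟩ 1, by rw [Units.val_one, one_mulVec],
    by rw [Units.val_one, vecMul_one], by simp⟩

lemma hasFix_transv (hm : 3 ≤ m) {u φ : Fin m → F} (hu : u ≠ 0) (h : φ ⬝ᵥ u = 0) : HasFix (transv u φ) := by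
  obtain ⟨n, hn, hnu⟩ : ∃ n, φ ⬝ᵥ n = 0 ∧ n ∉ Submodule.span F ({u} : Set (Fin m → F)) := by
    obtain ⟨L, hL⟩ : ∃ L : (Fin m → F) →ₗ[F] F, ∀ x, L x = φ ⬝ᵥ x :=
      ⟨{ toFun := fun x => φ ⬝ᵥ x, map_add' := dotProduct_add φ, map_smul' := fun c x => dotProduct_smul c φ x },
        fun x => rfl⟩
    by_contra hh
    push Not at hh
    have e1 := LinearMap.finrank_range_add_finrank_ker L
    have e2 := Submodule.finrank_le (LinearMap.range L)
    rw [Module.finrank_self] at e2
    rw [Module.finrank_fin_fun] at e1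
    have := (Submodule.finrank_mono (fun x hx => hh x (hL x ▸ LinearMap.mem_ker.mp hx) : LinearMap.ker L ≤ _)).trans
      (finrank_span_singleton hu).le
    omega
  obtain ⟨ν, hν, hνn⟩ := exists_functional hnu
  refine ⟨n, ν, ?_, ?_, hνn⟩
  · rw [transv_mulVec h, hn, zero_smul, add_zero]
  · rw [transv_val h, vecMul_add, vecMul_one, vecMul_vecMulVec, hν u (Submodule.mem_span_singleton_self u), zero_smul,
      add_zero]

lemma hasFix_invol_odd (hc : (2 : F) = 0) (hm : Odd m) {B : GL (Fin m) F} (hB : B * B = 1) : HasFix B := by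
  obtain ⟨N, hN⟩ : ∃ N : (Fin m → F) →ₗ[F] (Fin m → F), ∀ y, N y = B.val *ᵥ y - y :=
    ⟨Matrix.mulVecLin B.val - LinearMap.id, fun y => rfl⟩
  have h1 : LinearMap.range N ≤ LinearMap.ker N := by
    rintro _ ⟨y, rfl⟩
    rw [LinearMap.mem_ker, hN, hN, mulVec_sub, ← Transvec.mul_mulVec, hB, Units.val_one, one_mulVec,
      show y - B.val *ᵥ y - (B.val *ᵥ y - y) = (2 : F) • y - (2 : F) • (B.val *ᵥ y) by rw [two_smul, two_smul]; abel,
      hc, zero_smul, zero_smul, sub_zero]
  obtain ⟨n, hn, hn'⟩ : ∃ n, n ∈ LinearMap.ker N ∧ n ∉ LinearMap.range N := by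
    by_contra h
    push Not at h
    have h2 := Submodule.finrank_mono (fun x hx => h x hx : LinearMap.ker N ≤ LinearMap.range N)
    have h4 := Submodule.finrank_mono h1
    have h3 := LinearMap.finrank_range_add_finrank_ker N
    rw [Module.finrank_fin_fun] at h3
    obtain ⟨k, hk⟩ := hm
    omega
  obtain ⟨ν, hν, hνn⟩ := exists_functional hn'
  refine ⟨n, ν, sub_eq_zero.mp ((hN n).symm.trans hn), funext fun i => ?_, hνn⟩
  have e := hν _ ⟨Pi.single i 1, rfl⟩
  rw [hN, dotProduct_sub, sub_eq_zero, dotProduct_mulVec, dotProduct_single, dotProduct_single, mul_one, mul_one] at e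
  exact e

/-- Pairing off adjacent indices. -/
def pairFun (m : ℕ) (k : Fin m) : Fin m :=
  if h : k.val % 2 = 0 then (if h' : k.val + 1 < m then ⟨k.val + 1, h'⟩ else k)
  else ⟨k.val - 1, by omega⟩

lemma pairFun_invol (m : ℕ) (k : Fin m) : pairFun m (pairFun m k) = k := by
  unfold pairFun
  have := k.isLt
  split_ifs <;> simp only [Fin.ext_iff] at * <;> omega

/-- The permutation pairing off adjacent indices. -/
def pairPerm (m : ℕ) : Equiv.Perm (Fin m) :=
  ⟨pairFun m, pairFun m, pairFun_invol m, pairFun_invol m⟩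

lemma pairPerm_fix {k : Fin m} (h : pairPerm m k = k) : Odd m ∧ k.val + 1 = m := by
  simp only [pairPerm, Equiv.coe_fn_mk, pairFun] at h
  have := k.isLt
  split_ifs at h <;> simp only [Fin.ext_iff] at h
  · omega
  · refine ⟨Nat.odd_iff.mpr ?_, ?_⟩ <;> omega
  · omega

lemma pairPerm_sq (m : ℕ) : ∀ k, pairPerm m (pairPerm m k) = k := pairFun_invol m

/-- The matrix of the pairing. -/
noncomputable def pairGL (m : ℕ) : GL (Fin m) F where
  val := (pairPerm m).permMatrix F
  inv := (pairPerm m).permMatrix F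
  val_inv := Matrix.ext_iff_mulVec.2 fun v => by
    rw [← mulVec_mulVec, permMatrix_mulVec, permMatrix_mulVec, one_mulVec]
    funext k; simp [pairPerm_sq]
  inv_val := Matrix.ext_iff_mulVec.2 fun v => by
    rw [← mulVec_mulVec, permMatrix_mulVec, permMatrix_mulVec, one_mulVec]
    funext k; simp [pairPerm_sq]

lemma pairGL_mulVec (v : Fin m → F) : (pairGL m).val *ᵥ v = v ∘ pairPerm m := permMatrix_mulVec _

lemma pairGL_sq : (pairGL m : GL (Fin m) F) * pairGL m = 1 :=
  gl_ext fun v => by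
    rw [Transvec.mul_mulVec, pairGL_mulVec, pairGL_mulVec, Units.val_one, one_mulVec]
    funext k; simp [pairPerm_sq]

lemma pairGL_ne_one (hm : 2 ≤ m) : (pairGL m : GL (Fin m) F) ≠ 1 := fun h => by
  have e := congrArg (fun g : GL (Fin m) F => (g.val *ᵥ Pi.single ⟨1, by omega⟩ 1) ⟨0, by omega⟩) h
  have h0 : pairPerm m ⟨0, by omega⟩ = ⟨1, by omega⟩ := by simp [pairPerm, pairFun, show 1 < m by omega]
  simp only [pairGL_mulVec, Units.val_one, one_mulVec, Function.comp_apply, h0] at e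
  simp at e

lemma pairGL_det (hc : (2 : F) = 0) : (pairGL m : GL (Fin m) F).val.det = 1 := by
  change ((pairPerm m).permMatrix F).det = 1
  rw [det_permutation]
  rcases Int.units_eq_one_or (Equiv.Perm.sign (pairPerm m)) with h | h <;> rw [h]
  · simp
  · simp only [Units.val_neg, Units.val_one, Int.cast_neg, Int.cast_one]
    linear_combination -hc

variable {t : ℕ}

/-- A slot-wise permutation matrix permutes the coordinates. -/
lemma twData_perm_mulVec {g : GL (Idx t m) F} {gs : Fin t → GL (Fin m) F} (hg : TWData g 1 gs)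
    (πs : Fin t → Equiv.Perm (Fin m)) (h : ∀ k v, (gs k).val *ᵥ v = v ∘ πs k) :
    g.val = Equiv.Perm.permMatrix F (Equiv.piCongrRight πs) := by
  refine mat_ext_pv fun xs => ?_
  rw [hg, permMatrix_mulVec]
  funext a
  simp [pv, h]

/-- An involutive permutation of coordinates with at most one fixed point has the invariant. -/
lemma disc_of_perm {ι : Type} [Fintype ι] [DecidableEq ι] (hc : (2 : F) = 0) {g : GL ι F} {π : Equiv.Perm ι}
    (hg : g.val = π.permMatrix F) (hπ : ∀ x, π (π x) = x) (huniq : ∀ x y, π x = x → π y = y → x = y) :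
    Disc g := by
  classical
  have key : ∀ v L : ι → F, g.val *ᵥ v = v → L ᵥ* g.val = L →
      L ⬝ᵥ v = ∑ x ∈ Finset.univ.filter (fun x => π x = x), L x * v x := by
    intro v L hv hL
    rw [hg, permMatrix_mulVec] at hv
    rw [hg, vecMul_permMatrix] at hL
    have hvx : ∀ x, v (π x) = v x := fun x => congrFun hv x
    have hLx : ∀ x, L (π x) = L x := fun x => by
      have := congrFun hL (π x)
      simpa using this.symm
    rw [dotProduct, ← Finset.sum_filter_add_sum_filter_not Finset.univ (fun x => π x = x)]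
    rw [add_eq_left]
    refine Finset.sum_involution (fun x _ => π x) (fun x _ => ?_) (fun x hx _ => (Finset.mem_filter.mp hx).2)
      (fun x hx => ?_) (fun x _ => hπ x)
    · rw [hvx, hLx, ← two_mul, hc, zero_mul]
    · simp only [Finset.mem_filter, Finset.mem_univ, true_and, hπ] at hx ⊢
      exact fun e => hx e.symm
  intro v w L N hv hw hL hN
  rw [key v L hv hL, key w N hw hN, key w L hw hL, key v N hv hN]
  by_cases h : ∃ x, π x = x
  · obtain ⟨x₀, hx₀⟩ := h
    rw [show (Finset.univ.filter fun x => π x = x) = {x₀} from Finset.ext fun x => by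
      simp only [Finset.mem_filter, Finset.mem_univ, true_and, Finset.mem_singleton]
      exact ⟨fun hx => huniq x x₀ hx hx₀, fun hx => hx ▸ hx₀⟩]
    simp only [Finset.sum_singleton]
    ring
  · push Not at h
    rw [show (Finset.univ.filter fun x => π x = x) = ∅ from Finset.filter_false_of_mem fun x _ => h x]
    simp

/-- A root does not have the invariant. -/
lemma not_disc_rs {T : ℕ} (hm : 3 ≤ m) {s : Fin (T + 2)} {u φ : Fin m → F} (hu : u ≠ 0) (h : φ ⬝ᵥ u = 0) :
    ¬ Disc (rs s u φ : GL (Idx (T + 2) m) F) := by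
  classical
  intro hD
  obtain ⟨n, ν, hn, hν, hνn⟩ := hasFix_transv hm hu h
  obtain ⟨e₀, he₀⟩ : ∃ e₀ : Fin m → F, e₀ = Pi.single ⟨0, by omega⟩ 1 := ⟨_, rfl⟩
  obtain ⟨e₁, he₁⟩ : ∃ e₁ : Fin m → F, e₁ = Pi.single ⟨1, by omega⟩ 1 := ⟨_, rfl⟩
  obtain ⟨r, hr⟩ : ∃ r : Fin (T + 2), r ≠ s := exists_ne s
  obtain ⟨X, hX⟩ : ∃ X : (Fin m → F) → (Fin m → F) → Fin (T + 2) → Fin m → F,
      ∀ a b, X a b = Function.update (Function.update (fun _ => e₀) r b) s a := ⟨_, fun a b => rfl⟩
  have hv : ∀ b, (rs s u φ).val *ᵥ pv (X n b) = pv (X n b) := fun b => by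
    rw [rs, slotEl_apply]
    congr 1
    rw [hX, Function.update_self, Function.update_idem, hn]
  have hL : ∀ b, pv (X ν b) ᵥ* (rs s u φ).val = pv (X ν b) := fun b => by
    rw [rs, (slotEl_data s (transv u φ)).vecMul_pv]
    congr 1
    funext k
    simp only [Equiv.Perm.one_symm, Equiv.Perm.one_apply]
    by_cases hk : k = s
    · subst hk; rw [Function.update_self, hX, Function.update_self, hν]
    · rw [Function.update_of_ne hk, Units.val_one, vecMul_one]
  have hdot : ∀ b b', pv (X ν b) ⬝ᵥ pv (X n b') = b ⬝ᵥ b' := fun b b' => by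
    rw [pv_dot, Finset.prod_eq_single r]
    · rw [hX, hX, Function.update_of_ne hr, Function.update_self, Function.update_of_ne hr, Function.update_self]
    · intro k _ hk
      by_cases hks : k = s
      · subst hks; rw [hX, hX, Function.update_self, Function.update_self, hνn]
      · rw [hX, hX, Function.update_of_ne hks, Function.update_of_ne hk, Function.update_of_ne hks,
          Function.update_of_ne hk, he₀]
        simp
    · simp
  have e := hD _ _ _ _ (hv e₀) (hv e₁) (hL e₀) (hL e₁)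
  rw [hdot, hdot, hdot, hdot, he₀, he₁] at e
  simp at e

/-- An involution of the tensor wreath group permuting all slots freely does not have the invariant. -/
lemma not_disc_free {T : ℕ} (hc : (2 : F) = 0) (hm : 3 ≤ m) {g : GL (Idx (T + 2) m) F}
    {σ : Equiv.Perm (Fin (T + 2))} {gs : Fin (T + 2) → GL (Fin m) F} (hg : TWData g σ gs) (hgg : g * g = 1)
    (hσ : ∀ k, σ k ≠ k) : ¬ Disc g := by
  classical
  intro hD
  have h1 := hg.mul hg
  rw [hgg] at h1
  obtain ⟨hσ2, hsc⟩ := twData_one_unique (by omega) h1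
  have hσσ : ∀ k, σ (σ k) = k := fun k => by
    have := congrArg (fun π : Equiv.Perm (Fin (T + 2)) => π k) hσ2
    simpa using this
  have hσs : ∀ k, σ.symm k = σ k := fun k => by rw [Equiv.symm_apply_eq, hσσ]
  choose c hc' using hsc
  obtain ⟨R, hR⟩ : ∃ R : Fin (T + 2) → Prop, ∀ k, R k ↔ k < σ k := ⟨_, fun k => Iff.rfl⟩
  have hflip : ∀ k, R (σ k) ↔ ¬ R k := fun k => by
    rw [hR, hR, hσσ]
    exact ⟨fun h1 h2 => lt_asymm h1 h2, fun h1 => lt_of_le_of_ne (not_lt.mp h1) (hσ k)⟩
  obtain ⟨X, hX⟩ : ∃ X : (Fin (T + 2) → Fin m → F) → Fin (T + 2) → Fin m → F,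
      ∀ a k, X a k = if R k then a k else (gs k).val *ᵥ a (σ k) := ⟨_, fun a k => rfl⟩
  obtain ⟨Y, hY⟩ : ∃ Y : (Fin (T + 2) → Fin m → F) → Fin (T + 2) → Fin m → F,
      ∀ b k, Y b k = if R k then b k else b (σ k) ᵥ* (gs (σ k)).val := ⟨_, fun b k => rfl⟩
  obtain ⟨P, hP⟩ : ∃ P : F, P = ∏ k, if R k then c k else 1 := ⟨_, rfl⟩
  have hpvs : ∀ (d : Fin (T + 2) → F) (xs : Fin (T + 2) → Fin m → F),
      pv (fun k => d k • xs k) = (∏ k, d k) • pv xs := fun d xs => by
    funext a; simp [pv, Finset.prod_mul_distrib]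
  have hgX : ∀ a, g.val *ᵥ pv (X a) = P • pv (X a) := fun a => by
    rw [hg, hP, ← hpvs]
    congr 1
    funext k
    by_cases hk : R k
    · rw [if_pos hk, hX, if_neg (fun h => (hflip k).mp h hk), hσσ, hX, if_pos hk, mulVec_mulVec, ← Units.val_mul]
      exact hc' k _
    · rw [if_neg hk, one_smul, hX, if_pos ((hflip k).mpr hk), hX, if_neg hk]
  have hgY : ∀ b, pv (Y b) ᵥ* g.val = P • pv (Y b) := fun b => by
    rw [hg.vecMul_pv, hP, ← hpvs]
    congr 1
    funext k
    rw [hσs]
    by_cases hk : R k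
    · rw [if_pos hk, hY, if_neg (fun h => (hflip k).mp h hk), hσσ, hY, if_pos hk, vecMul_vecMul, ← Units.val_mul]
      funext i
      have e := congrArg (b k ⬝ᵥ ·) (hc' k (Pi.single i 1))
      simp only [dotProduct_smul, dotProduct_single, mul_one] at e
      rw [dotProduct_mulVec, dotProduct_single, mul_one] at e
      rw [e, Pi.smul_apply]
    · rw [if_neg hk, one_smul, hY, if_pos ((hflip k).mpr hk), hY, if_neg hk]
  obtain ⟨e₀, he₀⟩ : ∃ e₀ : Fin m → F, e₀ = Pi.single ⟨0, by omega⟩ 1 := ⟨_, rfl⟩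
  obtain ⟨e₁, he₁⟩ : ∃ e₁ : Fin m → F, e₁ = Pi.single ⟨1, by omega⟩ 1 := ⟨_, rfl⟩
  obtain ⟨r, hr⟩ : ∃ r, R r := by
    by_cases h0 : R 0
    · exact ⟨0, h0⟩
    · exact ⟨σ 0, (hflip 0).mpr h0⟩
  obtain ⟨A, hA⟩ : ∃ A : (Fin m → F) → Fin (T + 2) → Fin m → F, ∀ b, A b = Function.update (fun _ => e₀) r b :=
    ⟨_, fun b => rfl⟩
  -- the scalar is one
  have hpair : ∀ b b', pv (Y (A b)) ⬝ᵥ pv (X (A b')) =
      (∏ k, if R k then 1 else c (σ k)) * ((b ⬝ᵥ b') * (b ⬝ᵥ b')) := by
    intro b b'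
    rw [pv_dot]
    have hk : ∀ k, Y (A b) k ⬝ᵥ X (A b') k = (if R k then 1 else c (σ k)) *
        if k = r ∨ k = σ r then b ⬝ᵥ b' else 1 := by
      intro k
      have hval : ∀ q, A b q ⬝ᵥ A b' q = if q = r then b ⬝ᵥ b' else 1 := fun q => by
        by_cases hq : q = r
        · subst hq; rw [if_pos rfl, hA, hA, Function.update_self, Function.update_self]
        · rw [if_neg hq, hA, hA, Function.update_of_ne hq, Function.update_of_ne hq, he₀]; simp
      by_cases hk : R k
      · rw [hY, hX, if_pos hk, if_pos hk, if_pos hk, hval, one_mul]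
        have : k ≠ σ r := fun e => (hflip r).mp (e ▸ hk) hr
        simp [this]
      · rw [hY, hX, if_neg hk, if_neg hk, if_neg hk, ← dotProduct_mulVec, mulVec_mulVec, ← Units.val_mul]
        have e := hc' (σ k) (A b' (σ k))
        rw [hσσ] at e
        rw [e, dotProduct_smul, smul_eq_mul, hval]
        have h1 : k ≠ r := fun e => hk (e ▸ hr)
        have h2 : σ k = r ↔ k = σ r := ⟨fun e => by rw [← e, hσσ], fun e => by rw [e, hσσ]⟩
        by_cases h3 : k = σ r
        · rw [if_pos (h2.mpr h3), if_pos (Or.inr h3)]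
        · rw [if_neg (mt h2.mp h3), if_neg (not_or.mpr ⟨h1, h3⟩)]
    simp only [hk, Finset.prod_mul_distrib]
    congr 1
    rw [← Finset.prod_filter, show (Finset.univ.filter fun k => k = r ∨ k = σ r) = {r, σ r} from by ext k; simp,
      Finset.prod_pair (hσ r).symm]
  have hK : (∏ k, if R k then 1 else c (σ k)) ≠ 0 := Finset.prod_ne_zero_iff.mpr fun k _ => by
    split_ifs
    · exact one_ne_zero
    · intro h0
      have := hc' (σ k) e₀
      rw [h0, zero_smul] at this
      exact Transvec.mulVec_ne_zero _ (by simp [he₀]) this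
  have hP1 : P = 1 := by
    have hd : pv (Y (A e₀)) ⬝ᵥ pv (X (A e₀)) ≠ 0 := by
      rw [hpair]; exact mul_ne_zero hK (by simp [he₀])
    have e := hgX (A e₀)
    have e2 : pv (X (A e₀)) = (P * P) • pv (X (A e₀)) := by
      have h2 := congrArg (g.val *ᵥ ·) e
      rwa [← Transvec.mul_mulVec, hgg, Units.val_one, one_mulVec, mulVec_smul, e, smul_smul] at h2
    have e3 := congrArg (pv (Y (A e₀)) ⬝ᵥ ·) e2
    simp only [dotProduct_smul, smul_eq_mul] at e3
    have hPP : P * P = 1 := (mul_eq_right₀ hd).mp e3.symm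
    have : (P - 1) * (P - 1) = 0 := by linear_combination hPP - (P - 1) * hc
    exact sub_eq_zero.mp (mul_self_eq_zero.mp this)
  have e := hD _ _ _ _ ((hgX (A e₀)).trans (by rw [hP1, one_smul])) ((hgX (A e₁)).trans (by rw [hP1, one_smul]))
    ((hgY (A e₀)).trans (by rw [hP1, one_smul])) ((hgY (A e₁)).trans (by rw [hP1, one_smul]))
  rw [hpair, hpair, hpair, hpair, he₀, he₁] at e
  simp [hK] at e

end CfsgLib.Classical22.TWMax
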