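/-
Characteristic two: every element lies in the tensor wreath group.
-/
import Cfsg.Agent.Lib.Classical22.TensorWreathMax.Disc

set_option autoImplicit false
set_option linter.unusedSectionVars false
set_option linter.unusedSimpArgs false

namespace CfsgLib.Classical22.TWMax

open Matrix Kronecker CfsgLib.Transvec CfsgLib.Classical22.TensorMax
open CfsgLib.Classical22.TensorMax.SpO (kr kr_apply isKron_kr)
open scoped MatrixGroups

variable {F : Type*} [Field F] [Fintype F] {T m : ℕ} {M : Subgroup (GL (Idx (T + 2) m) F)}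

lemma invol_conj_pow_right {G : Type*} [Group G] {x z : G} (hx : x * x = 1) (hz : z * z = 1) (k : ℕ) :
    z * (x * z) ^ k * z = ((x * z) ^ k)⁻¹ := by
  have e : z * (x * z) * z⁻¹ = (x * z)⁻¹ := by
    rw [_root_.mul_inv_rev, inv_eq_of_mul_eq_one_right hx, mul_inv_eq_iff_eq_mul, mul_assoc, inv_eq_of_mul_eq_one_right hz]
  have e' := congrArg (· ^ k) e
  simp only [conj_pow, inv_pow] at e'
  rwa [inv_eq_of_mul_eq_one_right hz] at e'

lemma tGL_mul {t : ℕ} (gs hs : Fin t → GL (Fin m) F) : tGL gs * tGL hs = tGL fun k => gs k * hs k :=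
  ext_pv fun xs => by
    rw [Transvec.mul_mulVec, tGL_apply, tGL_apply, tGL_apply]
    congr 1
    funext k
    rw [Transvec.mul_mulVec]

/-- An element of determinant one in one slot. -/
lemma Hyp.slotEl_mem (H : Hyp M) (k : Fin (T + 2)) {B : GL (Fin m) F} (hB : B.val.det = 1) : slotEl k B ∈ M := by
  obtain ⟨f, hf⟩ : ∃ f : GL (Fin m) F →* GL (Idx (T + 2) m) F, ∀ C, f C = slotEl k C :=
    ⟨MonoidHom.mk' (fun C => slotEl k C) fun C D => (slotEl_mul k C D).symm, fun C => rfl⟩
  have := Transvec.specialLinear_le (M := M.comap f) (fun v φ h => by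
    rw [Subgroup.mem_comap, hf]; exact H.ctx.root k v φ h) ((Transvec.mem_specialLinear_iff B).mpr hB)
  rwa [Subgroup.mem_comap, hf] at this

/-- An involution fixing a slot commutes with a root of that slot. -/
lemma Hyp.exists_root_comm (H : Hyp M) (hc : (2 : F) = 0) {j : GL (Idx (T + 2) m) F} {σ : Equiv.Perm (Fin (T + 2))}
    {gs : Fin (T + 2) → GL (Fin m) F} (hd : TWData j σ gs) (hjj : j * j = 1) {r : Fin (T + 2)} (hr : σ r = r) :
    ∃ u φ : Fin m → F, u ≠ 0 ∧ φ ⬝ᵥ u = 0 ∧ φ ≠ 0 ∧ Commute j (rs r u φ) := by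
  classical
  have hm := H.ctx.three
  have h1 := hd.mul hd
  rw [hjj] at h1
  obtain ⟨κ, hκ⟩ := (twData_one_unique (by omega) h1).2 r
  rw [hr] at hκ
  haveI : CharP F 2 := CharTwo.of_one_ne_zero_of_two_eq_zero one_ne_zero hc
  haveI : Fact (Nat.Prime 2) := ⟨Nat.prime_two⟩
  obtain ⟨l, hl⟩ : ∃ l : F, l * l = κ := by
    obtain ⟨l, hl⟩ := (bijective_frobenius F 2).surjective κ
    exact ⟨l, by rw [← hl, frobenius_def, pow_two]⟩
  obtain ⟨N, hN⟩ : ∃ N : (Fin m → F) →ₗ[F] (Fin m → F), ∀ x, N x = (gs r).val *ᵥ x + l • x :=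
    ⟨Matrix.mulVecLin (gs r).val + l • LinearMap.id, fun x => rfl⟩
  have hN2 : ∀ x, N (N x) = 0 := fun x => by
    have e := hκ x
    rw [Units.val_mul, ← mulVec_mulVec, ← hl] at e
    rw [hN, hN, mulVec_add, mulVec_smul, e, smul_add, smul_smul,
      show ∀ A B : Fin m → F, A + B + (B + A) = (A + A) + (B + B) from fun A B => by abel, add_self_zero hc,
      add_self_zero hc, add_zero]
  obtain ⟨u, φ, hu, hφ, hφ0, hNu, hφN⟩ : ∃ u φ : Fin m → F, u ≠ 0 ∧ φ ⬝ᵥ u = 0 ∧ φ ≠ 0 ∧ N u = 0 ∧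
      ∀ x, φ ⬝ᵥ N x = 0 := by
    by_cases hN0 : ∀ x, N x = 0
    · obtain ⟨w, hw⟩ : ∃ w : Fin m → F, w ≠ 0 := ⟨Pi.single ⟨0, by omega⟩ 1, by simp⟩
      obtain ⟨a, -, ha, -, ha0, -, -⟩ := H.exists_two w
      exact ⟨w, a, hw, ha, ha0, hN0 w, fun x => by rw [hN0, dotProduct_zero]⟩
    push Not at hN0
    obtain ⟨x₀, hx₀⟩ := hN0
    obtain ⟨y, hy⟩ : ∃ y, y ∉ LinearMap.range N := by
      by_contra h
      push Not at h
      obtain ⟨y, hy⟩ := h x₀
      exact hx₀ (by rw [← hy]; exact hN2 y)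
    obtain ⟨φ, hφ, hφy⟩ := exists_functional hy
    exact ⟨N x₀, φ, hx₀, hφ _ ⟨x₀, rfl⟩, fun h0 => by simp [h0] at hφy, hN2 x₀, fun x => hφ _ ⟨x, rfl⟩⟩
  refine ⟨u, φ, hu, hφ, hφ0, ?_⟩
  have e := hd.conj_slotEl r (transv u φ)
  rw [hr] at e
  have e' : gs r * transv u φ * (gs r)⁻¹ = transv u φ := by
    rw [mul_inv_eq_iff_eq_mul]
    refine gl_ext fun x => ?_
    rw [Transvec.mul_mulVec, Transvec.mul_mulVec, transv_mulVec hφ, transv_mulVec hφ, mulVec_add, mulVec_smul]
    congr 1
    have e1 : (gs r).val *ᵥ u = l • u := by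
      have h := hN u
      rw [hNu] at h
      rw [eq_neg_of_add_eq_zero_left h.symm, neg_self_eq hc]
    have e2 : φ ⬝ᵥ ((gs r).val *ᵥ x) = l * (φ ⬝ᵥ x) := by
      have h := hφN x
      rw [hN, dotProduct_add, dotProduct_smul, smul_eq_mul] at h
      linear_combination h - (l * (φ ⬝ᵥ x)) * hc
    rw [e1, e2, smul_smul, mul_comm]
  rw [e'] at e
  exact mul_inv_eq_iff_eq_mul.mp e

/-- Characteristic two: every element lies in the tensor wreath group. -/
theorem Hyp.tw_of_even (H : Hyp M) (hc : (2 : F) = 0) {g : GL (Idx (T + 2) m) F} (hg : g ∈ M) : IsTW g := by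
  classical
  by_contra hne
  have hm := H.ctx.three
  -- the involution
  obtain ⟨Bs, hBs⟩ : ∃ Bs : Fin (T + 2) → GL (Fin m) F, ∀ k, Bs k = if k = 0 ∨ Odd m then pairGL m else 1 :=
    ⟨_, fun k => rfl⟩
  have hBsq : ∀ k, Bs k * Bs k = 1 := fun k => by rw [hBs]; split_ifs <;> simp [pairGL_sq]
  have hBfix : ∀ k : Fin (T + 2), k ≠ 0 → HasFix (Bs k) := fun k hk => by
    by_cases hodd : Odd m
    · exact hasFix_invol_odd hc hodd (hBsq k)
    · rw [hBs, if_neg (not_or.mpr ⟨hk, hodd⟩)]; exact hasFix_one (by omega)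
  have hB0 : Bs 0 ≠ 1 := by rw [hBs, if_pos (Or.inl rfl)]; exact pairGL_ne_one (by omega)
  obtain ⟨i, hi⟩ : ∃ i, i = tGL Bs := ⟨_, rfl⟩
  have hid : TWData i 1 Bs := hi ▸ twData_tGL Bs
  have hiM : i ∈ M := by
    have key : ∀ U : Finset (Fin (T + 2)), tGL (fun k => if k ∈ U then Bs k else 1) ∈ M := fun U => by
      induction U using Finset.induction_on with
      | empty =>
        convert M.one_mem using 1
        exact ext_pv fun xs => by simp [tGL_apply]
      | insert a U haU ih =>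
        have e : tGL (fun k => if k ∈ insert a U then Bs k else 1) =
            slotEl a (Bs a) * tGL (fun k => if k ∈ U then Bs k else 1) := by
          rw [slotEl, tGL_mul]
          congr 1
          funext k
          by_cases hk : k = a
          · subst hk; simp [haU]
          · simp [hk]
        rw [e]
        refine mul_mem (H.slotEl_mem a ?_) ih
        rw [hBs]
        split_ifs
        · exact pairGL_det hc
        · simp
    have := key Finset.univ
    simpa [← hi] using this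
  have hii : i * i = 1 := by
    rw [hi, tGL_mul]
    exact ext_pv fun xs => by simp [tGL_apply, hBsq]
  obtain ⟨πs, hπs⟩ : ∃ πs : Fin (T + 2) → Equiv.Perm (Fin m),
      ∀ k, πs k = if k = 0 ∨ Odd m then pairPerm m else 1 := ⟨_, fun k => rfl⟩
  have hDisc : Disc i := by
    refine disc_of_perm hc (twData_perm_mulVec hid πs fun k v => ?_) (fun x => funext fun k => ?_) fun x y hx hy => ?_
    · rw [hBs, hπs]; split_ifs
      · exact pairGL_mulVec v
      · simp
    · change πs k (πs k (x k)) = x k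
      rw [hπs]; split_ifs
      · exact pairPerm_sq m _
      · simp
    · funext k
      have hk : ∀ z : Idx (T + 2) m, Equiv.piCongrRight πs z = z → ∀ k, πs k (z k) = z k := fun z h k => congrFun h k
      have h0 := hk x hx 0
      rw [hπs, if_pos (Or.inl rfl)] at h0
      obtain ⟨hodd, -⟩ := pairPerm_fix h0
      have hxk := hk x hx k
      have hyk := hk y hy k
      rw [hπs, if_pos (Or.inr hodd)] at hxk hyk
      exact Fin.ext (by have := (pairPerm_fix hxk).2; have := (pairPerm_fix hyk).2; omega)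
  -- the conjugate root
  obtain ⟨u, hu⟩ : ∃ u : Fin m → F, u ≠ 0 := ⟨Pi.single ⟨0, by omega⟩ 1, by simp⟩
  obtain ⟨φ, -, hφ, -, hφ0, -, -⟩ := H.exists_two u
  obtain ⟨z, hz⟩ : ∃ z, z = g * rs (0 : Fin (T + 2)) u φ * g⁻¹ := ⟨_, rfl⟩
  have hzsq : (z.val - 1) * (z.val - 1) = 0 := hz ▸ conj_sq g _ (rs_sq hφ)
  have hzz := invol_of_sq hc hzsq
  have hzM : z ∈ M := hz ▸ mul_mem (mul_mem hg (H.rs_mem 0 hφ)) (inv_mem hg)
  have hzTW : ¬ IsTW z := fun h => hne (H.tw_of_conj (s := (0 : Fin (T + 2))) hg hu hφ hφ0 (hz ▸ h))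
  obtain ⟨w, hw⟩ : ∃ w, w = i * z := ⟨_, rfl⟩
  have hwM : w ∈ M := hw ▸ mul_mem hiM hzM
  obtain ⟨e, l, hord, hvpow, hvord, hP⟩ := two_part hii hzz
  rw [← hw] at hord hvpow hvord hP
  obtain ⟨c, hcdef⟩ : ∃ c, c = (w ^ l)⁻¹ * g := ⟨_, rfl⟩
  obtain ⟨v, hv⟩ : ∃ v, v = w ^ (2 * l + 1) := ⟨_, rfl⟩
  rw [← hv] at hvpow hvord hP
  have hcz : i * v = c * rs (0 : Fin (T + 2)) u φ * c⁻¹ := by
    rw [hv, hw, mul_odd_pow_conj hii hzz, ← hw, hcdef, _root_.mul_inv_rev, inv_inv, hz]
    simp only [mul_assoc]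
  have hcM : c ∈ M := hcdef ▸ mul_mem (inv_mem (pow_mem hwM _)) hg
  have he0 : e ≠ 0 := by
    rintro rfl
    rw [pow_zero, orderOf_eq_one_iff] at hvord
    rw [hvord, mul_one] at hcz
    refine not_disc_rs hm hu hφ (s := (0 : Fin (T + 2))) ?_
    have hD := hDisc.conj c⁻¹
    rwa [hcz, inv_inv, show c⁻¹ * (c * rs (0 : Fin (T + 2)) u φ * c⁻¹) * c = rs (0 : Fin (T + 2)) u φ by group] at hD
  haveI : Fact (Nat.Prime 2) := ⟨Nat.prime_two⟩
  -- the conjugating element lies in the group
  have hcTW : IsTW c := by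
    by_contra hcne
    obtain ⟨Q, hQdef⟩ : ∃ Q, Q = (Subgroup.closure ({i, v} : Set (GL (Idx (T + 2) m) F))).map
        (MulAut.conj c⁻¹).toMonoidHom := ⟨_, rfl⟩
    have hQM : Q ≤ M := by
      rw [hQdef, Subgroup.map_le_iff_le_comap, Subgroup.closure_le]
      rintro _ (rfl | rfl) <;>
        simp only [SetLike.mem_coe, Subgroup.mem_comap, MulEquiv.coe_toMonoidHom, MulAut.conj_apply, inv_inv]
      exacts [mul_mem (mul_mem (inv_mem hcM) hiM) hcM, mul_mem (mul_mem (inv_mem hcM) (hv ▸ pow_mem hwM _)) hcM]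
    have hQP : IsPGroup 2 Q := hQdef ▸ hP.map _
    have hroot : rs (0 : Fin (T + 2)) u φ ∈ Q := by
      rw [hQdef]
      refine ⟨i * v, mul_mem (Subgroup.subset_closure (by simp)) (Subgroup.subset_closure (by simp)), ?_⟩
      rw [MulEquiv.coe_toMonoidHom, MulAut.conj_apply, hcz]
      group
    obtain ⟨j, hjdef⟩ : ∃ j, j = c⁻¹ * i * c := ⟨_, rfl⟩
    have hjQ : j ∈ Q := by
      rw [hQdef]
      exact ⟨i, Subgroup.subset_closure (by simp), by simp [hjdef]⟩
    have hjj : j * j = 1 := by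
      rw [hjdef]
      calc c⁻¹ * i * c * (c⁻¹ * i * c) = c⁻¹ * (i * i) * c := by group
        _ = 1 := by rw [hii]; group
    obtain ⟨σ, gs, hj⟩ := H.tw_of_pGroup hQM hQP hu hφ hφ0 hroot j hjQ
    by_cases hσ : ∃ r, σ r = r
    · obtain ⟨r, hr⟩ := hσ
      obtain ⟨a, b, ha, hb, hb0, hcomm⟩ := H.exists_root_comm hc hj hjj hr
      refine hcne (H.tw_of_conj (s := r) hcM ha hb hb0 ?_)
      refine H.tw_of_commute hc hid hB0 (hBsq 0) hBfix (mul_mem (mul_mem hcM (H.rs_mem r hb)) (inv_mem hcM)) ?_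
      have hij : i = c * j * c⁻¹ := by rw [hjdef]; group
      change c * rs r a b * c⁻¹ * i = i * (c * rs r a b * c⁻¹)
      rw [hij]
      calc c * rs r a b * c⁻¹ * (c * j * c⁻¹) = c * (rs r a b * j) * c⁻¹ := by group
        _ = c * (j * rs r a b) * c⁻¹ := by rw [hcomm.eq]
        _ = _ := by group
    · push Not at hσ
      refine not_disc_free hc hm hj hjj hσ ?_
      have := hDisc.conj c⁻¹
      rwa [inv_inv, ← hjdef] at this
  obtain ⟨r, a, b, ha, hb, hb0, hR⟩ := root_of_tw hcTW (r := (0 : Fin (T + 2))) hu hφ hφ0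
  rw [← hcz] at hR
  have hviR : v = i * rs r a b := by rw [← hR, ← mul_assoc, hii, one_mul]
  have hvne : v ≠ 1 := fun h => by
    rw [h, orderOf_one] at hvord
    exact he0 (by
      rcases Nat.eq_zero_or_pos e with h0 | h0
      · exact h0
      · have := Nat.one_lt_two_pow (n := e) (by omega); omega)
  have hzk : ∀ k : ℕ, z * w ^ k * z = (w ^ k)⁻¹ := fun k => hw ▸ invol_conj_pow_right hii hzz k
  have hzcomm : ∀ k : ℕ, w ^ k * w ^ k = 1 → Commute z (w ^ k) := fun k hk => by
    have e1 := hzk k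
    rw [inv_eq_of_mul_eq_one_right hk] at e1
    change z * w ^ k = w ^ k * z
    conv_lhs => rw [← mul_one (z * w ^ k), ← hzz, ← mul_assoc, e1]
  have hRR : rs r a b * rs r a b = 1 := invol_of_sq hc (rs_sq hb)
  have hconj : i * rs r a b * i⁻¹ = slotEl r (Bs r * transv a b * (Bs r)⁻¹) := by
    have := hid.conj_slotEl r (transv a b)
    rwa [Equiv.Perm.one_apply] at this
  by_cases hcm : Bs r * transv a b * (Bs r)⁻¹ = transv a b
  · -- commuting factors
    have hv2 : v * v = 1 := by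
      have hcm' : i * rs r a b = rs r a b * i := by
        rw [hcm] at hconj
        exact mul_inv_eq_iff_eq_mul.mp hconj
      rw [hviR, mul_assoc, ← mul_assoc (rs r a b), ← hcm', mul_assoc, hRR, mul_one, hii]
    obtain ⟨Cs, hCs⟩ : ∃ Cs, Cs = fun k => Bs k * Function.update (fun _ => (1 : GL (Fin m) F)) r (transv a b) k :=
      ⟨_, rfl⟩
    have hvd : TWData v 1 Cs := by
      rw [hviR, hCs]
      have := hid.mul (slotEl_data r (transv a b))
      simpa [rs] using this
    have hCsq : ∀ k, Cs k * Cs k = 1 := fun k => by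
      rw [hCs]
      simp only
      by_cases hk : k = r
      · subst hk
        rw [Function.update_self]
        have h2 : transv a b * transv a b = 1 := slotEl_injective (by omega) k (by
          rw [← slotEl_mul]; exact hRR.trans (Units.ext (by simp [slotEl_val, emb_one])))
        rw [mul_assoc, ← mul_assoc (transv a b), ← mul_inv_eq_iff_eq_mul.mp hcm, mul_assoc, h2, mul_one, hBsq]
      · rw [Function.update_of_ne hk, mul_one, hBsq]
    obtain ⟨s, hs1, hsfix⟩ : ∃ s, Cs s ≠ 1 ∧ ∀ k, k ≠ s → HasFix (Cs k) := by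
      by_cases hodd : Odd m
      · by_contra hno
        push Not at hno
        refine hvne (ext_pv fun xs => ?_)
        rw [hvd, Units.val_one, one_mulVec]
        congr 1
        funext k
        have hk : Cs k = 1 := by
          by_contra hk1
          obtain ⟨k', -, hk'⟩ := hno k hk1
          exact hk' (hasFix_invol_odd hc hodd (hCsq k'))
        rw [hk]; simp
      · have hB1 : ∀ k : Fin (T + 2), k ≠ 0 → Bs k = 1 := fun k hk => by
          rw [hBs, if_neg (not_or.mpr ⟨hk, hodd⟩)]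
        refine ⟨0, fun h0 => ?_, fun k hk => ?_⟩
        · by_cases hr : r = 0
          · subst hr
            refine hvne (ext_pv fun xs => ?_)
            rw [hvd, Units.val_one, one_mulVec]
            congr 1
            funext k
            by_cases hk : k = 0
            · subst hk; rw [h0]; simp
            · rw [hCs]; simp [hB1 k hk, hk]
          · rw [hCs] at h0
            simp [Ne.symm hr] at h0
            exact hB0 h0
        · rw [hCs]
          by_cases hkr : k = r
          · subst hkr; simp [hB1 k hk]; exact hasFix_transv hm ha hb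
          · simp [hB1 k hk, hkr]; exact hasFix_one (by omega)
    refine hzTW (H.tw_of_commute hc hvd hs1 (hCsq s) hsfix hzM ?_)
    rw [hv] at hv2 ⊢
    exact hzcomm _ hv2
  · -- two roots of one slot
    obtain ⟨D, hD⟩ : ∃ D, D = Bs r * transv a b * (Bs r)⁻¹ * transv a b := ⟨_, rfl⟩
    have hvv : v * v = slotEl r D := by
      rw [hD, ← slotEl_mul, ← hconj, hviR, inv_eq_of_mul_eq_one_right hii, rs]
      simp only [mul_assoc]
    have he1 : 2 ≤ e := by
      by_contra h
      have he : e = 1 := by omega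
      refine hcm ?_
      have h2 : v * v = 1 := by have := hvpow; rwa [he, pow_one, pow_two] at this
      rw [hvv] at h2
      have hD1 : D = 1 := slotEl_injective (by omega) r (h2.trans (Units.ext (by simp [slotEl_val, emb_one])))
      rw [hD] at hD1
      have h3 : transv a b * transv a b = 1 := slotEl_injective (by omega) r (by
        rw [← slotEl_mul]; exact hRR.trans (Units.ext (by simp [slotEl_val, emb_one])))
      rw [eq_inv_of_mul_eq_one_left hD1, inv_eq_of_mul_eq_one_right h3]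
    obtain ⟨h, hh⟩ : ∃ h, h = slotEl r (D ^ 2 ^ (e - 2)) := ⟨_, rfl⟩
    have hhv : h = v ^ 2 ^ (e - 1) := by
      rw [hh, ← slotEl_pow, ← hvv, ← pow_two, ← pow_mul, ← pow_succ', show e - 2 + 1 = e - 1 by omega]
    have hh2 : h * h = 1 := by
      rw [hhv, ← pow_add, ← two_mul, ← pow_succ', show e - 1 + 1 = e by omega, hvpow]
    have hh1 : h ≠ 1 := fun h1 => by
      rw [hhv, ← orderOf_dvd_iff_pow_eq_one, hvord] at h1
      have := (Nat.pow_dvd_pow_iff_le_right (by norm_num : 1 < 2)).mp h1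
      omega
    refine hzTW (H.tw_of_commute hc (hh ▸ slotEl_data r (D ^ 2 ^ (e - 2))) (s := r) ?_ ?_ (fun k hk => ?_) hzM ?_)
    · rw [Function.update_self]
      intro h1
      exact hh1 (by rw [hh, h1]; exact Units.ext (by simp [slotEl_val, emb_one]))
    · rw [Function.update_self]
      refine slotEl_injective (by omega) r ?_
      rw [← slotEl_mul, ← hh, hh2]
      exact Units.ext (by simp [slotEl_val, emb_one])
    · rw [Function.update_of_ne hk]; exact hasFix_one (by omega)
    · rw [hhv, hv, ← pow_mul] at hh2 ⊢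
      exact hzcomm _ hh2

end CfsgLib.Classical22.TWMax
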