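/-
Odd characteristic: a root and a conjugate root with non-nilpotent composite lead to a contradiction.
-/
import Cfsg.Agent.Lib.Classical22.TensorWreathMax.Root
import Cfsg.Agent.Lib.Classical22.UnitTensor.Inv

set_option autoImplicit false
set_option linter.unusedSectionVars false
set_option linter.unusedSimpArgs false
set_option maxHeartbeats 800000

namespace CfsgLib.Classical22.TWMax

open Matrix Kronecker CfsgLib.Transvec CfsgLib.Classical22.TensorMax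
open CfsgLib.Classical22.TensorMax.SpO (kr kr_apply isKron_kr)
open scoped MatrixGroups

variable {F : Type*} [Field F] [Fintype F]

section Pair

variable {a b : ℕ}

lemma pt_neg_right (x : Fin a → F) (c : Fin b → F) : pt x (-c) = - pt x c := funext fun p => by simp [pt]

/-- The configuration which cannot occur in odd characteristic. -/
theorem odd_false (hb : 3 ≤ b) (h2 : (2 : F) ≠ 0) {x z : GL (Fin a × Fin b) F} {u φ : Fin b → F}
    (hu : u ≠ 0) (hφu : φ ⬝ᵥ u = 0) (hφ : φ ≠ 0) (hx : ∀ v, x.val *ᵥ v = v + pt (sl φ v) u)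
    (hzz : (z.val - 1) * (z.val - 1) = 0) (hrank : Module.finrank F (mv z) = a)
    (hperp : ∀ ψ : Fin b → F, ψ ≠ 0 → ∃ w, sl ψ (z.val *ᵥ w - w) ≠ 0)
    (hnil : ∀ N : ℕ, ((x.val - 1) * (z.val - 1)) ^ N ≠ 0)
    (hkron : ∀ h ∈ Subgroup.closure ({x, z} : Set (GL (Fin a × Fin b) F)),
      (∀ p, ∃ p', h.val *ᵥ pt p u = pt p' u) → IsKron h) : False := by
  classical
  obtain ⟨G, hG⟩ : ∃ G, G = Subgroup.closure ({x, z} : Set (GL (Fin a × Fin b) F)) := ⟨_, rfl⟩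
  have hxG : x ∈ G := hG ▸ Subgroup.subset_closure (by simp)
  have hzG : z ∈ G := hG ▸ Subgroup.subset_closure (by simp)
  obtain ⟨ZL, hZL⟩ : ∃ ZL : (Fin a × Fin b → F) →ₗ[F] (Fin a × Fin b → F), ∀ v, ZL v = z.val *ᵥ v - v :=
    ⟨Matrix.mulVecLin z.val - LinearMap.id, fun v => rfl⟩
  have hZZ : ∀ v, ZL (ZL v) = 0 := fun v => by
    have := congrArg (· *ᵥ v) hzz
    simp only [← mulVec_mulVec, sub_mulVec, one_mulVec, zero_mulVec] at this
    rw [hZL, hZL]; exact this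
  have hzfix : ∀ v, z.val *ᵥ (ZL v) = ZL v := fun v => sub_eq_zero.mp ((hZL _).symm.trans (hZZ v))
  have hzv : ∀ v, z.val *ᵥ v = v + ZL v := fun v => by rw [hZL]; abel
  -- the composite on the pure subspace
  obtain ⟨T, hT⟩ : ∃ T : Module.End F (Fin a → F), ∀ p, T p = sl φ (ZL (pt p u)) :=
    ⟨(sl φ).comp (ZL.comp (ptL u)), fun p => rfl⟩
  have hxu : ∀ p, x.val *ᵥ pt p u = pt p u := fun p => by
    rw [hx, sl_pt, hφu, zero_smul, pt_zero_left, add_zero]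
  obtain ⟨θ, hθ⟩ : ∃ θ : ((Fin a → F) × (Fin a → F)) →ₗ[F] (Fin a × Fin b → F),
      ∀ p q, θ (p, q) = ZL (pt p u) + pt q u :=
    ⟨(ZL.comp (ptL u)).comp (LinearMap.fst F _ _) + (ptL u).comp (LinearMap.snd F _ _), fun p q => rfl⟩
  have hTnil : ¬ IsNilpotent T := by
    rintro ⟨N, hN⟩
    refine hnil (N + 1) (Matrix.ext_iff_mulVec.2 fun v => ?_)
    have key : ∀ k p, ((x.val - 1) * (z.val - 1)) ^ k *ᵥ pt p u = pt ((T ^ k) p) u := fun k => by
      induction k with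
      | zero => intro p; simp
      | succ k ih =>
        intro p
        rw [pow_succ, ← mulVec_mulVec, show ((x.val - 1) * (z.val - 1)) *ᵥ pt p u = pt (T p) u by
          rw [← mulVec_mulVec, sub_mulVec z.val, one_mulVec, ← hZL, sub_mulVec, one_mulVec, hx, add_sub_cancel_left,
            hT], ih, pow_succ, Module.End.mul_apply]
    rw [pow_succ, ← mulVec_mulVec, show ((x.val - 1) * (z.val - 1)) *ᵥ v = pt (sl φ (ZL v)) u by
      rw [← mulVec_mulVec, sub_mulVec z.val, one_mulVec, ← hZL, sub_mulVec, one_mulVec, hx, add_sub_cancel_left],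
      key, hN, zero_mulVec]
    simp [pt_zero_left]
  -- the scalar involution
  obtain ⟨D, hD⟩ : ∃ D : Module.End F ((Fin a → F) × (Fin a → F)), ∀ p q, D (p, q) = (T p, T q) :=
    ⟨LinearMap.prodMap T T, fun p q => rfl⟩
  obtain ⟨Rep, hRep⟩ : ∃ Rep : Module.End F ((Fin a → F) × (Fin a → F)) → Prop, ∀ m, Rep m ↔
      (∃ h ∈ G, ∀ w, h.val *ᵥ θ w = θ (m w)) ∧ Commute m D := ⟨_, fun m => Iff.rfl⟩
  obtain ⟨α, hα2, hα1, m, hm, hmact⟩ :=
    TensorMax.UnitT.exists_scalar_involution_of_not_nilpotent h2 T hTnil (Rep := Rep)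
      ((hRep 1).mpr ⟨⟨1, one_mem _, fun w => by rw [Units.val_one, one_mulVec]; rfl⟩, Commute.one_left D⟩)
      (fun m m' h h' => by
        obtain ⟨⟨g₁, hg₁, e1⟩, c1⟩ := (hRep m).mp h
        obtain ⟨⟨g₂, hg₂, e2⟩, c2⟩ := (hRep m').mp h'
        exact (hRep _).mpr ⟨⟨g₁ * g₂, mul_mem hg₁ hg₂, fun w => by rw [Transvec.mul_mulVec, e2, e1]; rfl⟩,
          c1.mul_left c2⟩)
      (fun m m' hmm hm'm h => by
        obtain ⟨⟨g₁, hg₁, e1⟩, c1⟩ := (hRep m).mp h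
        refine (hRep m').mpr ⟨⟨g₁⁻¹, inv_mem hg₁, fun w => mulVec_injective g₁ ?_⟩, ?_⟩
        · simp only
          rw [Transvec.mulVec_inv_cancel, e1, ← Module.End.mul_apply, hmm]
          rfl
        · calc m' * D = m' * D * (m * m') := by rw [hmm, mul_one]
            _ = m' * (D * m) * m' := by simp only [mul_assoc]
            _ = D * m' := by rw [← c1.eq, ← mul_assoc m', hm'm, one_mul])
      (fun m hm => (hRep m).mpr ⟨⟨z, hzG, fun w => by
          obtain ⟨p, q⟩ := w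
          rw [hm, hθ, hθ, mulVec_add, hzfix, hzv (pt q u), pt_add_left, show ZL (pt p u + pt q u) =
            ZL (pt p u) + ZL (pt q u) from map_add _ _ _]
          abel⟩, LinearMap.ext fun w => by
          obtain ⟨p, q⟩ := w
          simp only [Module.End.mul_apply, hm, hD, map_add]⟩)
      (fun m hm => (hRep m).mpr ⟨⟨x, hxG, fun w => by
          obtain ⟨p, q⟩ := w
          rw [hm, hθ, hθ, mulVec_add, hxu, hx (ZL (pt p u)), ← hT, pt_add_left]
          abel⟩, LinearMap.ext fun w => by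
          obtain ⟨p, q⟩ := w
          simp only [Module.End.mul_apply, hm, hD, map_add]⟩)
  obtain ⟨⟨h₀, hh₀, hh₀θ⟩, hcD⟩ := (hRep m).mp hm
  have hαT : ∀ p, α (T p) = T (α p) := fun p => by
    have := congrArg Prod.fst (LinearMap.congr_fun hcD.eq (p, 0))
    simpa [Module.End.mul_apply, hmact, hD] using this
  have hαα : ∀ p, α (α p) = p := fun p => LinearMap.congr_fun hα2 p
  -- the layers
  obtain ⟨L₂, hL₂⟩ : ∃ L₂ : Submodule F (Fin a × Fin b → F), L₂ = LinearMap.range θ := ⟨_, rfl⟩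
  obtain ⟨L₁, hL₁⟩ : ∃ L₁ : Submodule F (Fin a × Fin b → F),
      L₁ = LinearMap.range (ptL u) ⊔ LinearMap.range ZL := ⟨_, rfl⟩
  have hptL₂ : ∀ p, pt p u ∈ L₂ := fun p => by
    rw [hL₂]; exact ⟨(0, p), by rw [hθ, pt_zero_left, map_zero, zero_add]⟩
  have hZL₂ : ∀ p, ZL (pt p u) ∈ L₂ := fun p => by
    rw [hL₂]; exact ⟨(p, 0), by rw [hθ, pt_zero_left, add_zero]⟩
  have hmoves : ∀ h ∈ G, (∀ v, h.val *ᵥ v - v ∈ L₁) ∧ (∀ v ∈ L₁, h.val *ᵥ v - v ∈ L₂) ∧
      (∀ v ∈ L₂, h.val *ᵥ v ∈ L₂) := by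
    intro h hh
    rw [hG] at hh
    induction hh using Subgroup.closure_induction with
    | mem g hg =>
      have hgz : ∀ g : GL (Fin a × Fin b) F, (∀ v, g.val *ᵥ v - v ∈ L₁) → (∀ v ∈ L₁, g.val *ᵥ v - v ∈ L₂) →
          (∀ v ∈ L₂, g.val *ᵥ v - v ∈ L₂) → (∀ v, g.val *ᵥ v - v ∈ L₁) ∧ (∀ v ∈ L₁, g.val *ᵥ v - v ∈ L₂) ∧
          (∀ v ∈ L₂, g.val *ᵥ v ∈ L₂) := fun g h1 h2' h3 =>
        ⟨h1, h2', fun v hv => by simpa using L₂.add_mem (h3 v hv) hv⟩
      rcases hg with hg | hg <;> rw [hg]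
      · have e : ∀ v, x.val *ᵥ v - v ∈ L₂ := fun v => by rw [hx, add_sub_cancel_left]; exact hptL₂ _
        refine hgz _ (fun v => ?_) (fun v _ => e v) fun v _ => e v
        rw [hx, add_sub_cancel_left, hL₁]
        exact Submodule.mem_sup_left ⟨_, rfl⟩
      · refine hgz _ (fun v => ?_) (fun v hv => ?_) fun v hv => ?_
        · rw [← hZL, hL₁]; exact Submodule.mem_sup_right ⟨_, rfl⟩
        · rw [hL₁] at hv
          obtain ⟨_, ⟨p, rfl⟩, _, ⟨w, rfl⟩, rfl⟩ := Submodule.mem_sup.mp hv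
          rw [← hZL, map_add, hZZ, add_zero, ptL_apply]
          exact hZL₂ p
        · rw [hL₂] at hv
          obtain ⟨⟨p, q⟩, rfl⟩ := hv
          rw [← hZL, hθ, map_add, hZZ, zero_add]
          exact hZL₂ q
    | one => simp
    | mul g h _ _ hg hh =>
      refine ⟨fun v => ?_, fun v hv => ?_, fun v hv => ?_⟩
      · rw [Transvec.mul_mulVec, ← sub_add_sub_cancel _ (h.val *ᵥ v) v]; exact L₁.add_mem (hg.1 _) (hh.1 v)
      · rw [Transvec.mul_mulVec, ← sub_add_sub_cancel _ (h.val *ᵥ v) v]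
        refine L₂.add_mem (hg.2.1 _ ?_) (hh.2.1 v hv)
        simpa using L₁.add_mem (hh.1 v) hv
      · rw [Transvec.mul_mulVec]; exact hg.2.2 _ (hh.2.2 v hv)
    | inv g _ hg =>
      have hpow : ∀ n : ℕ, (∀ v, (g ^ n).val *ᵥ v - v ∈ L₁) ∧ (∀ v ∈ L₁, (g ^ n).val *ᵥ v - v ∈ L₂) ∧
          (∀ v ∈ L₂, (g ^ n).val *ᵥ v ∈ L₂) := fun n => by
        induction n with
        | zero => simp
        | succ n ih =>
          rw [pow_succ']
          refine ⟨fun v => ?_, fun v hv => ?_, fun v hv => ?_⟩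
          · rw [Transvec.mul_mulVec, ← sub_add_sub_cancel _ ((g ^ n).val *ᵥ v) v]
            exact L₁.add_mem (hg.1 _) (ih.1 v)
          · rw [Transvec.mul_mulVec, ← sub_add_sub_cancel _ ((g ^ n).val *ᵥ v) v]
            refine L₂.add_mem (hg.2.1 _ ?_) (ih.2.1 v hv)
            simpa using L₁.add_mem (ih.1 v) hv
          · rw [Transvec.mul_mulVec]; exact hg.2.2 _ (ih.2.2 v hv)
      rw [inv_eq_of_mul_eq_one_right (show g * g ^ (orderOf g - 1) = 1 by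
        rw [← pow_succ', Nat.sub_add_cancel (orderOf_pos g), pow_orderOf_eq_one])]
      exact hpow _
  -- a true involution
  obtain ⟨p, hp⟩ := CharP.exists F
  haveI : Fact p.Prime := ⟨CharP.char_is_prime F p⟩
  have hp2 : p ≠ 2 := by rintro rfl; exact h2 (by simpa using CharP.cast_eq_zero F 2)
  have hp3 : 3 ≤ p := by have := (Fact.out : p.Prime).two_le; omega
  obtain ⟨k, hk⟩ : Odd p := (Fact.out : p.Prime).odd_of_ne_two hp2
  obtain ⟨h, hhdef⟩ : ∃ h, h = h₀ ^ p := ⟨_, rfl⟩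
  have hh : h ∈ G := hhdef ▸ pow_mem hh₀ _
  have hθ2 : ∀ w, (h₀ * h₀).val *ᵥ θ w = θ w := fun w => by
    obtain ⟨p, q⟩ := w
    rw [Transvec.mul_mulVec, hh₀θ, hh₀θ, hmact, hmact, hαα, hαα]
  have hsq : h * h = 1 := by
    have hnilp : ((h₀ * h₀).val - 1) ^ 3 = 0 := Matrix.ext_iff_mulVec.2 fun v => by
      obtain ⟨m1, m2, -⟩ := hmoves _ (mul_mem hh₀ hh₀)
      obtain ⟨w, hw⟩ := (hL₂ ▸ m2 _ (m1 v) : _ ∈ LinearMap.range θ)
      simp only [pow_succ, pow_zero, one_mul, ← mulVec_mulVec, sub_mulVec, one_mulVec, zero_mulVec]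
      rw [← hw, hθ2, sub_self]
    haveI : Nonempty (Fin a × Fin b) := by
      by_contra hne
      rw [not_nonempty_iff] at hne
      exact hnil 0 (Subsingleton.elim _ _)
    haveI : CharP (Matrix (Fin a × Fin b) (Fin a × Fin b) F) p := Matrix.charP p
    have e := sub_pow_char_of_commute (R := Matrix (Fin a × Fin b) (Fin a × Fin b) F) p
      (x := (h₀ * h₀).val) (y := 1) (Commute.one_right _)
    rw [one_pow, pow_eq_zero_of_le hp3 hnilp] at e
    refine Units.ext ?_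
    rw [hhdef, ← (Commute.refl h₀).mul_pow, Units.val_pow_eq_pow_val, Units.val_one]
    exact sub_eq_zero.mp e.symm
  have hhθ : ∀ p' q', h.val *ᵥ θ (p', q') = θ (α p', α q') := by
    intro p' q'
    have heven : ∀ n, ((h₀ * h₀) ^ n).val *ᵥ θ (α p', α q') = θ (α p', α q') := fun n => by
      induction n with
      | zero => simp
      | succ n ih => rw [pow_succ, Transvec.mul_mulVec, hθ2, ih]
    rw [hhdef, hk, pow_succ, pow_mul, pow_two, Transvec.mul_mulVec, hh₀θ, hmact, heven]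
  have hhu : ∀ p', h.val *ᵥ pt p' u = pt (α p') u := fun p' => by
    have := hhθ 0 p'
    rwa [map_zero, hθ, hθ, pt_zero_left, map_zero, zero_add, zero_add] at this
  have hhZ : ∀ p', h.val *ᵥ ZL (pt p' u) = ZL (pt (α p') u) := fun p' => by
    have := hhθ p' 0
    rwa [map_zero, hθ, hθ, pt_zero_left, add_zero, add_zero] at this
  obtain ⟨Wm, hWm⟩ : ∃ Wm : Submodule F (Fin a → F), ∀ p, p ∈ Wm ↔ α p = -p :=
    ⟨LinearMap.ker (α + 1), fun p => by
      rw [LinearMap.mem_ker, LinearMap.add_apply, Module.End.one_apply, add_eq_zero_iff_eq_neg]⟩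
  have hhalf : ∀ {M : Type _} [AddCommGroup M] [Module F M] (v : M), v + v = 0 → v = 0 := fun v hv => by
    have : (2 : F) • v = 0 := by rw [two_smul, hv]
    exact (smul_eq_zero.mp this).resolve_left h2
  have hVm : ∀ w, h.val *ᵥ w = -w → ∃ p' ∈ Wm, ∃ q' ∈ Wm, w = θ (p', q') := by
    intro w hw
    obtain ⟨m1, m2, -⟩ := hmoves _ hh
    have hc : ∀ {L : Submodule F (Fin a × Fin b → F)}, h.val *ᵥ w - w ∈ L → w ∈ L := fun {L} hL => by
      have := L.smul_mem (-(2 : F)⁻¹) hL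
      rwa [hw, show -w - w = (-(2 : F)) • w by rw [neg_smul, two_smul]; abel, smul_smul, neg_mul_neg,
        inv_mul_cancel₀ h2, one_smul] at this
    obtain ⟨⟨p', q'⟩, rfl⟩ := (hL₂ ▸ hc (m2 w (hc (m1 w))) : _ ∈ LinearMap.range θ)
    rw [hhθ] at hw
    refine ⟨(2 : F)⁻¹ • (p' - α p'), (hWm _).mpr (by rw [map_smul, map_sub, hαα, ← smul_neg, neg_sub]),
      (2 : F)⁻¹ • (q' - α q'), (hWm _).mpr (by rw [map_smul, map_sub, hαα, ← smul_neg, neg_sub]), ?_⟩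
    rw [← Prod.smul_mk, map_smul, ← Prod.mk_sub_mk, map_sub, hw, sub_neg_eq_add, ← two_smul F, smul_smul,
      inv_mul_cancel₀ h2, one_smul]
  have hinj : ∀ p' ∈ Wm, T p' = 0 → p' = 0 := by
    intro p' hp' hTp
    have horb : ∀ g ∈ G, (∃ j : F, g.val *ᵥ pt p' u = pt p' u + j • ZL (pt p' u)) ∧
        g.val *ᵥ ZL (pt p' u) = ZL (pt p' u) := by
      intro g hg
      rw [hG] at hg
      induction hg using Subgroup.closure_induction with
      | mem g hg =>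
        rcases hg with hg | hg <;> rw [hg]
        · exact ⟨⟨0, by rw [hxu, zero_smul, add_zero]⟩, by rw [hx, ← hT, hTp, pt_zero_left, add_zero]⟩
        · exact ⟨⟨1, by rw [hzv, one_smul]⟩, hzfix _⟩
      | one => exact ⟨⟨0, by simp⟩, by simp⟩
      | mul g h _ _ hg hh =>
        obtain ⟨⟨i, hi⟩, hgZ⟩ := hg
        obtain ⟨⟨j, hj⟩, hhZ⟩ := hh
        refine ⟨⟨i + j, ?_⟩, by rw [Transvec.mul_mulVec, hhZ, hgZ]⟩
        rw [Transvec.mul_mulVec, hj, mulVec_add, mulVec_smul, hgZ, hi, add_smul]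
        abel
      | inv g _ hg =>
        obtain ⟨⟨i, hi⟩, hgZ⟩ := hg
        have hZ' : g⁻¹.val *ᵥ ZL (pt p' u) = ZL (pt p' u) := mulVec_injective g (by
          simp only [Transvec.mulVec_inv_cancel, hgZ])
        refine ⟨⟨-i, mulVec_injective g ?_⟩, hZ'⟩
        simp only [Transvec.mulVec_inv_cancel, mulVec_add, mulVec_smul, mulVec_neg, hgZ, hi, neg_smul]
        abel
    obtain ⟨⟨j, hj⟩, hZfix⟩ := horb h hh
    rw [hhu, (hWm p').mp hp'] at hj
    rw [hhZ, (hWm p').mp hp'] at hZfix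
    have hneg : pt (-p') u = - pt p' u := map_neg (ptL u) p'
    rw [hneg, map_neg] at hZfix
    have hz0 : ZL (pt p' u) = 0 := hhalf _ (by nth_rewrite 1 [← hZfix]; rw [neg_add_cancel])
    rw [hz0, smul_zero, add_zero, hneg] at hj
    exact pt_injective hu (show ptL u p' = ptL u 0 by
      rw [map_zero]; exact hhalf _ (by nth_rewrite 1 [ptL_apply, ← hj]; rw [ptL_apply, neg_add_cancel]))
  -- the tensor form
  obtain ⟨A₀, B₀, hAB⟩ := hkron h (hG ▸ hh) fun p' => ⟨α p', hhu p'⟩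
  have hkr : ∀ p' c, h.val *ᵥ pt p' c = pt (A₀.val *ᵥ p') (B₀.val *ᵥ c) := fun p' c => by
    rw [show h = kr A₀ B₀ from Units.ext hAB, kr_apply]
  obtain ⟨p₀, hp₀⟩ : ∃ p₀, α p₀ ≠ p₀ := by
    by_contra hall
    push Not at hall
    exact hα1 (LinearMap.ext hall)
  have hp₀0 : p₀ ≠ 0 := fun h0 => hp₀ (by rw [h0, map_zero])
  obtain ⟨i₀, hi₀⟩ := Function.ne_iff.mp (Transvec.mulVec_ne_zero A₀ hp₀0)
  obtain ⟨β, hβ⟩ : ∃ β : F, B₀.val *ᵥ u = β • u := ⟨((A₀.val *ᵥ p₀) i₀)⁻¹ * α p₀ i₀, by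
    funext j
    have := congrFun ((hkr p₀ u).symm.trans (hhu p₀)) (i₀, j)
    simp only [pt] at this
    rw [Pi.smul_apply, smul_eq_mul, mul_assoc, ← this, inv_mul_cancel_left₀]
    exact hi₀⟩
  have hβ0 : β ≠ 0 := fun h0 => Transvec.mulVec_ne_zero B₀ hu (by rw [hβ, h0, zero_smul])
  have hA : ∀ p', A₀.val *ᵥ p' = β⁻¹ • α p' := fun p' => by
    have := (hkr p' u).symm.trans (hhu p')
    rw [hβ, pt_smul_right, ← pt_smul_left] at this
    rw [← pt_injective hu this, inv_smul_smul₀ hβ0]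
  obtain ⟨B, hB⟩ : ∃ B : Matrix (Fin b) (Fin b) F, B = β⁻¹ • B₀.val := ⟨_, rfl⟩
  have hact : ∀ p' c, h.val *ᵥ pt p' c = pt (α p') (B *ᵥ c) := fun p' c => by
    rw [hkr, hA, hB, smul_mulVec, pt_smul_left, pt_smul_right]
  have hBu : B *ᵥ u = u := by rw [hB, smul_mulVec, hβ, inv_smul_smul₀ hβ0]
  have hBB : ∀ c, B *ᵥ (B *ᵥ c) = c := fun c => by
    obtain ⟨i, hi⟩ := Function.ne_iff.mp hp₀0
    funext j
    have := congrFun (show pt p₀ (B *ᵥ (B *ᵥ c)) = pt p₀ c by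
      have e := congrArg (fun g : GL (Fin a × Fin b) F => g.val *ᵥ pt p₀ c) hsq
      simp only [Transvec.mul_mulVec, hact, hαα, Units.val_one, one_mulVec] at e
      exact e) (i, j)
    simp only [pt] at this
    exact mul_left_cancel₀ hi this
  obtain ⟨q₁, hq₁, hq₁0⟩ : ∃ q₁ ∈ Wm, q₁ ≠ 0 :=
    ⟨p₀ - α p₀, (hWm _).mpr (by rw [map_sub, hαα, neg_sub]), sub_ne_zero.mpr hp₀.symm⟩
  -- a vector of the fixed space off the hyperplane
  have hspan : ∀ b₀ : Fin b → F, φ ⬝ᵥ b₀ = 1 → B *ᵥ b₀ = b₀ → ∀ w, h.val *ᵥ w = -w →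
      ∃ p' ∈ Wm, ∃ q' ∈ Wm, w = pt p' u + pt q' b₀ := by
    intro b₀ hb₀ hBb₀
    obtain ⟨ι₁, hι₁⟩ : ∃ ι₁ : (Wm × Wm) →ₗ[F] (Fin a × Fin b → F), ∀ p' q',
        ι₁ (p', q') = pt (p' : Fin a → F) u + pt (q' : Fin a → F) b₀ :=
      ⟨((ptL u).comp Wm.subtype).comp (LinearMap.fst F _ _) + ((ptL b₀).comp Wm.subtype).comp (LinearMap.snd F _ _),
        fun p' q' => rfl⟩
    obtain ⟨ι₂, hι₂⟩ : ∃ ι₂ : (Wm × Wm) →ₗ[F] (Fin a × Fin b → F), ∀ p' q',
        ι₂ (p', q') = θ ((p' : Fin a → F), (q' : Fin a → F)) :=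
      ⟨θ.comp (Wm.subtype.prodMap Wm.subtype), fun p' q' => rfl⟩
    have hi1 : Function.Injective ι₁ := (injective_iff_map_eq_zero ι₁).mpr fun ⟨p', q'⟩ h0 => by
      rw [hι₁] at h0
      have e := congrArg (sl φ) h0
      rw [map_add, sl_pt, sl_pt, hφu, hb₀, zero_smul, zero_add, one_smul, map_zero] at e
      rw [e, pt_zero_left, add_zero] at h0
      have e' := pt_injective hu (h0.trans (map_zero (ptL u)).symm)
      exact Prod.ext (Subtype.ext e') (Subtype.ext e)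
    have hle : LinearMap.range ι₁ ≤ LinearMap.range ι₂ := by
      rintro _ ⟨⟨p', q'⟩, rfl⟩
      obtain ⟨p'', hp'', q'', hq'', e⟩ := hVm (ι₁ (p', q')) (by
        rw [hι₁, mulVec_add, hact, hact, (hWm _).mp p'.2, (hWm _).mp q'.2, hBu, hBb₀, neg_add]
        exact congrArg₂ (· + ·) (map_neg (ptL u) _) (map_neg (ptL b₀) _))
      exact ⟨(⟨p'', hp''⟩, ⟨q'', hq''⟩), by rw [hι₂, e]⟩
    have heq := Submodule.eq_of_le_of_finrank_le hle (by
      rw [LinearMap.finrank_range_of_inj hi1]; exact LinearMap.finrank_range_le ι₂)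
    intro w hw
    obtain ⟨p', hp', q', hq', rfl⟩ := hVm w hw
    have hmem : θ (p', q') ∈ LinearMap.range ι₁ := heq ▸ ⟨(⟨p', hp'⟩, ⟨q', hq'⟩), hι₂ _ _⟩
    obtain ⟨⟨p'', q''⟩, e⟩ := hmem
    exact ⟨p'', p''.2, q'', q''.2, by rw [← e, hι₁]⟩
  obtain ⟨v₀, hv₀⟩ : ∃ v₀, φ ⬝ᵥ v₀ = 1 := by
    obtain ⟨j, hj⟩ := Function.ne_iff.mp hφ
    exact ⟨Pi.single j (φ j)⁻¹, by rw [dotProduct_single, mul_inv_cancel₀ hj]⟩
  -- the involution is not trivial on the second factor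
  have hB1 : ∃ c, B *ᵥ c ≠ c := by
    by_contra hall
    push Not at hall
    obtain ⟨c, hc⟩ := exists_notMem_span (show 2 < b by omega) ![u, v₀]
    obtain ⟨ψ, hψ, hψc⟩ := exists_functional hc
    obtain ⟨p', -, q', -, e⟩ := hspan v₀ hv₀ (hall v₀) (pt q₁ c) (by
      rw [hact, hall, (hWm _).mp hq₁]; exact map_neg (ptL c) _)
    have e' := congrArg (sl ψ) e
    rw [map_add, sl_pt, sl_pt, sl_pt, hψc, hψ u (Submodule.subset_span ⟨0, rfl⟩),
      hψ v₀ (Submodule.subset_span ⟨1, rfl⟩), zero_smul, zero_smul, one_smul, add_zero] at e'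
    exact hq₁0 e'
  obtain ⟨c₁, hc₁⟩ := hB1
  by_cases hfix : ∃ e, α e = e ∧ e ≠ 0
  · obtain ⟨e, he, he0⟩ := hfix
    have hkill : ∀ c, B *ᵥ c = -c → φ ⬝ᵥ c = 0 := fun c hc => by
      obtain ⟨p', hp', q', -, hw⟩ := hVm (pt e c) (by
        rw [hact, he, hc]; exact pt_neg_right e c)
      have h' := congrArg (sl φ) hw
      rw [hθ, map_add, sl_pt, sl_pt, hφu, zero_smul, add_zero, ← hT] at h'
      have h'' := congrArg α h'
      rw [map_smul, he, hαT, (hWm p').mp hp', map_neg, ← h'] at h''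
      exact (smul_eq_zero.mp (hhalf _ (by nth_rewrite 1 [h'']; rw [neg_add_cancel]))).resolve_right he0
    have hφB : ∀ c, φ ⬝ᵥ (B *ᵥ c) = φ ⬝ᵥ c := fun c => by
      have := hkill (c - B *ᵥ c) (by rw [mulVec_sub, hBB, neg_sub])
      rw [dotProduct_sub, sub_eq_zero] at this
      exact this.symm
    obtain ⟨b₀, hb₀⟩ : ∃ b₀, b₀ = (2 : F)⁻¹ • (v₀ + B *ᵥ v₀) := ⟨_, rfl⟩
    have hb₀1 : φ ⬝ᵥ b₀ = 1 := by
      rw [hb₀, dotProduct_smul, dotProduct_add, hφB, hv₀, smul_eq_mul, mul_add, mul_one, ← two_mul,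
        mul_inv_cancel₀ h2]
    have hBb₀ : B *ᵥ b₀ = b₀ := by rw [hb₀, mulVec_smul, mulVec_add, hBB, add_comm]
    obtain ⟨c, hcdef⟩ : ∃ c, c = c₁ - B *ᵥ c₁ := ⟨_, rfl⟩
    have hc : B *ᵥ c = -c := by rw [hcdef, mulVec_sub, hBB, neg_sub]
    obtain ⟨p', hp', q', hq', hw⟩ := hspan b₀ hb₀1 hBb₀ (pt e c) (by
      rw [hact, he, hc]; exact pt_neg_right e c)
    -- apply the second factor alone
    obtain ⟨i, hi⟩ := Function.ne_iff.mp he0
    have e1 : e i • c = p' i • u + q' i • b₀ := funext fun j => by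
      have := congrFun hw (i, j)
      simpa [pt] using this
    have e2 := congrArg (B *ᵥ ·) e1
    simp only [mulVec_smul, mulVec_add, hc, hBu, hBb₀, smul_neg] at e2
    rw [← e1] at e2
    have := (smul_eq_zero.mp (hhalf (e i • c) (by nth_rewrite 1 [← e2]; rw [neg_add_cancel]))).resolve_left hi
    exact hc₁ (sub_eq_zero.mp (hcdef ▸ this)).symm
  push Not at hfix
  have hneg : ∀ p', α p' = -p' := fun p' => by
    have := hfix (p' + α p') (by rw [map_add, hαα, add_comm])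
    exact eq_neg_of_add_eq_zero_right this
  obtain ⟨ψ, hψ⟩ : ∃ ψ : Fin b → F, ψ ᵥ* B - ψ ≠ 0 := by
    by_contra hall
    push Not at hall
    refine hc₁ (funext fun i => ?_)
    have := congrArg (· ⬝ᵥ c₁) (hall (Pi.single i 1))
    simp only [sub_dotProduct, zero_dotProduct, sub_eq_zero, ← dotProduct_mulVec, single_dotProduct, one_mul] at this
    exact this
  have hslice : ∀ v, sl ψ (h.val *ᵥ v) = - sl (ψ ᵥ* B) v := fun v => by
    rw [eq_sum_pt v, mulVec_sum, map_sum, map_sum, ← Finset.sum_neg_distrib]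
    refine Finset.sum_congr rfl fun j _ => ?_
    rw [hact, sl_pt, sl_pt, hneg, smul_neg, ← dotProduct_mulVec]
  have hZinj : Function.Injective (ZL.comp (ptL u)) := (injective_iff_map_eq_zero _).mpr fun p' h0 =>
    hinj p' ((hWm _).mpr (hneg p')) (by rw [hT, show ZL (pt p' u) = 0 from h0, map_zero])
  have hR : LinearMap.range (ZL.comp (ptL u)) = mv z := Submodule.eq_of_le_of_finrank_eq
    (by rintro _ ⟨p', rfl⟩; rw [LinearMap.comp_apply, hZL]; exact sub_mem_mv _ _)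
    (by rw [LinearMap.finrank_range_of_inj hZinj, Module.finrank_fin_fun, hrank])
  obtain ⟨w, hw⟩ := hperp _ hψ
  obtain ⟨p', hp'⟩ : z.val *ᵥ w - w ∈ LinearMap.range (ZL.comp (ptL u)) := hR ▸ sub_mem_mv _ _
  refine hw ?_
  rw [← hp', LinearMap.comp_apply, ptL_apply]
  have e := hslice (ZL (pt p' u))
  rw [hhZ, hneg, show pt (-p') u = - pt p' u from map_neg (ptL u) p', map_neg, map_neg, neg_inj] at e
  have hlin : sl (ψ ᵥ* B - ψ) (ZL (pt p' u)) = sl (ψ ᵥ* B) (ZL (pt p' u)) - sl ψ (ZL (pt p' u)) := by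
    funext i
    simp [sl, Finset.sum_sub_distrib, sub_mul, mul_sub, sub_dotProduct, dotProduct_sub]
  rw [hlin, e, sub_self]

end Pair

variable {T m : ℕ} {M : Subgroup (GL (Idx (T + 2) m) F)}

/-- Odd characteristic: every element lies in the tensor wreath group. -/
theorem Hyp.tw_of_odd (H : Hyp M) (h2 : (2 : F) ≠ 0) {g : GL (Idx (T + 2) m) F} (hg : g ∈ M) : IsTW g := by
  classical
  by_contra hne
  have hm := H.ctx.three
  obtain ⟨u, hu⟩ : ∃ u : Fin m → F, u ≠ 0 := ⟨Pi.single ⟨0, by omega⟩ 1, by simp⟩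
  obtain ⟨φ, -, hφ, -, hφ0, -, -⟩ := H.exists_two u
  obtain ⟨y, hy⟩ : ∃ y, y = g * rs (0 : Fin (T + 2)) u φ * g⁻¹ := ⟨_, rfl⟩
  have hyM : y ∈ M := hy ▸ mul_mem (mul_mem hg (H.rs_mem 0 hφ)) (inv_mem hg)
  obtain ⟨z, hz⟩ : ∃ z, z = slotG (0 : Fin (T + 2)) y := ⟨_, rfl⟩
  have hzmem : z ∈ M.map (slotG (0 : Fin (T + 2))).toMonoidHom := ⟨y, hyM, hz.symm⟩
  have hxmem : rootB (m ^ (T + 1)) u φ hφ ∈ M.map (slotG (0 : Fin (T + 2))).toMonoidHom := H.ctx.rootB_mem 0 hφ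
  obtain ⟨R, hR⟩ : ∃ R : Matrix (Idx (T + 2) m) (Idx (T + 2) m) F ≃ₐ[F] _,
      R = Matrix.reindexAlgEquiv F F (slotE (m := m) (0 : Fin (T + 2))) := ⟨_, rfl⟩
  have hval : ∀ k : GL (Idx (T + 2) m) F, (slotG (0 : Fin (T + 2)) k).val = R k.val := fun k => by rw [hR]; rfl
  have hvv : ∀ v, (rootB (m ^ (T + 1)) u φ hφ).val *ᵥ v = v + pt (sl φ v) u := rootB_mulVec hφ
  have hnil : ∀ (w ψ : Fin m → F) (hψ : ψ ⬝ᵥ w = 0), w ≠ 0 → ψ ≠ 0 → ∀ N : ℕ,
      (((rootB (m ^ (T + 1)) w ψ hψ).val - 1) * (z.val - 1)) ^ N ≠ 0 := by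
    intro w ψ hψ hw hψ0 N hN
    have hN' : (((rs (0 : Fin (T + 2)) w ψ).val - 1) * ((g * rs (0 : Fin (T + 2)) u φ * g⁻¹).val - 1)) ^ N = 0 := by
      refine R.injective ?_
      rw [map_zero, map_pow, map_mul, map_sub, map_sub, map_one, ← hval, ← hval, rs_slot hψ, ← hy, ← hz]
      exact hN
    exact hne (H.tw_of_nilpotent hg hw hψ hψ0 hu hφ hφ0 hN')
  refine odd_false hm h2 hu hφ hφ0 hvv (z := z) ?_ ?_ (fun ψ hψ0 => ?_) (hnil u φ hφ hu hφ0) fun k hk hfix => ?_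
  · rw [hz, hval, ← map_one R, ← map_sub, ← map_mul, hy, conj_sq g _ (rs_sq hφ), map_zero]
  · rw [hz, slotG, finrank_mv_glReindex, hy, mv_conj, finrank_gim, mv_rs hφ hφ0, finrank_slotW _ hu]
  · -- a root killing the moved space of `z` would give nilpotency
    by_contra hall
    push Not at hall
    obtain ⟨w, hw, hψw⟩ : ∃ w : Fin m → F, w ≠ 0 ∧ ψ ⬝ᵥ w = 0 := by
      obtain ⟨w, -, hw, -, hw0, -, -⟩ := H.exists_two ψ
      exact ⟨w, hw0, by rw [dotProduct_comm]; exact hw⟩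
    refine hnil w ψ hψw hw hψ0 1 (Matrix.ext_iff_mulVec.2 fun v => ?_)
    rw [pow_one, ← mulVec_mulVec, zero_mulVec, sub_mulVec z.val, one_mulVec, sub_mulVec, one_mulVec, rootB_mulVec,
      hall v, pt_zero_left, add_zero, sub_self]
  · have hkM : k ∈ M.map (slotG (0 : Fin (T + 2))).toMonoidHom :=
      (Subgroup.closure_le _).mpr (by rintro _ (rfl | rfl); exacts [hxmem, hzmem]) hk
    obtain ⟨k', hk', rfl⟩ := hkM
    refine H.ctx.kron_of_fix (by omega) H.notSL hk' hu fun v hv => ?_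
    rw [mem_slotW] at hv ⊢
    obtain ⟨p, hp⟩ := hv
    obtain ⟨p', hp'⟩ := hfix p
    rw [← glReindex_mulVec, ← hp, ptL_apply]
    exact ⟨p', hp'.symm⟩

end CfsgLib.Classical22.TWMax
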