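/-
The tensor wreath stabiliser is maximal in the special linear group.
-/
import Cfsg.Agent.Lib.Classical22.TensorWreathMax.Odd
import Cfsg.Agent.Lib.Classical22.TensorWreathMax.CharTwo

set_option autoImplicit false
set_option linter.unusedSectionVars false
set_option linter.unusedSimpArgs false

namespace CfsgLib.Classical22.TWMax

open Matrix Kronecker CfsgLib.Transvec CfsgLib.Classical22.TensorMax
open CfsgLib.Classical22.TensorMax.SpO (kr kr_apply isKron_kr)
open scoped MatrixGroups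

variable {F : Type*} [Field F] {m : ℕ}

/-- The dichotomy for every number of slots. -/
theorem dichotomy [Fintype F] : ∀ t, Dichotomy F t m
  | 0 => fun M _ => Or.inr fun g _ => isTW_one g
  | T + 1 => fun M C => by
    by_cases hSL : Cfsg.Geo.specialLinear (Idx (T + 1 + 1) m) F ≤ M
    · exact Or.inl hSL
    have H : Hyp (T := T) M := ⟨C, hSL, dichotomy T⟩
    refine Or.inr fun g hg => ?_
    by_cases hc : (2 : F) = 0
    · exact H.tw_of_even hc hg
    · exact H.tw_of_odd hc hg

variable {t : ℕ}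

/-- A slot permutation as a permutation of coordinates. -/
def slotPerm (m : ℕ) (σ : Equiv.Perm (Fin t)) : Equiv.Perm (Idx t m) :=
  ⟨fun x => x ∘ σ, fun x => x ∘ σ.symm, fun x => by funext i; simp, fun x => by funext i; simp⟩

lemma permMat_det (σ : Equiv.Perm (Fin t)) :
    (permMat (F := F) (m := m) σ).det = ((Equiv.Perm.sign (slotPerm m σ) : ℤ) : F) := by
  rw [show permMat (F := F) (m := m) σ = (slotPerm m σ).permMatrix F from ?_, det_permutation]
  refine mat_ext_pv fun xs => ?_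
  rw [permMat_mulVec, permMatrix_mulVec]
  funext x
  simp only [pv, Function.comp_apply, slotPerm, Equiv.coe_fn_mk]
  exact (Fintype.prod_equiv σ _ _ fun i => by simp).symm

/-- With an even dimension, a transposition of slots fixing a third one is an even permutation. -/
lemma sign_slotPerm {T : ℕ} (hm : Even m) {σ : Equiv.Perm (Fin (T + 1))} {k : Fin (T + 1)} (hk : σ k = k) :
    Equiv.Perm.sign (slotPerm m σ) = 1 := by
  classical
  have hne : ∀ j, σ (k.succAbove j) ≠ k := fun j h => Fin.succAbove_ne k j (σ.injective (h.trans hk.symm))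
  choose π hπ using fun j => Fin.exists_succAbove_eq (hne j)
  have hinj : Function.Injective π := fun i j h =>
    Fin.succAbove_right_injective (σ.injective (by rw [← hπ, ← hπ, h]))
  obtain ⟨P, hP⟩ : ∃ P : Equiv.Perm (Fin T), ∀ j, P j = π j :=
    ⟨Equiv.ofBijective π (Finite.injective_iff_bijective.mp hinj), fun j => rfl⟩
  have e : slotPerm m σ = (Fin.insertNthEquiv (fun _ => Fin m) k).permCongr
      (Equiv.prodCongrRight fun _ : Fin m => slotPerm m P) := by
    refine Equiv.ext fun x => funext fun i => ?_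
    refine Fin.succAboveCases k ?_ (fun j => ?_) i
    · simp [slotPerm, Equiv.permCongr_apply, hk]
    · simp [slotPerm, Equiv.permCongr_apply, hP, hπ, Fin.removeNth]
  rw [e, Equiv.Perm.sign_permCongr, Equiv.Perm.sign_prodCongrRight, Finset.prod_const, Finset.card_univ,
    Fintype.card_fin]
  obtain ⟨r, rfl⟩ := hm
  rw [pow_add, Int.units_mul_self]

/-- An element of determinant one inducing a transposition of slots. -/
lemma exists_swap (hm : 3 ≤ m) (ht : 2 ≤ t) {i j : Fin (t + 1)} (hij : i ≠ j) :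
    ∃ g : GL (Idx (t + 1) m) F, IsTW g ∧ g.val.det = 1 ∧ ∃ gs, TWData g (Equiv.swap i j) gs := by
  classical
  have hd : TWData (permGL (F := F) (m := m) (Equiv.swap i j)) (Equiv.swap i j) fun _ => 1 := fun xs => by
    rw [permGL_apply]; simp
  rcases Nat.even_or_odd m with he | ho
  · obtain ⟨k, hki, hkj⟩ : ∃ k, k ≠ i ∧ k ≠ j := exists_third (by omega) i j
    refine ⟨_, ⟨_, _, hd⟩, ?_, _, hd⟩
    change (permMat (Equiv.swap i j)).det = 1
    rw [permMat_det, sign_slotPerm he (Equiv.swap_apply_of_ne_of_ne hki hkj)]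
    simp
  · rcases Int.units_eq_one_or (Equiv.Perm.sign (slotPerm m (Equiv.swap i j))) with h | h
    · refine ⟨_, ⟨_, _, hd⟩, ?_, _, hd⟩
      change (permMat (Equiv.swap i j)).det = 1
      rw [permMat_det, h]
      simp
    · obtain ⟨C, hC⟩ : ∃ C : GL (Fin m) F, C = -1 := ⟨_, rfl⟩
      have hdata := (slotEl_data (F := F) (m := m) (0 : Fin (t + 1)) C).mul hd
      refine ⟨_, ⟨_, _, hdata⟩, ?_, _, by simpa using hdata⟩
      rw [Units.val_mul, det_mul, show (permGL (F := F) (m := m) (Equiv.swap i j)).val = permMat (Equiv.swap i j) from rfl,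
        permMat_det, h, slotEl_val, hC, Units.val_neg, Units.val_one,
        show emb (0 : Fin (t + 1)) (-1 : Matrix (Fin m) (Fin m) F) = (-1 : F) • 1 by
          rw [← neg_one_smul F (1 : Matrix (Fin m) (Fin m) F), emb_smul, emb_one],
        det_smul, det_one, mul_one, Fintype.card_fun, Fintype.card_fin, Fintype.card_fin, Odd.neg_one_pow ho.pow]
      simp

/-- The determinant of a slot root. -/
lemma rs_det {u φ : Fin m → F} (s : Fin (t + 1)) (h : φ ⬝ᵥ u = 0) : (rs s u φ).val.det = 1 := by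
  have e := congrArg Matrix.det (show (slotG s (rs s u φ)).val = (rootB (m ^ t) u φ h).val by rw [rs_slot h])
  rw [show (slotG s (rs s u φ)).val = Matrix.reindexAlgEquiv F F (slotE s) (rs s u φ).val from rfl,
    Matrix.reindexAlgEquiv_apply, Matrix.det_reindex_self] at e
  rw [e, rootB_eq_kr h]
  change det ((1 : Matrix (Fin (m ^ t)) (Fin (m ^ t)) F) ⊗ₖ (transv u φ).val) = 1
  rw [det_kronecker, det_one, one_pow, one_mul,
    (Transvec.mem_specialLinear_iff _).mp (transv_mem_specialLinear u φ), one_pow]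

/-- A transvection of the big space is not in the tensor wreath group. -/
lemma exists_notTW (hm : 3 ≤ m) {T : ℕ} :
    ∃ g : GL (Idx (T + 2) m) F, g ∈ Cfsg.Geo.specialLinear (Idx (T + 2) m) F ∧ ¬ IsTW g := by
  classical
  obtain ⟨x, hx⟩ : ∃ x : Idx (T + 2) m, x = fun _ => ⟨0, by omega⟩ := ⟨_, rfl⟩
  obtain ⟨y, hy⟩ : ∃ y : Idx (T + 2) m, y = fun _ => ⟨1, by omega⟩ := ⟨_, rfl⟩
  have hxy : x ≠ y := fun h => by simpa [hx, hy] using congrFun h 0
  have hd : (Pi.single y 1 : Idx (T + 2) m → F) ⬝ᵥ Pi.single x 1 = 0 := by simp [Ne.symm hxy]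
  obtain ⟨g, hg⟩ : ∃ g : GL (Idx (T + 2) m) F, g = transv (Pi.single x 1) (Pi.single y 1) := ⟨_, rfl⟩
  refine ⟨g, hg ▸ transv_mem_specialLinear _ _, ?_⟩
  rintro ⟨σ, gs, hd'⟩
  have hgb : ∀ z, z ≠ y → g.val *ᵥ Pi.single z 1 = Pi.single z 1 := fun z hz => by
    rw [hg, transv_mulVec hd, single_dotProduct, one_mul, Pi.single_eq_of_ne (Ne.symm hz), zero_smul, add_zero]
  have hσ : σ = 1 := by
    ext1 i
    by_contra hi
    rw [Equiv.Perm.one_apply] at hi
    -- two basis vectors differing in one slot only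
    obtain ⟨c, hc1, hc2⟩ := exists_third hm (⟨1, by omega⟩ : Fin m) ⟨0, by omega⟩
    have key : ∀ a, a ≠ (⟨1, by omega⟩ : Fin m) →
        (gs i).val *ᵥ Pi.single a 1 ∈ Submodule.span F ({Pi.single (⟨0, by omega⟩ : Fin m) 1} : Set (Fin m → F)) := by
      intro a ha
      obtain ⟨z, hz⟩ : ∃ z : Idx (T + 2) m, z = Function.update x (σ i) a := ⟨_, rfl⟩
      have hzy : z ≠ y := fun h => ha (by simpa [hz, hy] using congrFun h (σ i))
      have e := hgb z hzy
      rw [single_eq_pv, hd'] at e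
      have := mem_span_of_pv_eq (xs := fun k => Pi.single (z k) (1 : F))
        (ys := fun k => (gs k).val *ᵥ Pi.single (z (σ k)) 1) (fun k => by simp)
        (fun k => Transvec.mulVec_ne_zero _ (by simp)) (l := 1) (by rw [one_smul]; exact e) i
      simpa [hz, Ne.symm hi, hx] using this
    obtain ⟨l₀, hl₀⟩ := Submodule.mem_span_singleton.mp (key ⟨0, by omega⟩ (by simp))
    obtain ⟨l₁, hl₁⟩ := Submodule.mem_span_singleton.mp (key c hc1)
    have hl0 : l₀ ≠ 0 := fun h0 => Transvec.mulVec_ne_zero (gs i) (show (Pi.single (⟨0, by omega⟩ : Fin m) 1 : Fin m → F) ≠ 0 by simp)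
      (by rw [← hl₀, h0, zero_smul])
    have e : (gs i).val *ᵥ (Pi.single c 1 - (l₁ / l₀) • Pi.single (⟨0, by omega⟩ : Fin m) 1) = 0 := by
      rw [mulVec_sub, mulVec_smul, ← hl₀, ← hl₁, smul_smul, div_mul_cancel₀ _ hl0, sub_self]
    have e' := congrFun (show Pi.single c 1 - (l₁ / l₀) • Pi.single (⟨0, by omega⟩ : Fin m) (1 : F) = 0 from
      Transvec.mulVec_injective (gs i) (by simpa using e)) c
    simp [hc2] at e'
  subst hσ
  have hle : mv g ≤ Submodule.span F ({Pi.single x 1} : Set (Idx (T + 2) m → F)) := by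
    intro w hw
    obtain ⟨e, rfl⟩ := mem_mv.mp hw
    rw [hg, transv_mulVec hd, add_sub_cancel_left]
    exact Submodule.smul_mem _ _ (Submodule.mem_span_singleton_self _)
  have h1 := (Submodule.finrank_mono hle).trans (finrank_span_singleton (by simp)).le
  have hpow : 3 ≤ m ^ (T + 1) := hm.trans (Nat.le_self_pow (by omega) m)
  obtain ⟨s, u, hu, he⟩ := pure_of_base (t := T + 1) hm hd' (fun h => by
    have e := congrArg (fun k : GL (Idx (T + 2) m) F => (k.val *ᵥ Pi.single y 1) x) h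
    simp [hg, transv_mulVec hd, hxy] at e) (h1.trans (by omega))
  rw [he, finrank_slotW _ hu] at h1
  omega

/-- The subgroup conjugated and transported. -/
theorem isMaximalIn_tensorWreath [Fintype F] {ι : Type} [Fintype ι] [DecidableEq ι] (T : ℕ) (hm : 3 ≤ m)
    (e : ι ≃ (Fin (T + 2) → Fin m)) (P : GL ι F) :
    Cfsg.Geo.IsMaximalIn (Cfsg.Geo.specialLinear ι F)
      (Cfsg.Geo.tensorWreathSubgroup m (T + 2) e P ⊓ Cfsg.Geo.specialLinear ι F) := by
  classical
  obtain ⟨f, hf⟩ : ∃ f : GL (Idx (T + 2) m) F ≃* GL ι F, ∀ g, f g = MulAut.conj P (Cfsg.Geo.glReindex e.symm g) :=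
    ⟨(Cfsg.Geo.glReindex e.symm).trans (MulAut.conj P), fun g => rfl⟩
  have hdet : ∀ g, f g ∈ Cfsg.Geo.specialLinear ι F ↔ g ∈ Cfsg.Geo.specialLinear (Idx (T + 2) m) F := fun g => by
    rw [mem_specialLinear_iff, mem_specialLinear_iff, hf, MulAut.conj_apply, Units.val_mul, Units.val_mul,
      det_units_conj, show (Cfsg.Geo.glReindex e.symm g).val = Matrix.reindexAlgEquiv F F e.symm g.val from rfl,
      Matrix.reindexAlgEquiv_apply, Matrix.det_reindex_self]
  have hK : ∀ g, f g ∈ Cfsg.Geo.tensorWreathSubgroup m (T + 2) e P ↔ IsTW g := fun g => by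
    rw [← mem_standard_iff, hf]
    constructor
    · rintro ⟨_, ⟨k, hk, rfl⟩, he⟩
      rwa [← (Cfsg.Geo.glReindex e.symm).injective ((MulAut.conj P).injective he)]
    · exact fun h => ⟨_, ⟨g, h, rfl⟩, rfl⟩
  refine ⟨lt_of_le_of_ne inf_le_right fun h => ?_, fun M hM hMle => ?_⟩
  · obtain ⟨g, hg, hgn⟩ := exists_notTW (F := F) hm (T := T)
    have h1 : f g ∈ Cfsg.Geo.specialLinear ι F := (hdet g).mpr hg
    rw [← h] at h1
    exact hgn ((hK g).mp h1.1)
  obtain ⟨M', hM'⟩ : ∃ M' : Subgroup (GL (Idx (T + 2) m) F), ∀ g, g ∈ M' ↔ f g ∈ M :=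
    ⟨M.comap f.toMonoidHom, fun g => Iff.rfl⟩
  have hin : ∀ g : GL (Idx (T + 2) m) F, IsTW g → g.val.det = 1 → g ∈ M' := fun g h1 h2 =>
    (hM' g).mpr (hM ⟨(hK g).mpr h1, (hdet g).mpr ((mem_specialLinear_iff g).mpr h2)⟩)
  have C : WCtx (t := T + 1) M' :=
    { three := hm
      root := fun s u φ h => hin _ ⟨1, _, slotEl_data s (transv u φ)⟩ (rs_det s h)
      perm := fun h2 σ => by
        induction σ using Equiv.Perm.swap_induction_on with
        | one => exact ⟨1, M'.one_mem, _, twData_one⟩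
        | swap_mul σ i j hij ih =>
          obtain ⟨g, hg, gs, hgs⟩ := ih
          obtain ⟨h, hh, hhd, hs, hhs⟩ := exists_swap (F := F) hm h2 hij
          exact ⟨g * h, mul_mem hg (hin h hh hhd), _, hgs.mul hhs⟩ }
  rcases dichotomy (T + 1) M' C with hle | hall
  · refine Or.inr (le_antisymm hMle fun x hx => ?_)
    obtain ⟨g, rfl⟩ := f.surjective x
    exact (hM' g).mp (hle ((hdet g).mp hx))
  · refine Or.inl (le_antisymm (fun x hx => ?_) hM)
    obtain ⟨g, rfl⟩ := f.surjective x
    exact ⟨(hK g).mpr (hall g ((hM' g).mpr hx)), hMle hx⟩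

end CfsgLib.Classical22.TWMax
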